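import Mathlib
import Cfsg.Agent.Lib.Sporadic.MultHs.Pack0
import Cfsg.Agent.Lib.Sporadic.MultHs.Pack1
import Cfsg.Agent.Lib.Sporadic.MultHs.Pack2
import Cfsg.Agent.Lib.Sporadic.MultHs.Pack3
import Cfsg.Agent.Lib.Sporadic.MultHs.Data
import Cfsg.Agent.Lib.Schur.CheckParts

/-!
# Shape and permutations of table 0
-/

set_option autoImplicit false
set_option maxRecDepth 100000
set_option maxHeartbeats 0
set_option Elab.async false

noncomputable section

namespace CfsgLib.Sporadic.MultHs

open CfsgLib.Schur.Cert CfsgLib.Sporadic

theorem head0 : shapeHead level0 [level1, level2, level3] (top) = true := by decide +kernel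

theorem srel0_0 : allFrom (shapeRel (chainRels chain top) level0 (top)) 0 2 = true := by decide +kernel

theorem srel0_2 : allFrom (shapeRel (chainRels chain top) level0 (top)) 2 4 = true := by decide +kernel

theorem srel0_4 : allFrom (shapeRel (chainRels chain top) level0 (top)) 4 6 = true := by decide +kernel

theorem srel0_6 : allFrom (shapeRel (chainRels chain top) level0 (top)) 6 8 = true := by decide +kernel

theorem srel0_8 : allFrom (shapeRel (chainRels chain top) level0 (top)) 8 10 = true := by decide +kernel

theorem srel0_10 : allFrom (shapeRel (chainRels chain top) level0 (top)) 10 12 = true := by decide +kernel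

theorem srel0_12 : allFrom (shapeRel (chainRels chain top) level0 (top)) 12 14 = true := by decide +kernel

theorem permsGen0 : permsGen 100 level0 [level1, level2, level3] = true := by decide +kernel

theorem rel0_0 : allFrom (permsRel 100 level0) 0 1 = true := by decide +kernel

theorem rel0_1 : allFrom (permsRel 100 level0) 1 2 = true := by decide +kernel

theorem rel0_2 : allFrom (permsRel 100 level0) 2 3 = true := by decide +kernel

theorem rel0_3 : allFrom (permsRel 100 level0) 3 4 = true := by decide +kernel

theorem rel0_4 : allFrom (permsRel 100 level0) 4 5 = true := by decide +kernel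

theorem rel0_5 : allFrom (permsRel 100 level0) 5 6 = true := by decide +kernel

theorem rel0_6 : allFrom (permsRel 100 level0) 6 7 = true := by decide +kernel

theorem rel0_7 : allFrom (permsRel 100 level0) 7 8 = true := by decide +kernel

theorem rel0_8 : allFrom (permsRel 100 level0) 8 9 = true := by decide +kernel

theorem rel0_9 : allFrom (permsRel 100 level0) 9 10 = true := by decide +kernel

theorem rel0_10 : allFrom (permsRel 100 level0) 10 11 = true := by decide +kernel

theorem rel0_11 : allFrom (permsRel 100 level0) 11 12 = true := by decide +kernel

theorem rel0_12 : allFrom (permsRel 100 level0) 12 13 = true := by decide +kernel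

theorem rel0_13 : allFrom (permsRel 100 level0) 13 14 = true := by decide +kernel

theorem path0_0 : allFrom (permsPath level0) 0 100 = true := by decide +kernel

theorem permsKey0 : permsKey level0 [level1, level2, level3] = true := by decide +kernel

end CfsgLib.Sporadic.MultHs
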