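import Mathlib
import Cfsg.Agent.Lib.Sporadic.MultHs.Pack0
import Cfsg.Agent.Lib.Sporadic.MultHs.Pack1
import Cfsg.Agent.Lib.Sporadic.MultHs.Pack2
import Cfsg.Agent.Lib.Sporadic.MultHs.Pack3
import Cfsg.Agent.Lib.Sporadic.MultHs.Data
import Cfsg.Agent.Lib.Schur.CheckParts

/-!
# Deductions of table 0
-/

set_option autoImplicit false
set_option maxRecDepth 100000
set_option maxHeartbeats 0
set_option Elab.async false

noncomputable section

namespace CfsgLib.Sporadic.MultHs

open CfsgLib.Schur.Cert CfsgLib.Sporadic

theorem ded0_0 : allFrom (dedAt level0 pack0 [level1, level2, level3] [pack1, pack2, pack3]) 0 1 = true := by decide +kernel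

theorem ded0_1 : allFrom (dedAt level0 pack0 [level1, level2, level3] [pack1, pack2, pack3]) 1 2 = true := by decide +kernel

theorem ded0_2 : allFrom (dedAt level0 pack0 [level1, level2, level3] [pack1, pack2, pack3]) 2 3 = true := by decide +kernel

theorem ded0_3 : allFrom (dedAt level0 pack0 [level1, level2, level3] [pack1, pack2, pack3]) 3 4 = true := by decide +kernel

theorem ded0_4 : allFrom (dedAt level0 pack0 [level1, level2, level3] [pack1, pack2, pack3]) 4 5 = true := by decide +kernel

theorem ded0_5 : allFrom (dedAt level0 pack0 [level1, level2, level3] [pack1, pack2, pack3]) 5 6 = true := by decide +kernel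

theorem ded0_6 : allFrom (dedAt level0 pack0 [level1, level2, level3] [pack1, pack2, pack3]) 6 7 = true := by decide +kernel

theorem ded0_7 : allFrom (dedAt level0 pack0 [level1, level2, level3] [pack1, pack2, pack3]) 7 8 = true := by decide +kernel

theorem ded0_8 : allFrom (dedAt level0 pack0 [level1, level2, level3] [pack1, pack2, pack3]) 8 9 = true := by decide +kernel

theorem ded0_9 : allFrom (dedAt level0 pack0 [level1, level2, level3] [pack1, pack2, pack3]) 9 10 = true := by decide +kernel

theorem ded0_10 : allFrom (dedAt level0 pack0 [level1, level2, level3] [pack1, pack2, pack3]) 10 11 = true := by decide +kernel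

theorem ded0_11 : allFrom (dedAt level0 pack0 [level1, level2, level3] [pack1, pack2, pack3]) 11 12 = true := by decide +kernel

theorem ded0_12 : allFrom (dedAt level0 pack0 [level1, level2, level3] [pack1, pack2, pack3]) 12 13 = true := by decide +kernel

theorem ded0_13 : allFrom (dedAt level0 pack0 [level1, level2, level3] [pack1, pack2, pack3]) 13 14 = true := by decide +kernel

theorem ded0_14 : allFrom (dedAt level0 pack0 [level1, level2, level3] [pack1, pack2, pack3]) 14 15 = true := by decide +kernel

theorem ded0_15 : allFrom (dedAt level0 pack0 [level1, level2, level3] [pack1, pack2, pack3]) 15 16 = true := by decide +kernel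

theorem ded0_16 : allFrom (dedAt level0 pack0 [level1, level2, level3] [pack1, pack2, pack3]) 16 17 = true := by decide +kernel

theorem ded0_17 : allFrom (dedAt level0 pack0 [level1, level2, level3] [pack1, pack2, pack3]) 17 18 = true := by decide +kernel

theorem ded0_18 : allFrom (dedAt level0 pack0 [level1, level2, level3] [pack1, pack2, pack3]) 18 19 = true := by decide +kernel

theorem ded0_19 : allFrom (dedAt level0 pack0 [level1, level2, level3] [pack1, pack2, pack3]) 19 20 = true := by decide +kernel

theorem ded0_20 : allFrom (dedAt level0 pack0 [level1, level2, level3] [pack1, pack2, pack3]) 20 21 = true := by decide +kernel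

theorem ded0_21 : allFrom (dedAt level0 pack0 [level1, level2, level3] [pack1, pack2, pack3]) 21 22 = true := by decide +kernel

theorem ded0_22 : allFrom (dedAt level0 pack0 [level1, level2, level3] [pack1, pack2, pack3]) 22 23 = true := by decide +kernel

theorem ded0_23 : allFrom (dedAt level0 pack0 [level1, level2, level3] [pack1, pack2, pack3]) 23 24 = true := by decide +kernel

theorem ded0_24 : allFrom (dedAt level0 pack0 [level1, level2, level3] [pack1, pack2, pack3]) 24 25 = true := by decide +kernel

theorem ded0_25 : allFrom (dedAt level0 pack0 [level1, level2, level3] [pack1, pack2, pack3]) 25 26 = true := by decide +kernel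

theorem ded0_26 : allFrom (dedAt level0 pack0 [level1, level2, level3] [pack1, pack2, pack3]) 26 27 = true := by decide +kernel

theorem ded0_27 : allFrom (dedAt level0 pack0 [level1, level2, level3] [pack1, pack2, pack3]) 27 28 = true := by decide +kernel

theorem ded0_28 : allFrom (dedAt level0 pack0 [level1, level2, level3] [pack1, pack2, pack3]) 28 29 = true := by decide +kernel

theorem ded0_29 : allFrom (dedAt level0 pack0 [level1, level2, level3] [pack1, pack2, pack3]) 29 30 = true := by decide +kernel

end CfsgLib.Sporadic.MultHs
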