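import Mathlib
import Cfsg.Agent.Lib.Sporadic.MultHs.Pack0
import Cfsg.Agent.Lib.Sporadic.MultHs.Pack1
import Cfsg.Agent.Lib.Sporadic.MultHs.Pack2
import Cfsg.Agent.Lib.Sporadic.MultHs.Pack3
import Cfsg.Agent.Lib.Sporadic.MultHs.Data
import Cfsg.Agent.Lib.Schur.CheckParts

/-!
# Deductions of table 0
-/

set_option autoImplicit false
set_option maxRecDepth 100000
set_option maxHeartbeats 0
set_option Elab.async false

noncomputable section

namespace CfsgLib.Sporadic.MultHs

open CfsgLib.Schur.Cert CfsgLib.Sporadic

theorem ded0_30 : allFrom (dedAt level0 pack0 [level1, level2, level3] [pack1, pack2, pack3]) 30 31 = true := by decide +kernel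

theorem ded0_31 : allFrom (dedAt level0 pack0 [level1, level2, level3] [pack1, pack2, pack3]) 31 32 = true := by decide +kernel

theorem ded0_32 : allFrom (dedAt level0 pack0 [level1, level2, level3] [pack1, pack2, pack3]) 32 33 = true := by decide +kernel

theorem ded0_33 : allFrom (dedAt level0 pack0 [level1, level2, level3] [pack1, pack2, pack3]) 33 34 = true := by decide +kernel

theorem ded0_34 : allFrom (dedAt level0 pack0 [level1, level2, level3] [pack1, pack2, pack3]) 34 35 = true := by decide +kernel

theorem ded0_35 : allFrom (dedAt level0 pack0 [level1, level2, level3] [pack1, pack2, pack3]) 35 36 = true := by decide +kernel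

theorem ded0_36 : allFrom (dedAt level0 pack0 [level1, level2, level3] [pack1, pack2, pack3]) 36 37 = true := by decide +kernel

theorem ded0_37 : allFrom (dedAt level0 pack0 [level1, level2, level3] [pack1, pack2, pack3]) 37 38 = true := by decide +kernel

theorem ded0_38 : allFrom (dedAt level0 pack0 [level1, level2, level3] [pack1, pack2, pack3]) 38 39 = true := by decide +kernel

theorem ded0_39 : allFrom (dedAt level0 pack0 [level1, level2, level3] [pack1, pack2, pack3]) 39 40 = true := by decide +kernel

theorem ded0_40 : allFrom (dedAt level0 pack0 [level1, level2, level3] [pack1, pack2, pack3]) 40 41 = true := by decide +kernel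

theorem ded0_41 : allFrom (dedAt level0 pack0 [level1, level2, level3] [pack1, pack2, pack3]) 41 42 = true := by decide +kernel

theorem ded0_42 : allFrom (dedAt level0 pack0 [level1, level2, level3] [pack1, pack2, pack3]) 42 43 = true := by decide +kernel

theorem ded0_43 : allFrom (dedAt level0 pack0 [level1, level2, level3] [pack1, pack2, pack3]) 43 44 = true := by decide +kernel

theorem ded0_44 : allFrom (dedAt level0 pack0 [level1, level2, level3] [pack1, pack2, pack3]) 44 45 = true := by decide +kernel

theorem ded0_45 : allFrom (dedAt level0 pack0 [level1, level2, level3] [pack1, pack2, pack3]) 45 46 = true := by decide +kernel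

theorem ded0_46 : allFrom (dedAt level0 pack0 [level1, level2, level3] [pack1, pack2, pack3]) 46 47 = true := by decide +kernel

theorem ded0_47 : allFrom (dedAt level0 pack0 [level1, level2, level3] [pack1, pack2, pack3]) 47 48 = true := by decide +kernel

theorem ded0_48 : allFrom (dedAt level0 pack0 [level1, level2, level3] [pack1, pack2, pack3]) 48 49 = true := by decide +kernel

theorem ded0_49 : allFrom (dedAt level0 pack0 [level1, level2, level3] [pack1, pack2, pack3]) 49 50 = true := by decide +kernel

theorem ded0_50 : allFrom (dedAt level0 pack0 [level1, level2, level3] [pack1, pack2, pack3]) 50 51 = true := by decide +kernel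

theorem ded0_51 : allFrom (dedAt level0 pack0 [level1, level2, level3] [pack1, pack2, pack3]) 51 52 = true := by decide +kernel

theorem ded0_52 : allFrom (dedAt level0 pack0 [level1, level2, level3] [pack1, pack2, pack3]) 52 53 = true := by decide +kernel

theorem ded0_53 : allFrom (dedAt level0 pack0 [level1, level2, level3] [pack1, pack2, pack3]) 53 54 = true := by decide +kernel

theorem ded0_54 : allFrom (dedAt level0 pack0 [level1, level2, level3] [pack1, pack2, pack3]) 54 55 = true := by decide +kernel

theorem ded0_55 : allFrom (dedAt level0 pack0 [level1, level2, level3] [pack1, pack2, pack3]) 55 56 = true := by decide +kernel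

theorem ded0_56 : allFrom (dedAt level0 pack0 [level1, level2, level3] [pack1, pack2, pack3]) 56 57 = true := by decide +kernel

theorem ded0_57 : allFrom (dedAt level0 pack0 [level1, level2, level3] [pack1, pack2, pack3]) 57 58 = true := by decide +kernel

theorem ded0_58 : allFrom (dedAt level0 pack0 [level1, level2, level3] [pack1, pack2, pack3]) 58 59 = true := by decide +kernel

theorem ded0_59 : allFrom (dedAt level0 pack0 [level1, level2, level3] [pack1, pack2, pack3]) 59 60 = true := by decide +kernel

end CfsgLib.Sporadic.MultHs
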