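import Mathlib
import Cfsg.Agent.Lib.Sporadic.MultHs.Pack0
import Cfsg.Agent.Lib.Sporadic.MultHs.Pack1
import Cfsg.Agent.Lib.Sporadic.MultHs.Pack2
import Cfsg.Agent.Lib.Sporadic.MultHs.Pack3
import Cfsg.Agent.Lib.Sporadic.MultHs.Data
import Cfsg.Agent.Lib.Schur.CheckParts

/-!
# Deductions of table 0
-/

set_option autoImplicit false
set_option maxRecDepth 100000
set_option maxHeartbeats 0
set_option Elab.async false

noncomputable section

namespace CfsgLib.Sporadic.MultHs

open CfsgLib.Schur.Cert CfsgLib.Sporadic

theorem ded0_60 : allFrom (dedAt level0 pack0 [level1, level2, level3] [pack1, pack2, pack3]) 60 61 = true := by decide +kernel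

theorem ded0_61 : allFrom (dedAt level0 pack0 [level1, level2, level3] [pack1, pack2, pack3]) 61 62 = true := by decide +kernel

theorem ded0_62 : allFrom (dedAt level0 pack0 [level1, level2, level3] [pack1, pack2, pack3]) 62 63 = true := by decide +kernel

theorem ded0_63 : allFrom (dedAt level0 pack0 [level1, level2, level3] [pack1, pack2, pack3]) 63 64 = true := by decide +kernel

theorem ded0_64 : allFrom (dedAt level0 pack0 [level1, level2, level3] [pack1, pack2, pack3]) 64 65 = true := by decide +kernel

theorem ded0_65 : allFrom (dedAt level0 pack0 [level1, level2, level3] [pack1, pack2, pack3]) 65 66 = true := by decide +kernel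

theorem ded0_66 : allFrom (dedAt level0 pack0 [level1, level2, level3] [pack1, pack2, pack3]) 66 67 = true := by decide +kernel

theorem ded0_67 : allFrom (dedAt level0 pack0 [level1, level2, level3] [pack1, pack2, pack3]) 67 68 = true := by decide +kernel

theorem ded0_68 : allFrom (dedAt level0 pack0 [level1, level2, level3] [pack1, pack2, pack3]) 68 69 = true := by decide +kernel

theorem ded0_69 : allFrom (dedAt level0 pack0 [level1, level2, level3] [pack1, pack2, pack3]) 69 70 = true := by decide +kernel

theorem ded0_70 : allFrom (dedAt level0 pack0 [level1, level2, level3] [pack1, pack2, pack3]) 70 71 = true := by decide +kernel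

theorem ded0_71 : allFrom (dedAt level0 pack0 [level1, level2, level3] [pack1, pack2, pack3]) 71 72 = true := by decide +kernel

theorem ded0_72 : allFrom (dedAt level0 pack0 [level1, level2, level3] [pack1, pack2, pack3]) 72 73 = true := by decide +kernel

theorem ded0_73 : allFrom (dedAt level0 pack0 [level1, level2, level3] [pack1, pack2, pack3]) 73 74 = true := by decide +kernel

theorem ded0_74 : allFrom (dedAt level0 pack0 [level1, level2, level3] [pack1, pack2, pack3]) 74 75 = true := by decide +kernel

theorem ded0_75 : allFrom (dedAt level0 pack0 [level1, level2, level3] [pack1, pack2, pack3]) 75 76 = true := by decide +kernel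

theorem ded0_76 : allFrom (dedAt level0 pack0 [level1, level2, level3] [pack1, pack2, pack3]) 76 77 = true := by decide +kernel

theorem ded0_77 : allFrom (dedAt level0 pack0 [level1, level2, level3] [pack1, pack2, pack3]) 77 78 = true := by decide +kernel

theorem ded0_78 : allFrom (dedAt level0 pack0 [level1, level2, level3] [pack1, pack2, pack3]) 78 79 = true := by decide +kernel

theorem ded0_79 : allFrom (dedAt level0 pack0 [level1, level2, level3] [pack1, pack2, pack3]) 79 80 = true := by decide +kernel

theorem ded0_80 : allFrom (dedAt level0 pack0 [level1, level2, level3] [pack1, pack2, pack3]) 80 81 = true := by decide +kernel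

theorem ded0_81 : allFrom (dedAt level0 pack0 [level1, level2, level3] [pack1, pack2, pack3]) 81 82 = true := by decide +kernel

theorem ded0_82 : allFrom (dedAt level0 pack0 [level1, level2, level3] [pack1, pack2, pack3]) 82 83 = true := by decide +kernel

theorem ded0_83 : allFrom (dedAt level0 pack0 [level1, level2, level3] [pack1, pack2, pack3]) 83 84 = true := by decide +kernel

theorem ded0_84 : allFrom (dedAt level0 pack0 [level1, level2, level3] [pack1, pack2, pack3]) 84 85 = true := by decide +kernel

theorem ded0_85 : allFrom (dedAt level0 pack0 [level1, level2, level3] [pack1, pack2, pack3]) 85 86 = true := by decide +kernel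

theorem ded0_86 : allFrom (dedAt level0 pack0 [level1, level2, level3] [pack1, pack2, pack3]) 86 87 = true := by decide +kernel

theorem ded0_87 : allFrom (dedAt level0 pack0 [level1, level2, level3] [pack1, pack2, pack3]) 87 88 = true := by decide +kernel

theorem ded0_88 : allFrom (dedAt level0 pack0 [level1, level2, level3] [pack1, pack2, pack3]) 88 89 = true := by decide +kernel

theorem ded0_89 : allFrom (dedAt level0 pack0 [level1, level2, level3] [pack1, pack2, pack3]) 89 90 = true := by decide +kernel

end CfsgLib.Sporadic.MultHs
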