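import Mathlib
import Cfsg.Agent.Lib.Sporadic.MultHs.Pack0
import Cfsg.Agent.Lib.Sporadic.MultHs.Pack1
import Cfsg.Agent.Lib.Sporadic.MultHs.Pack2
import Cfsg.Agent.Lib.Sporadic.MultHs.Pack3
import Cfsg.Agent.Lib.Sporadic.MultHs.Data
import Cfsg.Agent.Lib.Schur.CheckParts

/-!
# Deductions of table 0
-/

set_option autoImplicit false
set_option maxRecDepth 100000
set_option maxHeartbeats 0
set_option Elab.async false

noncomputable section

namespace CfsgLib.Sporadic.MultHs

open CfsgLib.Schur.Cert CfsgLib.Sporadic

theorem ded0_90 : allFrom (dedAt level0 pack0 [level1, level2, level3] [pack1, pack2, pack3]) 90 91 = true := by decide +kernel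

theorem ded0_91 : allFrom (dedAt level0 pack0 [level1, level2, level3] [pack1, pack2, pack3]) 91 92 = true := by decide +kernel

theorem ded0_92 : allFrom (dedAt level0 pack0 [level1, level2, level3] [pack1, pack2, pack3]) 92 93 = true := by decide +kernel

theorem ded0_93 : allFrom (dedAt level0 pack0 [level1, level2, level3] [pack1, pack2, pack3]) 93 94 = true := by decide +kernel

theorem ded0_94 : allFrom (dedAt level0 pack0 [level1, level2, level3] [pack1, pack2, pack3]) 94 95 = true := by decide +kernel

theorem ded0_95 : allFrom (dedAt level0 pack0 [level1, level2, level3] [pack1, pack2, pack3]) 95 96 = true := by decide +kernel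

theorem ded0_96 : allFrom (dedAt level0 pack0 [level1, level2, level3] [pack1, pack2, pack3]) 96 97 = true := by decide +kernel

theorem ded0_97 : allFrom (dedAt level0 pack0 [level1, level2, level3] [pack1, pack2, pack3]) 97 98 = true := by decide +kernel

theorem ded0_98 : allFrom (dedAt level0 pack0 [level1, level2, level3] [pack1, pack2, pack3]) 98 99 = true := by decide +kernel

theorem ded0_99 : allFrom (dedAt level0 pack0 [level1, level2, level3] [pack1, pack2, pack3]) 99 100 = true := by decide +kernel

theorem ded0_100 : allFrom (dedAt level0 pack0 [level1, level2, level3] [pack1, pack2, pack3]) 100 101 = true := by decide +kernel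

end CfsgLib.Sporadic.MultHs
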