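import Mathlib
import Cfsg.Agent.Lib.Sporadic.MultHs.Pack0
import Cfsg.Agent.Lib.Sporadic.MultHs.Pack1
import Cfsg.Agent.Lib.Sporadic.MultHs.Pack2
import Cfsg.Agent.Lib.Sporadic.MultHs.Pack3
import Cfsg.Agent.Lib.Sporadic.MultHs.Data
import Cfsg.Agent.Lib.Schur.CheckParts

/-!
# Shape and permutations of table 1
-/

set_option autoImplicit false
set_option maxRecDepth 100000
set_option maxHeartbeats 0
set_option Elab.async false

noncomputable section

namespace CfsgLib.Sporadic.MultHs

open CfsgLib.Schur.Cert CfsgLib.Sporadic

theorem head1 : shapeHead level1 [level2, level3] (nextWords (top) level0) = true := by decide +kernel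

theorem srel1_0 : allFrom (shapeRel (chainRels chain top) level1 (nextWords (top) level0)) 0 2 = true := by decide +kernel

theorem srel1_2 : allFrom (shapeRel (chainRels chain top) level1 (nextWords (top) level0)) 2 4 = true := by decide +kernel

theorem srel1_4 : allFrom (shapeRel (chainRels chain top) level1 (nextWords (top) level0)) 4 6 = true := by decide +kernel

theorem srel1_6 : allFrom (shapeRel (chainRels chain top) level1 (nextWords (top) level0)) 6 8 = true := by decide +kernel

theorem permsGen1 : permsGen 100 level1 [level2, level3] = true := by decide +kernel

theorem rel1_0 : allFrom (permsRel 100 level1) 0 2 = true := by decide +kernel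

theorem rel1_2 : allFrom (permsRel 100 level1) 2 4 = true := by decide +kernel

theorem rel1_4 : allFrom (permsRel 100 level1) 4 6 = true := by decide +kernel

theorem rel1_6 : allFrom (permsRel 100 level1) 6 8 = true := by decide +kernel

theorem path1_0 : allFrom (permsPath level1) 0 22 = true := by decide +kernel

theorem permsKey1 : permsKey level1 [level2, level3] = true := by decide +kernel

end CfsgLib.Sporadic.MultHs
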