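import Mathlib
import Cfsg.Agent.Lib.Sporadic.MultHs.Pack0
import Cfsg.Agent.Lib.Sporadic.MultHs.Pack1
import Cfsg.Agent.Lib.Sporadic.MultHs.Pack2
import Cfsg.Agent.Lib.Sporadic.MultHs.Pack3
import Cfsg.Agent.Lib.Sporadic.MultHs.Data
import Cfsg.Agent.Lib.Schur.CheckParts

/-!
# Shape and permutations of table 3
-/

set_option autoImplicit false
set_option maxRecDepth 100000
set_option maxHeartbeats 0
set_option Elab.async false

noncomputable section

namespace CfsgLib.Sporadic.MultHs

open CfsgLib.Schur.Cert CfsgLib.Sporadic

theorem head3 : shapeHead level3 [] (nextWords (nextWords (nextWords (top) level0) level1) level2) = true := by decide +kernel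

theorem srel3_0 : allFrom (shapeRel (chainRels chain top) level3 (nextWords (nextWords (nextWords (top) level0) level1) level2)) 0 2 = true := by decide +kernel

theorem srel3_2 : allFrom (shapeRel (chainRels chain top) level3 (nextWords (nextWords (nextWords (top) level0) level1) level2)) 2 4 = true := by decide +kernel

theorem srel3_4 : allFrom (shapeRel (chainRels chain top) level3 (nextWords (nextWords (nextWords (top) level0) level1) level2)) 4 5 = true := by decide +kernel

theorem row3_0 : allFrom (shapeRow rows level3 []) 0 80 = true := by decide +kernel

theorem row3_80 : allFrom (shapeRow rows level3 []) 80 160 = true := by decide +kernel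

theorem row3_160 : allFrom (shapeRow rows level3 []) 160 240 = true := by decide +kernel

theorem row3_240 : allFrom (shapeRow rows level3 []) 240 320 = true := by decide +kernel

theorem row3_320 : allFrom (shapeRow rows level3 []) 320 400 = true := by decide +kernel

theorem row3_400 : allFrom (shapeRow rows level3 []) 400 480 = true := by decide +kernel

theorem row3_480 : allFrom (shapeRow rows level3 []) 480 560 = true := by decide +kernel

theorem row3_560 : allFrom (shapeRow rows level3 []) 560 640 = true := by decide +kernel

theorem row3_640 : allFrom (shapeRow rows level3 []) 640 720 = true := by decide +kernel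

theorem row3_720 : allFrom (shapeRow rows level3 []) 720 800 = true := by decide +kernel

theorem row3_800 : allFrom (shapeRow rows level3 []) 800 880 = true := by decide +kernel

theorem row3_880 : allFrom (shapeRow rows level3 []) 880 960 = true := by decide +kernel

theorem permsGen3 : permsGen 100 level3 [] = true := by decide +kernel

theorem rel3_0 : allFrom (permsRel 100 level3) 0 5 = true := by decide +kernel

theorem path3_0 : allFrom (permsPath level3) 0 200 = true := by decide +kernel

theorem path3_200 : allFrom (permsPath level3) 200 400 = true := by decide +kernel

theorem path3_400 : allFrom (permsPath level3) 400 600 = true := by decide +kernel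

theorem path3_600 : allFrom (permsPath level3) 600 800 = true := by decide +kernel

theorem path3_800 : allFrom (permsPath level3) 800 960 = true := by decide +kernel

theorem permsKey3 : permsKey level3 [] = true := by decide +kernel

end CfsgLib.Sporadic.MultHs
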