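import Mathlib
import Cfsg.Agent.Lib.Sporadic.MultHs.Pack0
import Cfsg.Agent.Lib.Sporadic.MultHs.Pack1
import Cfsg.Agent.Lib.Sporadic.MultHs.Pack2
import Cfsg.Agent.Lib.Sporadic.MultHs.Pack3
import Cfsg.Agent.Lib.Sporadic.MultHs.Data
import Cfsg.Agent.Lib.Schur.CheckParts

/-!
# Deductions of table 3
-/

set_option autoImplicit false
set_option maxRecDepth 100000
set_option maxHeartbeats 0
set_option Elab.async false

noncomputable section

namespace CfsgLib.Sporadic.MultHs

open CfsgLib.Schur.Cert CfsgLib.Sporadic

theorem ded3_0 : allFrom (dedAt level3 pack3 [] []) 0 60 = true := by decide +kernel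

theorem ded3_60 : allFrom (dedAt level3 pack3 [] []) 60 120 = true := by decide +kernel

theorem ded3_120 : allFrom (dedAt level3 pack3 [] []) 120 180 = true := by decide +kernel

theorem ded3_180 : allFrom (dedAt level3 pack3 [] []) 180 240 = true := by decide +kernel

theorem ded3_240 : allFrom (dedAt level3 pack3 [] []) 240 300 = true := by decide +kernel

theorem ded3_300 : allFrom (dedAt level3 pack3 [] []) 300 360 = true := by decide +kernel

theorem ded3_360 : allFrom (dedAt level3 pack3 [] []) 360 420 = true := by decide +kernel

theorem ded3_420 : allFrom (dedAt level3 pack3 [] []) 420 480 = true := by decide +kernel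

theorem ded3_480 : allFrom (dedAt level3 pack3 [] []) 480 540 = true := by decide +kernel

theorem ded3_540 : allFrom (dedAt level3 pack3 [] []) 540 600 = true := by decide +kernel

theorem ded3_600 : allFrom (dedAt level3 pack3 [] []) 600 660 = true := by decide +kernel

theorem ded3_660 : allFrom (dedAt level3 pack3 [] []) 660 720 = true := by decide +kernel

theorem ded3_720 : allFrom (dedAt level3 pack3 [] []) 720 780 = true := by decide +kernel

theorem ded3_780 : allFrom (dedAt level3 pack3 [] []) 780 840 = true := by decide +kernel

theorem ded3_840 : allFrom (dedAt level3 pack3 [] []) 840 900 = true := by decide +kernel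

theorem ded3_900 : allFrom (dedAt level3 pack3 [] []) 900 960 = true := by decide +kernel

theorem ded3_960 : allFrom (dedAt level3 pack3 [] []) 960 961 = true := by decide +kernel

end CfsgLib.Sporadic.MultHs
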