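import Mathlib
import Cfsg.Agent.Lib.Sporadic.MultHs.Check0
import Cfsg.Agent.Lib.Sporadic.MultHs.Check0Row0
import Cfsg.Agent.Lib.Sporadic.MultHs.Check0Row1
import Cfsg.Agent.Lib.Sporadic.MultHs.Check0Ded0
import Cfsg.Agent.Lib.Sporadic.MultHs.Check0Ded1
import Cfsg.Agent.Lib.Sporadic.MultHs.Check0Ded2
import Cfsg.Agent.Lib.Sporadic.MultHs.Check0Ded3
import Cfsg.Agent.Lib.Sporadic.MultHs.Check0Eqn0
import Cfsg.Agent.Lib.Sporadic.MultHs.Check1
import Cfsg.Agent.Lib.Sporadic.MultHs.Check1Row0
import Cfsg.Agent.Lib.Sporadic.MultHs.Check1Ded0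
import Cfsg.Agent.Lib.Sporadic.MultHs.Check1Eqn0
import Cfsg.Agent.Lib.Sporadic.MultHs.Check2
import Cfsg.Agent.Lib.Sporadic.MultHs.Check2Ded0
import Cfsg.Agent.Lib.Sporadic.MultHs.Check2Eqn0
import Cfsg.Agent.Lib.Sporadic.MultHs.Check3
import Cfsg.Agent.Lib.Sporadic.MultHs.Check3Ded0
import Cfsg.Agent.Lib.Sporadic.MultHs.Check3Eqn0
import Cfsg.Agent.Lib.Sporadic.MultHs.CheckLin0
import Cfsg.Agent.Lib.Schur.CheckParts

/-!
# All checks of the chain
-/

set_option autoImplicit false
set_option maxRecDepth 100000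
set_option maxHeartbeats 0
set_option Elab.async false

noncomputable section

namespace CfsgLib.Sporadic.MultHs

open CfsgLib.Schur.Cert CfsgLib.Sporadic

theorem shape0 : shapeOK (chainRels chain top) rows level0 [level1, level2, level3] (top) = true :=
  shapeOK_of_parts head0 (allFrom_trans srel0_0 (allFrom_trans srel0_2 (allFrom_trans srel0_4 (allFrom_trans srel0_6 (allFrom_trans srel0_8 (allFrom_trans srel0_10 (srel0_12))))))) (allFrom_trans row0_0 (allFrom_trans row0_10 (allFrom_trans row0_20 (allFrom_trans row0_30 (allFrom_trans row0_40 (allFrom_trans row0_50 (allFrom_trans row0_60 (allFrom_trans row0_70 (allFrom_trans row0_80 (row0_90))))))))))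

theorem deds0 : dedsOK level0 [level1, level2, level3] = true :=
  dedsOK_of_parts pack_ok0 (packsOK_cons pack_ok1 (packsOK_cons pack_ok2 (packsOK_cons pack_ok3 (rfl)))) (allFrom_trans ded0_0 (allFrom_trans ded0_1 (allFrom_trans ded0_2 (allFrom_trans ded0_3 (allFrom_trans ded0_4 (allFrom_trans ded0_5 (allFrom_trans ded0_6 (allFrom_trans ded0_7 (allFrom_trans ded0_8 (allFrom_trans ded0_9 (allFrom_trans ded0_10 (allFrom_trans ded0_11 (allFrom_trans ded0_12 (allFrom_trans ded0_13 (allFrom_trans ded0_14 (allFrom_trans ded0_15 (allFrom_trans ded0_16 (allFrom_trans ded0_17 (allFrom_trans ded0_18 (allFrom_trans ded0_19 (allFrom_trans ded0_20 (allFrom_trans ded0_21 (allFrom_trans ded0_22 (allFrom_trans ded0_23 (allFrom_trans ded0_24 (allFrom_trans ded0_25 (allFrom_trans ded0_26 (allFrom_trans ded0_27 (allFrom_trans ded0_28 (allFrom_trans ded0_29 (allFrom_trans ded0_30 (allFrom_trans ded0_31 (allFrom_trans ded0_32 (allFrom_trans ded0_33 (allFrom_trans ded0_34 (allFrom_trans ded0_35 (allFrom_trans ded0_36 (allFrom_trans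 ded0_37 (allFrom_trans ded0_38 (allFrom_trans ded0_39 (allFrom_trans ded0_40 (allFrom_trans ded0_41 (allFrom_trans ded0_42 (allFrom_trans ded0_43 (allFrom_trans ded0_44 (allFrom_trans ded0_45 (allFrom_trans ded0_46 (allFrom_trans ded0_47 (allFrom_trans ded0_48 (allFrom_trans ded0_49 (allFrom_trans ded0_50 (allFrom_trans ded0_51 (allFrom_trans ded0_52 (allFrom_trans ded0_53 (allFrom_trans ded0_54 (allFrom_trans ded0_55 (allFrom_trans ded0_56 (allFrom_trans ded0_57 (allFrom_trans ded0_58 (allFrom_trans ded0_59 (allFrom_trans ded0_60 (allFrom_trans ded0_61 (allFrom_trans ded0_62 (allFrom_trans ded0_63 (allFrom_trans ded0_64 (allFrom_trans ded0_65 (allFrom_trans ded0_66 (allFrom_trans ded0_67 (allFrom_trans ded0_68 (allFrom_trans ded0_69 (allFrom_trans ded0_70 (allFrom_trans ded0_71 (allFrom_trans ded0_72 (allFrom_trans ded0_73 (allFrom_trans ded0_74 (allFrom_trans ded0_75 (allFrom_trans ded0_76 (allFrom_trans ded0_77 (allFrom_trans ded0_78 (allFrom_trans ded0_79 (allFrom_trans ded0_80 (allFrom_trans ded0_81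 (allFrom_trans ded0_82 (allFrom_trans ded0_83 (allFrom_trans ded0_84 (allFrom_trans ded0_85 (allFrom_trans ded0_86 (allFrom_trans ded0_87 (allFrom_trans ded0_88 (allFrom_trans ded0_89 (allFrom_trans ded0_90 (allFrom_trans ded0_91 (allFrom_trans ded0_92 (allFrom_trans ded0_93 (allFrom_trans ded0_94 (allFrom_trans ded0_95 (allFrom_trans ded0_96 (allFrom_trans ded0_97 (allFrom_trans ded0_98 (allFrom_trans ded0_99 (ded0_100)))))))))))))))))))))))))))))))))))))))))))))))))))))))))))))))))))))))))))))))))))))))))))))))))))))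

theorem eqns0 : eqnsOK level0 [level1, level2, level3] = true :=
  eqnsOK_of_parts pack_ok0 (packsOK_cons pack_ok1 (packsOK_cons pack_ok2 (packsOK_cons pack_ok3 (rfl)))) (allFrom_trans eqn0_0 (allFrom_trans eqn0_1 (allFrom_trans eqn0_2 (allFrom_trans eqn0_3 (allFrom_trans eqn0_4 (allFrom_trans eqn0_5 (allFrom_trans eqn0_6 (allFrom_trans eqn0_7 (allFrom_trans eqn0_8 (allFrom_trans eqn0_9 (allFrom_trans eqn0_10 (allFrom_trans eqn0_11 (allFrom_trans eqn0_12 (allFrom_trans eqn0_13 (allFrom_trans eqn0_14 (eqn0_15))))))))))))))))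

theorem shape1 : shapeOK (chainRels chain top) rows level1 [level2, level3] (nextWords (top) level0) = true :=
  shapeOK_of_parts head1 (allFrom_trans srel1_0 (allFrom_trans srel1_2 (allFrom_trans srel1_4 (srel1_6)))) (allFrom_trans row1_0 (allFrom_trans row1_10 (row1_20)))

theorem deds1 : dedsOK level1 [level2, level3] = true :=
  dedsOK_of_parts pack_ok1 (packsOK_cons pack_ok2 (packsOK_cons pack_ok3 (rfl))) (allFrom_trans ded1_0 (allFrom_trans ded1_3 (allFrom_trans ded1_6 (allFrom_trans ded1_9 (allFrom_trans ded1_12 (allFrom_trans ded1_15 (allFrom_trans ded1_18 (ded1_21))))))))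

theorem eqns1 : eqnsOK level1 [level2, level3] = true :=
  eqnsOK_of_parts pack_ok1 (packsOK_cons pack_ok2 (packsOK_cons pack_ok3 (rfl))) (allFrom_trans eqn1_0 (eqn1_3))

theorem shape2 : shapeOK (chainRels chain top) rows level2 [level3] (nextWords (nextWords (top) level0) level1) = true :=
  shapeOK_of_parts head2 (allFrom_trans srel2_0 (allFrom_trans srel2_2 (allFrom_trans srel2_4 (srel2_6)))) (row2_0)

theorem deds2 : dedsOK level2 [level3] = true :=
  dedsOK_of_parts pack_ok2 (packsOK_cons pack_ok3 (rfl)) (allFrom_trans ded2_0 (allFrom_trans ded2_10 (ded2_20)))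

theorem eqns2 : eqnsOK level2 [level3] = true :=
  eqnsOK_of_parts pack_ok2 (packsOK_cons pack_ok3 (rfl)) (eqn2_0)

theorem shape3 : shapeOK (chainRels chain top) rows level3 [] (nextWords (nextWords (nextWords (top) level0) level1) level2) = true :=
  shapeOK_of_parts head3 (allFrom_trans srel3_0 (allFrom_trans srel3_2 (srel3_4))) (allFrom_trans row3_0 (allFrom_trans row3_80 (allFrom_trans row3_160 (allFrom_trans row3_240 (allFrom_trans row3_320 (allFrom_trans row3_400 (allFrom_trans row3_480 (allFrom_trans row3_560 (allFrom_trans row3_640 (allFrom_trans row3_720 (allFrom_trans row3_800 (row3_880))))))))))))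

theorem deds3 : dedsOK level3 [] = true :=
  dedsOK_of_parts pack_ok3 (rfl) (allFrom_trans ded3_0 (allFrom_trans ded3_60 (allFrom_trans ded3_120 (allFrom_trans ded3_180 (allFrom_trans ded3_240 (allFrom_trans ded3_300 (allFrom_trans ded3_360 (allFrom_trans ded3_420 (allFrom_trans ded3_480 (allFrom_trans ded3_540 (allFrom_trans ded3_600 (allFrom_trans ded3_660 (allFrom_trans ded3_720 (allFrom_trans ded3_780 (allFrom_trans ded3_840 (allFrom_trans ded3_900 (ded3_960)))))))))))))))))

theorem eqns3 : eqnsOK level3 [] = true :=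
  eqnsOK_of_parts pack_ok3 (rfl) (eqn3_0)

theorem perms_check : permsOKN 100 chain = true :=
  permsOKN_cons permsGen0 (allFrom_trans rel0_0 (allFrom_trans rel0_1 (allFrom_trans rel0_2 (allFrom_trans rel0_3 (allFrom_trans rel0_4 (allFrom_trans rel0_5 (allFrom_trans rel0_6 (allFrom_trans rel0_7 (allFrom_trans rel0_8 (allFrom_trans rel0_9 (allFrom_trans rel0_10 (allFrom_trans rel0_11 (allFrom_trans rel0_12 (rel0_13)))))))))))))) (path0_0) permsKey0 (permsOKN_cons permsGen1 (allFrom_trans rel1_0 (allFrom_trans rel1_2 (allFrom_trans rel1_4 (rel1_6)))) (path1_0) permsKey1 (permsOKN_cons permsGen2 (rel2_0) (path2_0) permsKey2 (permsOKN_cons permsGen3 (rel3_0) (allFrom_trans path3_0 (allFrom_trans path3_200 (allFrom_trans path3_400 (allFrom_trans path3_600 (path3_800))))) permsKey3 (rfl))))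

theorem rows_check : rows = relRows (chainRels chain top) ∧ chainExp chain = top.map (wexp vunit) := by decide +kernel

theorem lastWords : (nextWords (nextWords (nextWords (nextWords (top) level0) level1) level2) level3).isEmpty = true := by decide +kernel

theorem tables_check : tablesOK (chainRels chain top) rows chain top = true := by
  show tablesOK (chainRels chain top) rows [level0, level1, level2, level3] top = true
  simp only [tablesOK, shape0, deds0, eqns0, shape1, deds1, eqns1, shape2, deds2, eqns2, shape3, deds3, eqns3, lastWords, Bool.and_self]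

theorem lin_check : lin.ok rows 2 (chainEqns chain) = true :=
  LinCert.ok_of_parts linHead_check (allFrom_trans linUnit_0 (allFrom_trans linUnit_5 (allFrom_trans linUnit_10 (allFrom_trans linUnit_15 (allFrom_trans linUnit_20 (linUnit_25)))))) (allFrom_trans linKind_0 (allFrom_trans linKind_2 (allFrom_trans linKind_4 (allFrom_trans linKind_6 (allFrom_trans linKind_8 (allFrom_trans linKind_10 (allFrom_trans linKind_12 (allFrom_trans linKind_14 (allFrom_trans linKind_16 (allFrom_trans linKind_18 (allFrom_trans linKind_20 (allFrom_trans linKind_22 (allFrom_trans linKind_24 (linKind_26))))))))))))))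

end CfsgLib.Sporadic.MultHs
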