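import Mathlib
import Cfsg.Agent.Lib.Sporadic.MultHs.Pack0
import Cfsg.Agent.Lib.Sporadic.MultHs.Pack1
import Cfsg.Agent.Lib.Sporadic.MultHs.Pack2
import Cfsg.Agent.Lib.Sporadic.MultHs.Pack3
import Cfsg.Agent.Lib.Sporadic.MultHs.Data
import Cfsg.Agent.Lib.Schur.CheckParts

/-!
# Deductions of table 1
-/

set_option autoImplicit false
set_option maxRecDepth 100000
set_option maxHeartbeats 0
set_option Elab.async false

noncomputable section

namespace CfsgLib.Sporadic.MultHs

open CfsgLib.Schur.Cert CfsgLib.Sporadic

theorem ded1_0 : allFrom (dedAt level1 pack1 [level2, level3] [pack2, pack3]) 0 3 = true := by decide +kernel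

theorem ded1_3 : allFrom (dedAt level1 pack1 [level2, level3] [pack2, pack3]) 3 6 = true := by decide +kernel

theorem ded1_6 : allFrom (dedAt level1 pack1 [level2, level3] [pack2, pack3]) 6 9 = true := by decide +kernel

theorem ded1_9 : allFrom (dedAt level1 pack1 [level2, level3] [pack2, pack3]) 9 12 = true := by decide +kernel

theorem ded1_12 : allFrom (dedAt level1 pack1 [level2, level3] [pack2, pack3]) 12 15 = true := by decide +kernel

theorem ded1_15 : allFrom (dedAt level1 pack1 [level2, level3] [pack2, pack3]) 15 18 = true := by decide +kernel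

theorem ded1_18 : allFrom (dedAt level1 pack1 [level2, level3] [pack2, pack3]) 18 21 = true := by decide +kernel

theorem ded1_21 : allFrom (dedAt level1 pack1 [level2, level3] [pack2, pack3]) 21 23 = true := by decide +kernel

end CfsgLib.Sporadic.MultHs
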