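import Mathlib
import Cfsg.Agent.Lib.Sporadic.ChainCertificate
import Cfsg.Agent.Lib.Schur.TrieFast

/-!
# Coset table 0 of a chain
-/

set_option autoImplicit false
set_option maxRecDepth 100000
set_option maxHeartbeats 0
set_option Elab.async false

noncomputable section

namespace CfsgLib.Sporadic.MultHs

open CfsgLib.Schur.Cert

/-- data -/
def next0 : Trie (ℕ) := .node (.node (.node (.node (.node (.node (.node (.node (.leaf 1) (.leaf 68)) (.node (.leaf 49) (.leaf 96))) (.node (.node (.leaf 26) (.leaf 93)) (.leaf 61))) (.node (.node (.node (.leaf 4) (.leaf 27)) (.leaf 11)) (.node (.node (.leaf 5) (.leaf 94)) (.leaf 70)))) (.node (.node (.node (.node (.leaf 8) (.leaf 80)) (.leaf 44)) (.node (.node (.leaf 31) (.leaf 86)) (.leaf 66))) (.node (.node (.node (.leaf 19) (.leaf 30)) (.leaf 36)) (.node (.node (.leaf 40) (.leaf 73)) (.leaf 76))))) (.node (.node (.node (.node (.node (.leaf 2) (.leaf 51)) (.node (.leaf 34) (.leaf 98))) (.node (.node (.leaf 18) (.leaf 95)) (.leaf 59))) (.node (.node (.node (.leaf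 15) (.leaf 87)) (.leaf 58)) (.node (.node (.leaf 39) (.leaf 48)) (.leaf 71)))) (.node (.node (.node (.node (.leaf 0) (.leaf 32)) (.leaf 54)) (.node (.node (.leaf 29) (.leaf 84)) (.leaf 69))) (.node (.node (.node (.leaf 22) (.leaf 91)) (.leaf 20)) (.node (.node (.leaf 45) (.leaf 88)) (.leaf 62)))))) (.node (.node (.node (.node (.node (.node (.leaf 3) (.leaf 52)) (.node (.leaf 50) (.leaf 99))) (.node (.node (.leaf 28) (.leaf 38)) (.leaf 56))) (.node (.node (.node (.leaf 7) (.leaf 85)) (.leaf 57)) (.node (.node (.leaf 37) (.leaf 89)) (.leaf 72)))) (.node (.node (.node (.node (.leaf 10) (.leaf 81)) (.leaf 23)) (.node (.node (.leaf 13) (.leaf 79)) (.leaf 67))) (.node (.node (.node (.leaf 21) (.leaf 90)) (.leaf 60)) (.node (.node (.leaf 43) (.leaf 64)) (.leaf 77))))) (.node (.node (.node (.node (.node (.leaf 6) (.leaf 53)) (.node (.leaf 25) (.leaf 82))) (.node (.node (.leaf 9) (.leaf 42)) (.leaf 65))) (.node (.node (.node (.leaf 17) (.leaf 33)) (.leaf 14)) (.node (.node (.leaf 41) (.leaf 74)) (.leaf 75))))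 (.node (.node (.node (.node (.leaf 12) (.leaf 83)) (.leaf 55)) (.node (.node (.leaf 35) (.leaf 78)) (.leaf 16))) (.node (.node (.node (.leaf 24) (.leaf 92)) (.leaf 46)) (.node (.node (.leaf 47) (.leaf 97)) (.leaf 63))))))) (.node (.node (.node (.node (.node (.node (.node (.leaf 2) (.leaf 67)) (.node (.leaf 12) (.leaf 87))) (.node (.node (.leaf 27) (.leaf 80)) (.leaf 63))) (.node (.node (.node (.leaf 14) (.leaf 84)) (.leaf 41)) (.node (.node (.leaf 36) (.leaf 58)) (.leaf 71)))) (.node (.node (.node (.node (.leaf 9) (.leaf 37)) (.leaf 52)) (.node (.node (.leaf 32) (.leaf 77)) (.leaf 24))) (.node (.node (.node (.leaf 20) (.leaf 89)) (.leaf 17)) (.node (.node (.leaf 42) (.leaf 95)) (.leaf 55))))) (.node (.node (.node (.node (.node (.leaf 5) (.leaf 76)) (.node (.leaf 49) (.leaf 92))) (.node (.node (.leaf 6) (.leaf 85)) (.leaf 64))) (.node (.node (.node (.leaf 16) (.leaf 88)) (.leaf 59)) (.node (.node (.leaf 40) (.leaf 96)) (.leaf 74)))) (.node (.node (.node (.node (.leaf 11) (.leaf 82)) (.leaf 15)) (.node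 (.node (.leaf 34) (.leaf 57)) (.leaf 54))) (.node (.node (.node (.leaf 23) (.leaf 45)) (.leaf 19)) (.node (.node (.leaf 46) (.leaf 97)) (.leaf 79)))))) (.node (.node (.node (.node (.node (.node (.leaf 4) (.leaf 65)) (.node (.leaf 51) (.leaf 81))) (.node (.node (.leaf 29) (.leaf 94)) (.leaf 22))) (.node (.node (.node (.leaf 1) (.leaf 86)) (.leaf 26)) (.node (.node (.leaf 38) (.leaf 66)) (.leaf 73)))) (.node (.node (.node (.node (.leaf 0) (.leaf 60)) (.leaf 53)) (.node (.node (.leaf 33) (.leaf 70)) (.leaf 68))) (.node (.node (.node (.leaf 3) (.leaf 72)) (.leaf 61)) (.node (.node (.leaf 44) (.leaf 93)) (.leaf 78))))) (.node (.node (.node (.node (.node (.leaf 7) (.leaf 50)) (.node (.leaf 35) (.leaf 99))) (.node (.node (.leaf 30) (.leaf 83)) (.leaf 21))) (.node (.node (.node (.leaf 18) (.leaf 75)) (.leaf 43)) (.node (.node (.leaf 10) (.leaf 91)) (.leaf 28)))) (.node (.node (.node (.node (.leaf 13) (.leaf 39)) (.leaf 56)) (.node (.node (.leaf 8) (.leaf 90)) (.leaf 69))) (.node (.node (.node (.leaf 25) (.leaf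 47)) (.leaf 62)) (.node (.node (.leaf 48) (.leaf 98)) (.leaf 31)))))))

/-- data -/
def prev0 : Trie (ℕ) := .node (.node (.node (.node (.node (.node (.node (.node (.leaf 6) (.leaf 93)) (.node (.leaf 70) (.leaf 96))) (.node (.node (.leaf 55) (.leaf 68)) (.leaf 90))) (.node (.node (.node (.leaf 4) (.leaf 57)) (.leaf 28)) (.node (.node (.leaf 15) (.leaf 94)) (.leaf 49)))) (.node (.node (.node (.node (.leaf 8) (.leaf 64)) (.leaf 44)) (.node (.node (.leaf 46) (.leaf 86)) (.leaf 65))) (.node (.node (.node (.leaf 7) (.leaf 60)) (.leaf 36)) (.node (.node (.leaf 17) (.leaf 79)) (.leaf 45))))) (.node (.node (.node (.node (.node (.leaf 2) (.leaf 52)) (.node (.leaf 34) (.leaf 98))) (.node (.node (.leaf 18) (.leaf 99)) (.leaf 33))) (.node (.node (.node (.leaf 5) (.leaf 91)) (.leaf 83)) (.node (.node (.leaf 16) (.leaf 77)) (.leaf 42)))) (.node (.node (.node (.node (.leaf 3) (.leaf 56)) (.leaf 81)) (.node (.node (.leaf 14) (.leaf 84)) (.leaf 38))) (.node (.node (.node (.leaf 43) (.leaf 87)) (.leaf 47)) (.node (.node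 (.leaf 76) (.leaf 88)) (.leaf 62)))))) (.node (.node (.node (.node (.node (.node (.leaf 0) (.leaf 51)) (.node (.leaf 75) (.leaf 95))) (.node (.node (.leaf 11) (.leaf 69)) (.leaf 32))) (.node (.node (.node (.leaf 19) (.leaf 92)) (.leaf 27)) (.node (.node (.leaf 35) (.leaf 89)) (.leaf 41)))) (.node (.node (.node (.node (.leaf 24) (.leaf 54)) (.leaf 25)) (.node (.node (.leaf 13) (.leaf 73)) (.leaf 67))) (.node (.node (.node (.leaf 21) (.leaf 61)) (.leaf 30)) (.node (.node (.leaf 22) (.leaf 80)) (.leaf 48))))) (.node (.node (.node (.node (.node (.leaf 1) (.leaf 53)) (.node (.leaf 23) (.leaf 97))) (.node (.node (.leaf 12) (.leaf 71)) (.leaf 66))) (.node (.node (.node (.leaf 40) (.leaf 59)) (.leaf 29)) (.node (.node (.leaf 72) (.leaf 78)) (.leaf 50)))) (.node (.node (.node (.node (.leaf 9) (.leaf 58)) (.leaf 26)) (.node (.node (.leaf 37) (.leaf 74)) (.leaf 39))) (.node (.node (.node (.leaf 10) (.leaf 85)) (.leaf 31)) (.node (.node (.leaf 20) (.leaf 82)) (.leaf 63))))))) (.node (.node (.node (.node (.node (.node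 (.node (.leaf 5) (.leaf 50)) (.node (.leaf 20) (.leaf 90))) (.node (.node (.leaf 10) (.leaf 80)) (.leaf 31))) (.node (.node (.node (.leaf 23) (.leaf 77)) (.leaf 26)) (.node (.node (.leaf 52) (.leaf 74)) (.leaf 39)))) (.node (.node (.node (.node (.leaf 1) (.leaf 53)) (.leaf 24)) (.node (.node (.leaf 12) (.leaf 72)) (.leaf 36))) (.node (.node (.node (.leaf 32) (.leaf 66)) (.leaf 29)) (.node (.node (.leaf 59) (.leaf 98)) (.leaf 69))))) (.node (.node (.node (.node (.node (.leaf 0) (.leaf 89)) (.node (.leaf 22) (.leaf 95))) (.node (.node (.leaf 11) (.leaf 70)) (.leaf 67))) (.node (.node (.node (.leaf 27) (.leaf 58)) (.leaf 28)) (.node (.node (.leaf 41) (.leaf 87)) (.leaf 88)))) (.node (.node (.node (.node (.leaf 18) (.leaf 85)) (.leaf 25)) (.node (.node (.leaf 49) (.leaf 73)) (.leaf 54))) (.node (.node (.node (.leaf 8) (.leaf 61)) (.leaf 30)) (.node (.node (.leaf 19) (.leaf 81)) (.leaf 47)))))) (.node (.node (.node (.node (.node (.node (.leaf 9) (.leaf 65)) (.node (.leaf 21) (.leaf 94))) (.node (.node (.leaf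 44) (.leaf 97)) (.leaf 34))) (.node (.node (.node (.leaf 4) (.leaf 57)) (.leaf 40)) (.node (.node (.leaf 15) (.leaf 76)) (.leaf 86)))) (.node (.node (.node (.node (.leaf 2) (.leaf 55)) (.leaf 68)) (.node (.node (.leaf 51) (.leaf 82)) (.leaf 37))) (.node (.node (.node (.leaf 7) (.leaf 84)) (.leaf 78)) (.node (.node (.leaf 17) (.leaf 93)) (.leaf 45))))) (.node (.node (.node (.node (.node (.leaf 13) (.leaf 64)) (.node (.leaf 35) (.leaf 99))) (.node (.node (.leaf 46) (.leaf 83)) (.leaf 33))) (.node (.node (.node (.leaf 6) (.leaf 75)) (.leaf 43)) (.node (.node (.leaf 16) (.leaf 91)) (.leaf 42)))) (.node (.node (.node (.node (.leaf 3) (.leaf 56)) (.leaf 71)) (.node (.node (.leaf 14) (.leaf 96)) (.leaf 60))) (.node (.node (.node (.leaf 38) (.leaf 62)) (.leaf 79)) (.node (.node (.leaf 63) (.leaf 92)) (.leaf 48)))))))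

/-- data -/
def lab0 : Trie (Word) := .node (.node (.node (.node (.node (.node (.node (.node (.leaf ([])) (.leaf ([(0, false), (1, false), (1, false), (0, true), (0, true), (1, true), (0, false), (1, true), (1, true), (0, true), (0, true)]))) (.node (.leaf ([])) (.leaf ([(1, true), (0, true), (1, false), (0, true), (1, false), (1, false), (0, false), (1, false), (0, false), (1, true), (1, true), (0, true), (1, false), (0, true)])))) (.node (.node (.leaf ([])) (.leaf ([]))) (.leaf ([(0, true), (1, true), (0, true), (1, false), (0, false), (1, true), (0, true), (0, true), (1, true), (0, true), (1, false), (1, false)])))) (.node (.node (.node (.leaf ([(1, false), (0, false), (1, true), (1, true), (0, false), (1, true), (0, true), (1, false), (0, true), (1, true), (0, true), (1, true)])) (.leaf ([]))) (.leaf ([(1, true), (1, true), (0, true), (1, false), (0, true), (1, false), (1, false), (0, true), (0, true), (1, true)]))) (.node (.node (.leaf ([])) (.leaf ([(1, true), (0, true), (1, true), (0, false),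 (1, false), (0, false), (1, false), (0, true), (0, true), (1, true), (0, false), (1, true), (0, false)]))) (.leaf ([]))))) (.node (.node (.node (.node (.leaf ([])) (.leaf ([]))) (.leaf ([(0, true), (1, false), (0, false), (1, true), (1, true), (0, true), (0, true), (1, false), (0, true), (0, true), (1, true), (0, true), (1, true), (0, true), (1, false)]))) (.node (.node (.leaf ([])) (.leaf ([(0, true), (1, true), (0, true), (0, true), (1, false), (0, true), (1, true), (0, true), (1, false), (0, false), (1, true)]))) (.leaf ([])))) (.node (.node (.node (.leaf ([])) (.leaf ([]))) (.leaf ([(0, true), (0, true), (1, false), (0, true), (1, true), (0, false), (1, true), (0, true), (1, false)]))) (.node (.node (.leaf ([(1, false), (0, true), (1, true), (0, true), (1, false), (0, true), (1, false), (1, false), (0, false), (1, false)])) (.leaf ([(0, true), (1, false), (0, true), (1, false), (1, false), (0, true), (1, true), (0, true), (1, false), (0, true), (1, false), (0, false), (1, true)]))) (.leaf ([]))))))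 (.node (.node (.node (.node (.node (.leaf ([(0, true)])) (.leaf ([(1, true), (1, true), (0, false), (1, false), (0, true), (1, true), (0, false), (1, true), (0, false), (1, true), (1, true), (0, false), (1, false), (0, false)]))) (.node (.leaf ([(1, true), (0, false), (1, true), (1, true), (0, false), (1, true), (0, true), (1, true), (1, true), (0, true), (1, true), (0, true), (0, true), (1, true)])) (.leaf ([(1, true), (0, true), (0, true), (1, true), (0, true), (1, false), (0, true), (1, true), (0, false), (1, false), (1, false), (0, true), (1, true)])))) (.node (.node (.leaf ([(1, true), (0, false), (1, true), (0, false), (1, false), (0, true), (1, false), (0, false), (1, true), (0, true), (0, true)])) (.leaf ([]))) (.leaf ([(1, true), (0, true), (1, false), (1, false), (0, true), (0, true), (1, false), (0, false), (1, false), (1, false), (0, true)])))) (.node (.node (.node (.leaf ([])) (.leaf ([]))) (.leaf ([]))) (.node (.node (.leaf ([])) (.leaf ([(1, true), (1, true), (0, false), (1, false), (0,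 true), (0, true), (1, false), (0, true), (1, true), (0, false), (1, false), (0, false)]))) (.leaf ([(0, true), (1, false), (0, true), (1, true), (0, true), (1, true), (1, true), (0, false), (1, true), (0, true), (1, false), (1, false), (0, true), (1, false)]))))) (.node (.node (.node (.node (.leaf ([])) (.leaf ([(1, false), (0, true), (0, true), (1, true), (0, false), (1, false), (0, true), (0, true), (1, false), (0, true), (1, true), (0, false), (1, false), (0, true)]))) (.leaf ([]))) (.node (.node (.leaf ([(1, true), (1, true), (0, true), (1, true), (0, false), (1, true), (0, true), (0, true), (1, false), (1, false), (0, true), (0, true), (1, false)])) (.leaf ([(1, true), (1, true), (0, false), (1, true), (1, true), (0, false), (1, true), (0, true), (1, false), (0, true), (1, true), (0, false), (1, true)]))) (.leaf ([])))) (.node (.node (.node (.leaf ([])) (.leaf ([]))) (.leaf ([(1, false), (0, true), (0, true), (1, true), (1, true), (0, true), (1, true), (1, true), (0, false), (1, true), (1, true),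 (0, true), (1, false), (1, false)]))) (.node (.node (.leaf ([])) (.leaf ([(1, false), (0, true), (0, true), (1, true), (0, true), (1, false), (1, false), (0, true), (1, false), (1, false), (0, true), (1, true), (0, true), (0, true)]))) (.leaf ([(0, true), (1, false), (0, false), (1, true), (0, true), (1, false), (1, false), (0, true), (1, false), (0, false), (1, true), (1, true)]))))))) (.node (.node (.node (.node (.node (.node (.leaf ([])) (.leaf ([(0, true), (1, true), (0, true), (1, false), (1, false), (0, true), (1, false), (0, true), (1, false), (0, false), (1, true), (0, true), (1, false), (1, false)]))) (.node (.leaf ([])) (.leaf ([])))) (.node (.node (.leaf ([])) (.leaf ([]))) (.leaf ([(0, false), (1, true), (0, true), (1, false), (0, false), (1, true), (0, true), (0, true), (1, true), (0, true), (1, false), (0, true), (0, true), (1, true)])))) (.node (.node (.node (.leaf ([(1, false)])) (.leaf ([]))) (.leaf ([]))) (.node (.node (.leaf ([])) (.leaf ([(1, true), (0, true), (1, true), (1, true),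 (0, true), (1, false), (1, false), (0, false), (1, false), (0, true), (1, false), (0, false), (1, true), (0, false)]))) (.leaf ([]))))) (.node (.node (.node (.node (.leaf ([])) (.leaf ([]))) (.leaf ([(1, false), (0, true), (1, false), (0, false), (1, true), (0, true), (0, true), (1, false), (1, false), (0, false), (1, true)]))) (.node (.node (.leaf ([(1, true), (0, true), (0, true), (1, false), (0, true), (1, true), (0, true), (1, true), (0, true), (0, true), (1, false), (0, true), (1, false), (0, true)])) (.leaf ([(1, false), (0, true), (1, true), (0, false), (1, true), (0, false), (1, false), (0, false), (1, true), (1, true), (0, false), (1, true), (0, false)]))) (.leaf ([])))) (.node (.node (.node (.leaf ([])) (.leaf ([]))) (.leaf ([]))) (.node (.node (.leaf ([])) (.leaf ([(0, true), (0, true), (1, false), (1, false), (0, true), (1, false), (0, true), (0, true), (1, true), (1, true), (0, true)]))) (.leaf ([])))))) (.node (.node (.node (.node (.node (.leaf ([])) (.leaf ([(1, false), (0, false), (1,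 true), (1, true), (0, false), (1, true), (0, true), (1, false), (0, true), (1, true), (0, true), (1, true)]))) (.node (.leaf ([(1, false), (0, true), (1, true), (1, true), (0, true), (0, true), (1, false), (0, true), (1, true), (0, false), (1, true)])) (.leaf ([(1, true), (0, true), (1, false), (0, true), (1, false), (0, false), (1, false), (0, true), (1, false), (0, true), (1, false), (0, false)])))) (.node (.node (.leaf ([(1, true)])) (.leaf ([(1, true), (0, true), (1, false), (0, false), (1, true), (0, true), (1, false), (0, true), (1, true), (0, true), (0, true), (1, true), (1, true), (0, false)]))) (.leaf ([])))) (.node (.node (.node (.leaf ([])) (.leaf ([(0, false), (1, true), (1, true), (0, true), (1, true), (0, true), (0, true), (1, true), (1, true), (0, false), (1, false)]))) (.leaf ([(1, true), (1, true), (0, true), (1, true), (0, false), (1, true), (0, true), (0, true), (1, false), (1, false), (0, true), (0, true), (1, false)]))) (.node (.node (.leaf ([])) (.leaf ([(1, false), (0, false),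 (1, false), (1, false), (0, false), (1, true), (1, true), (0, true), (0, true), (1, true), (1, true), (0, true), (1, false), (1, false)]))) (.leaf ([]))))) (.node (.node (.node (.node (.leaf ([])) (.leaf ([]))) (.leaf ([]))) (.node (.node (.leaf ([])) (.leaf ([(1, true), (1, true), (0, false), (1, false), (1, false), (0, true), (0, true), (1, false), (1, false), (0, true), (1, true), (1, true), (0, true), (1, true)]))) (.leaf ([])))) (.node (.node (.node (.leaf ([])) (.leaf ([]))) (.leaf ([(1, true), (1, true), (0, false), (1, false), (1, false), (0, true), (1, false), (1, false), (0, false), (1, false), (1, false), (0, true), (0, true), (1, true)]))) (.node (.node (.leaf ([])) (.leaf ([(0, true), (1, true), (0, false), (1, true), (0, false), (1, true), (0, true), (1, true), (0, false), (1, true), (0, false), (1, false)]))) (.leaf ([(1, true), (0, true), (1, true), (1, true), (0, false), (1, true), (0, false), (1, true), (1, true), (0, true), (1, false), (0, false), (1, true), (0, false)])))))))) (.node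 (.node (.node (.node (.node (.node (.node (.leaf ([])) (.leaf ([(1, true), (0, true), (0, true), (1, false), (1, false), (0, true), (1, false), (0, true), (1, false), (0, false), (1, true), (1, true), (0, true), (1, false), (1, false)]))) (.node (.leaf ([])) (.leaf ([(1, true), (0, true), (0, true), (1, false), (0, true), (1, true), (0, true), (1, false), (0, false), (1, true), (0, false), (1, true), (1, true), (0, true), (0, true)])))) (.node (.node (.leaf ([])) (.leaf ([(0, false), (1, false), (0, true), (1, true), (0, false), (1, true), (1, true), (0, false), (1, true), (1, true), (0, true), (1, false)]))) (.leaf ([])))) (.node (.node (.node (.leaf ([])) (.leaf ([]))) (.leaf ([(1, true), (0, true), (1, true), (0, true), (1, false), (0, true), (1, false), (1, false), (0, true), (1, true), (0, true), (1, false)]))) (.node (.node (.leaf ([])) (.leaf ([]))) (.leaf ([]))))) (.node (.node (.node (.node (.leaf ([])) (.leaf ([]))) (.leaf ([]))) (.node (.node (.leaf ([])) (.leaf ([(1, true), (0, false), (1,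 false), (0, true), (1, false), (0, true), (1, true), (0, false), (1, true), (0, true)]))) (.leaf ([])))) (.node (.node (.node (.leaf ([])) (.leaf ([]))) (.leaf ([]))) (.node (.node (.leaf ([])) (.leaf ([(1, false), (0, true), (1, false), (0, true), (0, true), (1, true), (1, true), (0, true), (1, false), (0, false), (1, false), (0, true), (1, true), (0, true)]))) (.leaf ([(0, false), (1, true), (1, true), (0, true), (0, true), (1, false), (0, true), (1, true), (0, true), (0, true), (1, false), (1, false), (0, false)])))))) (.node (.node (.node (.node (.node (.leaf ([])) (.leaf ([(1, true), (1, true), (0, true), (1, true), (1, true), (0, false), (1, false), (0, false), (1, true), (0, false), (1, false), (0, true), (1, false), (0, true)]))) (.node (.leaf ([(0, true), (1, true), (0, false), (1, false), (0, true), (1, true), (0, false), (1, true), (1, true), (0, false), (1, true), (1, true), (0, true)])) (.leaf ([(0, false), (1, false), (0, false), (1, true), (0, true), (1, true), (0, false), (1, false),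 (1, false), (0, true), (0, true), (1, true), (0, false), (1, true)])))) (.node (.node (.leaf ([])) (.leaf ([(0, false), (1, true), (0, true), (1, false), (1, false), (0, true), (1, true), (0, false), (1, true), (0, true), (1, true), (1, true), (0, true)]))) (.leaf ([])))) (.node (.node (.node (.leaf ([])) (.leaf ([]))) (.leaf ([]))) (.node (.node (.leaf ([])) (.leaf ([]))) (.leaf ([]))))) (.node (.node (.node (.node (.leaf ([])) (.leaf ([]))) (.leaf ([]))) (.node (.node (.leaf ([])) (.leaf ([]))) (.leaf ([(0, true), (0, true), (1, false), (0, true), (1, false), (0, true), (0, true), (1, true), (0, true), (0, true), (1, false), (1, false), (0, false), (1, false)])))) (.node (.node (.node (.leaf ([])) (.leaf ([]))) (.leaf ([]))) (.node (.node (.leaf ([])) (.leaf ([]))) (.leaf ([]))))))) (.node (.node (.node (.node (.node (.node (.leaf ([])) (.leaf ([(1, true), (0, true), (1, false), (1, false), (0, false), (1, false), (0, true), (1, true), (1, true), (0, true), (1, false), (0, false), (1, true), (0, true)])))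 (.node (.leaf ([])) (.leaf ([])))) (.node (.node (.leaf ([])) (.leaf ([]))) (.leaf ([(0, false), (1, false), (1, false), (0, true), (1, false), (1, false), (0, true), (1, false), (0, false), (1, true), (0, true), (1, false), (0, false)])))) (.node (.node (.node (.leaf ([])) (.leaf ([]))) (.leaf ([(1, true), (0, false), (1, false), (0, false), (1, true), (1, true), (0, false), (1, true), (0, false), (1, false), (0, false), (1, false)]))) (.node (.node (.leaf ([])) (.leaf ([(1, false), (0, false), (1, true), (1, true), (0, true), (1, true), (0, false), (1, true), (1, true), (0, false), (1, false), (0, true), (1, true), (1, true)]))) (.leaf ([]))))) (.node (.node (.node (.node (.leaf ([])) (.leaf ([(1, true), (0, true), (0, true), (1, false), (0, true), (1, true), (0, true), (1, true), (0, true), (0, true), (1, false), (0, true), (1, false), (0, false)]))) (.leaf ([]))) (.node (.node (.leaf ([])) (.leaf ([(0, false), (1, false), (1, false), (0, false), (1, false), (0, true), (1, false), (0, false), (1,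 true), (1, true), (0, false), (1, false), (0, true)]))) (.leaf ([])))) (.node (.node (.node (.leaf ([])) (.leaf ([(0, false), (1, false), (0, true), (1, false), (0, false), (1, true), (0, false), (1, true), (0, true), (1, false)]))) (.leaf ([]))) (.node (.node (.leaf ([])) (.leaf ([(1, true), (0, false), (1, false), (0, true), (1, true), (0, true), (0, true), (1, true), (1, true), (0, true), (1, false), (0, true), (1, false), (0, false)]))) (.leaf ([])))))) (.node (.node (.node (.node (.node (.leaf ([])) (.leaf ([(0, true), (1, true), (0, true), (1, true), (1, true), (0, false), (1, false), (1, false), (0, true), (1, false), (0, false), (1, true), (0, true), (1, true), (0, true)]))) (.node (.leaf ([(0, true), (1, true), (1, true), (0, true), (0, true), (1, true), (0, true), (0, true), (1, false), (0, false), (1, true), (0, true), (1, true)])) (.leaf ([(0, false), (1, true), (0, false), (1, false), (1, false), (0, true), (0, true), (1, false), (0, true), (1, false), (1, false)])))) (.node (.node (.leaf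 ([])) (.leaf ([(0, true), (0, true), (1, true), (0, true), (1, false), (0, false), (1, false), (0, true), (1, false), (0, false), (1, false), (0, false)]))) (.leaf ([])))) (.node (.node (.node (.leaf ([])) (.leaf ([(1, false), (0, true), (1, true), (1, true), (0, true), (1, false), (1, false), (0, true), (1, false), (1, false), (0, false), (1, false), (0, false)]))) (.leaf ([(0, false), (1, false), (0, true), (1, true), (0, true), (1, false), (0, false), (1, false), (0, false), (1, true), (0, true), (0, true)]))) (.node (.node (.leaf ([])) (.leaf ([(0, false), (1, true), (0, true), (1, true), (0, true), (1, true), (0, true), (0, true), (1, true), (1, true), (0, false), (1, true), (1, true), (0, false), (1, true)]))) (.leaf ([]))))) (.node (.node (.node (.node (.leaf ([])) (.leaf ([]))) (.leaf ([]))) (.node (.node (.leaf ([])) (.leaf ([(0, false), (1, false), (0, true), (1, false), (1, false), (0, true), (0, true), (1, true), (1, true), (0, true), (1, false), (0, true), (1, false), (1, false), (0, false)])))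 (.leaf ([(1, false), (0, true), (0, true), (1, false), (0, true), (1, true), (0, true), (1, true), (1, true), (0, false), (1, true), (1, true), (0, true), (0, true)])))) (.node (.node (.node (.leaf ([])) (.leaf ([]))) (.leaf ([]))) (.node (.node (.leaf ([])) (.leaf ([]))) (.leaf ([]))))))))

/-- data -/
def val0 : Trie (Vec) := .node (.node (.node (.node (.node (.node (.node (.node (.leaf ([])) (.leaf ([(-1411), (-879), 2964, (-1068), (-4854), (-2396), (-324), (-471), 6244, (-824), 514, (-123), (-606), (-76), (-206), 939, 12, 6, (-33), (-14), (-3), 2, 12, 2, 10, 1, (-3), (-15)]))) (.node (.leaf ([])) (.leaf ([(-24411), 1399, 70156, 4459, (-51907), (-21574), (-4039), (-2771), 53146, (-10110), 3118, (-377), (-3921), (-860), (-1493), 5992, 30, (-103), (-201), (-48), (-53), (-51), 50, (-3), 51, 34, 20, (-68)])))) (.node (.node (.leaf ([])) (.leaf ([]))) (.leaf ([731, 70, 4964, (-60), 1767, 186, (-58), 227, (-702), (-278), (-227), 52, 223, 13, 24, (-352), (-16), (-11), 11, 9, (-2), (-11), (-5), (-3), (-5),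 5, 6, 10])))) (.node (.node (.node (.leaf ([0, 0, 0, 0, 0, 0, 0, 0, 0, 0, 0, 0, 0, 0, 0, 0, 0, 0, 1])) (.leaf ([0, 0, 0, 0, 0, 0, 0, 0, 0, 0, 0, 0, 0, 0, 0, 0, 1]))) (.leaf ([(-364), 155, 380, 253, (-528), (-76), (-36), (-4), 155, (-49), 11, 8, (-12), (-7), 1, 18, 1, 0, 0, 0, 0, 0, 0, (-1)]))) (.node (.node (.leaf ([0, 0, 0, 0, 0, 0, 0, 0, 0, 0, 0, 0, 0, 0, 0, 0, 1])) (.leaf ([(-10272), (-773), (-1202), 98, (-25101), (-6732), (-765), (-1653), 17372, (-1338), 1659, (-287), (-1807), (-292), (-455), 2893, 71, 60, (-93), (-57), 5, 33, 37, 10, 27, (-14), (-18), (-53)]))) (.leaf ([]))))) (.node (.node (.node (.node (.leaf ([])) (.leaf ([]))) (.leaf ([(-356), 286, 955, 477, (-153), (-119), (-27), 2, 287, (-113), 4, 0, (-13), (-5), (-12), 18, (-3), (-2), 0, 1, (-1), (-1), 0, 0, 0, 1]))) (.node (.node (.leaf ([])) (.leaf ([11823, 2172, (-8524), 1683, 31116, 11247, 1529, 2455, (-28813), 3206, (-2462), 479, 2825, 464, 859, (-4452), (-89), (-51), 139, 78, 0, (-27), (-46), (-10), (-34), 13, 18, 74]))) (.leaf ([]))))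 (.node (.node (.node (.leaf ([])) (.leaf ([0, 0, 0, 0, 0, 0, 0, 0, 0, 0, 0, 0, 0, 0, 0, 0, 1]))) (.leaf ([2, (-2), 0, (-2), 4, 1, 0, 4, 4, 0, (-1), 0, 0, 0, 0, 0, (-1), 2, 0, (-1), 1]))) (.node (.node (.leaf ([0, 0, 0, 0, 0, 0, 0, 0, 0, 0, 0, 0, 0, 0, 0, 0, 0, 0, 0, 0, 0, 0, 0, 1])) (.leaf ([434, (-2495), (-692), (-3696), (-4132), (-2603), (-422), (-649), 6990, (-642), 708, (-184), (-823), (-83), (-237), 1279, 23, (-10), (-43), (-20), (-9), 7, 13, 6, 15, 0, (-7), (-23)]))) (.leaf ([])))))) (.node (.node (.node (.node (.node (.leaf ([])) (.leaf ([304, 12, (-399), 2, 750, 175, 42, 25, (-422), 64, (-34), (-1), 35, 8, 5, (-57), 0, (-1), 2, 1, 0, (-1), (-1), 0, (-1), 0, 0, 1]))) (.node (.leaf ([1358, 623, (-579), 729, 4343, 1645, 203, 379, (-4272), 404, (-383), 81, 434, 60, 126, (-683), (-14), (-8), 23, 12, 0, (-5), (-8), (-2), (-6), 2, 3, 12])) (.leaf ([(-37828), 5457, 64949, 12606, (-72884), (-27365), (-4444), (-4424), 68476, (-11625), 4734, (-751), (-5643), (-1097), (-1945), 8917, 87, (-29), (-267), (-94),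 (-55), (-1), 80, 10, 86, 22, (-15), (-125)])))) (.node (.node (.leaf ([0, 0, 0, 0, 0, 0, 0, 0, 0, 0, 0, 0, 0, 0, 0, 0, 0, 0, 0, 1])) (.leaf ([]))) (.leaf ([1206, (-314), (-2072), (-624), 2035, 587, 34, 68, (-1446), 220, (-49), 10, 59, 18, 31, (-112), 0, (-1), 3, 1, 1, 1, (-1), 0, (-1), (-1), 0, 1])))) (.node (.node (.node (.leaf ([])) (.leaf ([]))) (.leaf ([]))) (.node (.node (.leaf ([])) (.leaf ([(-731), (-70), (-4964), 60, (-1767), (-186), 58, (-227), 702, 278, 226, (-52), (-223), (-13), (-24), 352, 17, 11, (-11), (-9), 2, 11, 5, 3, 5, (-5), (-6), (-10)]))) (.leaf ([(-5262), (-2502), 2292, (-3137), (-17411), (-5510), (-666), (-1231), 14181, (-1242), 1225, (-228), (-1365), (-213), (-375), 2159, 49, 22, (-76), (-37), (-2), 17, 27, 6, 21, (-6), (-8), (-37)]))))) (.node (.node (.node (.node (.leaf ([0, 0, 0, 0, 0, 0, 0, 0, 0, 0, 0, 0, 0, 0, 0, 0, 1])) (.leaf ([(-717), 1209, 53, 1845, 838, 870, 80, 204, (-2383), 213, (-216), 61, 241, 22, 80, (-372), (-11), 6, 11, 1, 4, (-1), (-3), (-1), (-5), 1, 1, 6])))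 (.leaf ([]))) (.node (.node (.leaf ([0, 0, 0, 0, 0, 0, 0, 0, 0, 0, 0, 0, 0, 0, 0, 0, 0, 0, 0, 0, 0, 0, 1])) (.leaf ([(-8326), (-409), 7821, 322, (-19782), (-6497), (-1004), (-1300), 16400, (-2004), 1330, (-217), (-1516), (-281), (-455), 2405, 45, 19, (-75), (-38), (-5), 16, 24, 6, 20, (-5), (-10), (-40)]))) (.leaf ([])))) (.node (.node (.node (.leaf ([])) (.leaf ([]))) (.leaf ([651, (-172), (-41), (-288), 1210, 107, 50, 21, (-201), 30, (-27), (-11), 19, 11, (-10), (-39), (-3), 1, 0, 2, (-1), (-1), 0, 0, 0, 1, (-1)]))) (.node (.node (.leaf ([])) (.leaf ([1230, 867, (-2232), 1104, 4523, 2031, 275, 426, (-5253), 571, (-425), 100, 496, 64, 156, (-782), (-8), 1, 29, 9, 6, (-3), (-9), (-3), (-10), (-2), 5, 13]))) (.leaf ([1357, (-1536), (-892), (-2390), (-61), (-834), (-109), (-219), 2334, (-167), 234, (-91), (-282), (-11), (-98), 437, 6, (-2), (-16), (-6), (-4), 2, 5, 2, 6, 1, (-3), (-8)]))))))) (.node (.node (.node (.node (.node (.node (.leaf ([])) (.leaf ([(-304), (-12), 399, (-2), (-750), (-175), (-42),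 (-25), 422, (-64), 34, 1, (-35), (-8), (-5), 57, 1, 1, (-2), (-1), 0, 1, 1, 0, 1, 0, 0, (-1)]))) (.node (.leaf ([])) (.leaf ([])))) (.node (.node (.leaf ([])) (.leaf ([0, 0, 0, 0, 0, 0, 0, 0, 0, 0, 0, 0, 0, 0, 0, 0, 1]))) (.leaf ([(-77), (-735), 954, (-1086), (-1699), (-943), (-151), (-189), 2457, (-290), 205, (-47), (-236), (-31), (-77), 366, 8, (-6), (-12), (-3), (-4), 1, 3, 1, 5, 0, (-1), (-6)])))) (.node (.node (.node (.leaf ([0, 0, 0, 0, 0, 0, 0, 0, 0, 0, 0, 0, 0, 0, 0, 0, 0, 1])) (.leaf ([]))) (.leaf ([]))) (.node (.node (.leaf ([])) (.leaf ([(-408), (-392), 768, (-511), (-1686), (-903), (-144), (-201), 2351, (-290), 210, (-51), (-248), (-31), (-80), 389, 5, 3, (-12), (-6), (-1), 1, 4, 1, 3, 0, (-2), (-6)]))) (.leaf ([]))))) (.node (.node (.node (.node (.leaf ([])) (.leaf ([]))) (.leaf ([0, 0, 0, 0, 0, 0, 0, 0, 0, 0, (-1), 0, 0, 0, 0, 0, 1, 0, 0, 0, 0, 0, 0, 0, (-1)]))) (.node (.node (.leaf ([0, 0, 0, 0, 0, 0, 0, 0, 0, 0, 0, 0, 0, 0, 0, 0, 0, 0, 0, 0, 0, 1])) (.leaf ([(-52725), 20253, 194893, 35586,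 (-73754), (-36539), (-7244), (-2481), 87174, (-23403), 2990, 35, (-4441), (-1361), (-2357), 6589, (-141), (-418), (-207), 81, (-161), (-217), 24, (-34), 76, 137, 102, (-9)]))) (.leaf ([])))) (.node (.node (.node (.leaf ([])) (.leaf ([]))) (.leaf ([]))) (.node (.node (.leaf ([])) (.leaf ([1411, 879, (-2964), 1068, 4854, 2396, 324, 471, (-6244), 824, (-516), 123, 606, 76, 206, (-939), (-11), (-6), 33, 14, 3, (-2), (-12), (-2), (-10), (-1), 3, 15]))) (.leaf ([])))))) (.node (.node (.node (.node (.node (.leaf ([])) (.leaf ([2554, (-970), (-3342), (-1665), 3846, 807, 184, 90, (-1825), 409, (-94), (-24), 101, 44, 21, (-169), 0, 1, 3, 0, 2, 0, (-1), 0, (-2), (-1), 0, 1]))) (.node (.leaf ([0, 0, 0, 0, 0, 0, 0, 0, 0, 0, 0, 0, 0, 0, 0, 0, 0, 0, 0, 0, 0, 0, 0, 0, 1])) (.leaf ([25382, 12255, (-3917), 14837, 83211, 28934, 3559, 6794, (-75320), 6551, (-6933), 1462, 7799, 1068, 2205, (-12270), (-266), (-143), 426, 209, 13, (-97), (-151), (-38), (-125), 34, 62, 220])))) (.node (.node (.leaf ([0, 0, 0, 0, 0, 0, 0, 0,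 0, 0, 0, 0, 0, 0, 0, 0, 1, (-1)])) (.leaf ([6069, 1971, (-3587), 2225, 18035, 5722, 686, 1236, (-14708), 1397, (-1241), 230, 1386, 221, 393, (-2197), (-48), (-22), 76, 37, 2, (-17), (-27), (-6), (-21), 6, 8, 37]))) (.leaf ([])))) (.node (.node (.node (.leaf ([])) (.leaf ([(-1206), 314, 2072, 624, (-2035), (-587), (-34), (-68), 1446, (-220), 48, (-10), (-59), (-18), (-31), 112, 1, 1, (-3), (-1), (-1), (-1), 1, 0, 1, 1, 0, (-1)]))) (.leaf ([142, (-115), (-383), (-203), 32, 58, (-2), (-10), (-170), 57, (-3), 4, 4, 1, 9, (-5), 1, 0, 0, 0, 0, 0, (-1)]))) (.node (.node (.leaf ([])) (.leaf ([(-47138), (-2009), 70005, 2818, (-109602), (-40843), (-5859), (-7549), 103666, (-14608), 7852, (-1400), (-9217), (-1575), (-3001), 14345, 230, 18, (-476), (-198), (-55), 27, 155, 25, 137, 4, (-26), (-224)]))) (.leaf ([]))))) (.node (.node (.node (.node (.leaf ([])) (.leaf ([]))) (.leaf ([]))) (.node (.node (.leaf ([])) (.leaf ([82116, 5119, (-142373), (-2575), 193637, 76479, 11335, 13790, (-193878), 28318, (-14392), 2660,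 17055, 2885, 5731, (-26497), (-376), 12, 883, 343, 123, (-26), (-281), (-44), (-254), (-26), 49, 409]))) (.leaf ([0, 0, 0, 0, 0, 0, 0, 0, 0, 0, 0, 0, 0, 0, 0, 0, 1])))) (.node (.node (.node (.leaf ([])) (.leaf ([]))) (.leaf ([(-651), 172, 41, 288, (-1210), (-107), (-50), (-21), 201, (-30), 26, 11, (-19), (-11), 10, 39, 4, (-1), 0, (-2), 1, 1, 0, 0, 0, (-1), 1]))) (.node (.node (.leaf ([])) (.leaf ([(-207114), (-2814), 375660, 21481, (-466465), (-186131), (-28161), (-32605), 470424, (-71693), 34194, (-6214), (-40634), (-7001), (-13832), 63334, 822, (-125), (-2092), (-759), (-335), 25, 658, 101, 623, 100, (-103), (-949)]))) (.leaf ([2669, 652, (-828), 553, 7228, 2813, 337, 660, (-7378), 775, (-678), 156, 775, 107, 243, (-1222), (-25), (-16), 39, 19, 3, (-9), (-14), (-4), (-12), 3, 8, 22])))))))) (.node (.node (.node (.node (.node (.node (.node (.leaf ([])) (.leaf ([(-2002), 879, 2697, 1461, (-2773), (-574), (-194), (-50), 1271, (-354), 78, 24, (-82), (-35), (-12), 139, (-2), 0, (-1), 0, (-2), 1, 0, 0,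 2, 1, (-1), (-1)]))) (.node (.leaf ([0, 0, 0, 0, 0, 0, 0, 0, 0, 0, 0, 0, 0, 0, 0, 0, 0, 1])) (.leaf ([(-39035), 536, 123740, 4873, (-85621), (-39788), (-7524), (-5320), 98645, (-18667), 6057, (-938), (-7613), (-1498), (-2921), 11639, 54, (-185), (-390), (-100), (-97), (-86), 101, (-1), 99, 62, 26, (-140)])))) (.node (.node (.leaf ([])) (.leaf ([14234, 1536, (-14416), 485, 35139, 12659, 1758, 2600, (-32371), 4001, (-2669), 499, 3073, 496, 942, (-4819), (-90), (-27), 157, 72, 14, (-24), (-53), (-12), (-45), 6, 18, 80]))) (.leaf ([])))) (.node (.node (.node (.leaf ([])) (.leaf ([]))) (.leaf ([(-539), (-750), 1040, (-1066), (-2806), (-1278), (-241), (-278), 3299, (-383), 303, (-64), (-355), (-43), (-100), 544, 7, (-4), (-20), (-7), (-4), 3, 6, 1, 7, 1, (-3), (-10)]))) (.node (.node (.leaf ([])) (.leaf ([0, 0, 0, 0, 0, 0, 0, 0, 0, 0, 0, 0, 0, 0, 0, 0, 0, 1]))) (.leaf ([]))))) (.node (.node (.node (.node (.leaf ([])) (.leaf ([0, 0, 0, 0, 0, 0, 0, 0, 0, 0, 0, 0, 0, 0, 0, 0, 0, 1]))) (.leaf ([]))) (.node (.node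 (.leaf ([])) (.leaf ([(-2081), 11395, 52161, 16812, 20034, 4411, (-37), 2780, (-13601), (-3087), (-2712), 739, 2785, 200, 496, (-4433), (-177), (-185), 150, 134, (-41), (-112), (-64), (-28), (-32), 60, 63, 110]))) (.leaf ([0, 0, 0, 0, 0, 0, 0, 0, 0, 0, 0, 0, 0, 0, 0, 0, 0, 1])))) (.node (.node (.node (.leaf ([])) (.leaf ([]))) (.leaf ([0, 0, 0, 0, 0, 0, 0, 0, 0, 0, 0, 0, 0, 0, 0, 0, 0, 1]))) (.node (.node (.leaf ([])) (.leaf ([46973, 9920, (-53776), 8833, 126109, 47718, 6948, 9678, (-122180), 14975, (-10108), 1984, 11701, 1809, 3635, (-18270), (-316), (-95), 615, 269, 52, (-80), (-203), (-40), (-172), 15, 66, 295]))) (.leaf ([(-8502), (-2052), 5838, (-1950), (-23369), (-8656), (-1239), (-1919), 22322, (-2504), 1992, (-388), (-2282), (-345), (-674), 3548, 71, 23, (-116), (-58), (-7), 23, 39, 10, 32, (-8), (-16), (-61)])))))) (.node (.node (.node (.node (.node (.leaf ([])) (.leaf ([1319, (-156), (-1444), (-411), 2577, 1003, 157, 208, (-2578), 382, (-222), 40, 264, 42, 80, (-404), (-7), 1, 12, 6, 2, (-1),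 (-4), (-1), (-4), 0, 2, 7]))) (.node (.leaf ([(-527), (-455), 4081, (-602), (-2052), (-1175), (-158), (-114), 3011, (-469), 138, (-51), (-161), (-13), (-75), 288, (-6), (-10), (-13), 2, (-8), 1, 5, 2, 6, 5, (-2), (-5)])) (.leaf ([(-234873), 5312, 442285, 36774, (-510900), (-204633), (-31454), (-34910), 515694, (-81345), 36661, (-6520), (-43775), (-7738), (-15122), 68270, 819, (-204), (-2233), (-779), (-389), (-16), 690, 97, 671, 137, (-95), (-1002)])))) (.node (.node (.leaf ([0, 0, 0, 0, 0, 0, 0, 0, 0, 0, 0, 0, 0, 0, 0, 0, 0, 1])) (.leaf ([5189, (-4101), 10257, (-6861), 3379, (-3394), (-1293), (-445), 8613, (-1790), 736, (-199), (-971), (-73), (-381), 1345, (-14), (-51), (-53), 18, (-32), (-12), 5, (-1), 15, 14, (-13), (-11)]))) (.leaf ([])))) (.node (.node (.node (.leaf ([])) (.leaf ([]))) (.leaf ([]))) (.node (.node (.leaf ([])) (.leaf ([]))) (.leaf ([]))))) (.node (.node (.node (.node (.leaf ([])) (.leaf ([]))) (.leaf ([0, 0, 0, 0, 0, 0, 0, 0, 0, 0, 0, 0, 0, 0, 0, 0, 0, 1]))) (.node (.node (.leaf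 ([])) (.leaf ([0, 0, 0, 0, 0, 0, 0, 0, 0, 0, 0, 0, 0, 0, 0, 0, 0, 1]))) (.leaf ([(-31400), 2971, 67735, 8334, (-63154), (-26292), (-3998), (-4177), 66014, (-11317), 4380, (-747), (-5312), (-982), (-1936), 8251, 84, (-72), (-269), (-74), (-65), (-21), 79, 9, 87, 29, (-2), (-116)])))) (.node (.node (.node (.leaf ([])) (.leaf ([0, 0, 0, 0, 0, 0, 0, 0, 0, 0, 0, 0, 0, 0, 0, 0, 0, 1]))) (.leaf ([0, 0, 0, 0, 0, 0, 0, 0, 0, 0, 0, 0, 0, 0, 0, 0, 0, 1]))) (.node (.node (.leaf ([])) (.leaf ([]))) (.leaf ([]))))))) (.node (.node (.node (.node (.node (.node (.leaf ([])) (.leaf ([(-2343), 925, 3155, 1572, (-3446), (-799), (-220), (-96), 1822, (-445), 117, 19, (-133), (-48), (-30), 210, 0, (-3), (-4), (-1), (-2), 0, 1, 0, 2, 1, 0, (-2)]))) (.node (.leaf ([])) (.leaf ([0, 0, 0, 0, 0, 0, 0, 0, 0, 0, 0, 0, 0, 0, 0, 0, 0, 1])))) (.node (.node (.leaf ([])) (.leaf ([]))) (.leaf ([(-2305), (-549), 6191, (-535), (-6255), (-2786), (-428), (-440), 7052, (-1095), 468, (-104), (-564), (-98), (-217), 905, 10, 2, (-29), (-10), (-5),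 (-2), 9, 1, 7, 2, (-1), (-13)])))) (.node (.node (.node (.leaf ([0, 0, 0, 0, 0, 0, 0, 0, 0, 0, 0, 0, 0, 0, 0, 0, 0, 1])) (.leaf ([]))) (.leaf ([539, 750, (-1040), 1066, 2806, 1278, 241, 278, (-3299), 383, (-303), 64, 355, 43, 100, (-544), (-7), 5, 20, 7, 4, (-3), (-6), (-1), (-7), (-1), 3, 10]))) (.node (.node (.leaf ([])) (.leaf ([(-493), (-252), 857, (-271), (-1538), (-887), (-121), (-201), 2328, (-298), 206, (-53), (-247), (-29), (-81), 380, 7, 0, (-12), (-6), (-2), 1, 4, 1, 4, 0, (-2), (-7)]))) (.leaf ([]))))) (.node (.node (.node (.node (.leaf ([0, 0, 0, 0, 0, 0, 0, 0, 0, 0, 0, 0, 0, 0, 0, 0, 0, 1])) (.leaf ([4508, 3534, (-10005), 4648, 17432, 7787, 1091, 1557, (-20014), 2449, (-1580), 355, 1891, 271, 627, (-2886), (-50), (-3), 101, 49, 8, (-4), (-32), (-6), (-25), 1, 5, 50]))) (.leaf ([]))) (.node (.node (.leaf ([])) (.leaf ([(-75717), 14557, 207550, 30038, (-137615), (-58820), (-10258), (-7387), 144528, (-29483), 8013, (-966), (-10136), (-2244), (-4033), 15609, 42, (-315), (-494), (-73), (-167),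 (-154), 123, (-11), 155, 112, 61, (-164)]))) (.leaf ([])))) (.node (.node (.node (.leaf ([0, 0, 0, 0, 0, 0, 0, 0, 0, 0, 0, 0, 0, 0, 0, 0, 0, 1])) (.leaf ([7006, (-2485), (-16852), (-4555), 10355, 3532, 345, 319, (-8488), 1864, (-235), (-2), 353, 134, 218, (-543), 4, 8, 23, 4, 4, 18, (-7), 3, (-4), (-8), (-12), 3]))) (.leaf ([]))) (.node (.node (.leaf ([])) (.leaf ([(-26615), (-2096), 31557, 211, (-64059), (-23112), (-3188), (-4560), 58888, (-7583), 4665, (-865), (-5401), (-891), (-1698), 8469, 148, 34, (-282), (-120), (-31), 33, 94, 20, 85, (-4), (-27), (-141)]))) (.leaf ([])))))) (.node (.node (.node (.node (.node (.leaf ([])) (.leaf ([2121, (-940), (-2824), (-1560), 2927, 592, 204, 51, (-1293), 364, (-80), (-27), 81, 37, 10, (-139), 2, 1, 1, 0, 2, (-1), 0, 0, (-2), (-1), 1, 1]))) (.node (.leaf ([0, 0, 0, 0, 0, 0, 0, 0, 0, 0, 0, 0, 0, 0, 0, 0, 0, 0, 0, 0, 0, 0, 0, 0, 0, 0, 0, 1])) (.leaf ([29138, 11048, (-10770), 12549, 88940, 31155, 3858, 7127, (-80837), 7646, (-7264), 1500, 8232, 1180, 2392, (-12897),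 (-281), (-149), 445, 227, 9, (-93), (-158), (-37), (-122), 36, 58, 227])))) (.node (.node (.leaf ([])) (.leaf ([50623, 3966, (-69059), (-542), 121337, 45332, 6226, 8699, (-115561), 15493, (-8950), 1690, 10450, 1724, 3388, (-16327), (-267), (-50), 547, 230, 61, (-49), (-182), (-34), (-161), 0, 44, 265]))) (.leaf ([0, 0, 0, 0, 0, 0, 0, 0, 0, 0, 0, 0, 0, 0, 0, 0, 0, 1])))) (.node (.node (.node (.leaf ([])) (.leaf ([(-709), (-109), 1178, (-66), (-1814), (-704), (-83), (-144), 1778, (-213), 125, (-28), (-151), (-21), (-50), 241, 2, 0, (-9), (-2), (-2), 0, 3, 1, 3, 1, (-1), (-4)]))) (.leaf ([288, (-22), (-518), (-48), 631, 206, 57, 33, (-486), 99, (-40), 2, 49, 11, 14, (-66), (-1), 0, 3, 1, 0, 0, (-1), 0, (-1), 0, 0, 1]))) (.node (.node (.leaf ([0, 0, 0, 0, 0, 0, 0, 0, 0, 0, 0, 0, 0, 0, 0, 0, 0, 1])) (.leaf ([5544, 791, (-980), 315, 13913, 4938, 478, 1216, (-12918), 1189, (-1180), 270, 1329, 176, 403, (-2104), (-40), (-28), 71, 30, 8, (-22), (-27), (-9), (-25), 4, 18, 42]))) (.leaf ([0, 0, 0, 0, 0, 0, 0, 0,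 0, 0, 0, 0, 0, 0, 0, 0, 0, 1]))))) (.node (.node (.node (.node (.leaf ([])) (.leaf ([0, 0, 0, 0, 0, 0, 0, 0, 0, 0, 0, 0, 0, 0, 0, 0, 0, 1]))) (.leaf ([]))) (.node (.node (.leaf ([0, 0, 0, 0, 0, 0, 0, 0, 0, 0, 0, 0, 0, 0, 0, 0, 0, 1])) (.leaf ([55059, 5633, (-61115), 1258, 134752, 50276, 7060, 10219, (-128622), 16383, (-10550), 2060, 12213, 1922, 3840, (-19116), (-328), (-101), 627, 277, 63, (-88), (-213), (-47), (-187), 14, 75, 321]))) (.leaf ([3144, 5424, (-948), 7385, 18106, 8197, 846, 1943, (-21686), 1831, (-1940), 506, 2245, 262, 717, (-3478), (-77), (-33), 125, 62, 5, (-22), (-43), (-11), (-33), 9, 16, 66])))) (.node (.node (.node (.leaf ([])) (.leaf ([0, 0, 0, 0, 0, 0, 0, 0, 0, 0, 0, 0, 0, 0, 0, 0, 0, 1]))) (.leaf ([]))) (.node (.node (.leaf ([])) (.leaf ([]))) (.leaf ([0, 0, 0, 0, 0, 0, 0, 0, 0, 0, 0, 0, 0, 0, 0, 0, 0, 1]))))))))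

/-- data -/
def rank0 : Trie (ℕ) := .node (.node (.node (.node (.node (.node (.node (.node (.leaf 0) (.leaf 60)) (.node (.leaf 0) (.leaf 91))) (.node (.node (.leaf 0) (.leaf 0)) (.leaf 63))) (.node (.node (.node (.leaf 31) (.leaf 5)) (.leaf 39)) (.node (.node (.leaf 3) (.leaf 79)) (.leaf 0)))) (.node (.node (.node (.node (.leaf 0) (.leaf 0)) (.leaf 43)) (.node (.node (.leaf 0) (.leaf 78)) (.leaf 0))) (.node (.node (.node (.leaf 0) (.leaf 6)) (.leaf 33)) (.node (.node (.leaf 36) (.leaf 87)) (.leaf 0))))) (.node (.node (.node (.node (.node (.leaf 1) (.leaf 42)) (.node (.leaf 62) (.leaf 100))) (.node (.node (.leaf 32) (.leaf 0)) (.leaf 52))) (.node (.node (.node (.leaf 0) (.leaf 0)) (.leaf 0)) (.node (.node (.leaf 0) (.leaf 74)) (.leaf 67)))) (.node (.node (.node (.node (.leaf 2) (.leaf 68)) (.leaf 0)) (.node (.node (.leaf 35) (.leaf 73)) (.leaf 0))) (.node (.node (.node (.leaf 0) (.leaf 0)) (.leaf 44)) (.node (.node (.leaf 0) (.leaf 70)) (.leaf 72)))))) (.node (.node (.node (.node (.node (.node (.leaf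 0) (.leaf 46)) (.node (.leaf 0) (.leaf 0))) (.node (.node (.leaf 0) (.leaf 7)) (.leaf 59))) (.node (.node (.node (.leaf 29) (.leaf 0)) (.leaf 0)) (.node (.node (.leaf 0) (.leaf 58)) (.leaf 0)))) (.node (.node (.node (.node (.leaf 0) (.leaf 0)) (.leaf 41)) (.node (.node (.leaf 34) (.leaf 95)) (.leaf 0))) (.node (.node (.node (.leaf 0) (.leaf 0)) (.leaf 0)) (.node (.node (.leaf 0) (.leaf 75)) (.leaf 0))))) (.node (.node (.node (.node (.node (.leaf 0) (.leaf 50)) (.node (.leaf 37) (.leaf 93))) (.node (.node (.leaf 30) (.leaf 66)) (.leaf 0))) (.node (.node (.node (.leaf 0) (.leaf 53)) (.leaf 40)) (.node (.node (.leaf 0) (.leaf 86)) (.leaf 0)))) (.node (.node (.node (.node (.leaf 0) (.leaf 0)) (.leaf 0)) (.node (.node (.leaf 0) (.leaf 90)) (.leaf 4))) (.node (.node (.node (.leaf 0) (.leaf 0)) (.leaf 45)) (.node (.node (.leaf 0) (.leaf 99)) (.leaf 69))))))) (.node (.node (.node (.node (.node (.node (.node (.leaf 0) (.leaf 51)) (.node (.leaf 14) (.leaf 98))) (.node (.node (.leaf 0) (.leaf 77)) (.leaf 0))) (.node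 (.node (.node (.leaf 0) (.leaf 0)) (.leaf 57)) (.node (.node (.leaf 0) (.leaf 27)) (.leaf 0)))) (.node (.node (.node (.node (.leaf 0) (.leaf 22)) (.leaf 0)) (.node (.node (.leaf 0) (.leaf 88)) (.leaf 19))) (.node (.node (.node (.leaf 0) (.leaf 0)) (.leaf 16)) (.node (.node (.leaf 0) (.leaf 97)) (.leaf 65))))) (.node (.node (.node (.node (.node (.leaf 0) (.leaf 55)) (.node (.leaf 64) (.leaf 101))) (.node (.node (.leaf 11) (.leaf 96)) (.leaf 0))) (.node (.node (.node (.leaf 0) (.leaf 0)) (.leaf 0)) (.node (.node (.leaf 0) (.leaf 0)) (.leaf 0)))) (.node (.node (.node (.node (.leaf 0) (.leaf 0)) (.leaf 15)) (.node (.node (.leaf 0) (.leaf 26)) (.leaf 82))) (.node (.node (.node (.leaf 0) (.leaf 24)) (.leaf 17)) (.node (.node (.leaf 0) (.leaf 0)) (.leaf 0)))))) (.node (.node (.node (.node (.node (.node (.leaf 0) (.leaf 48)) (.node (.leaf 0) (.leaf 28))) (.node (.node (.leaf 0) (.leaf 0)) (.leaf 61))) (.node (.node (.node (.leaf 9) (.leaf 0)) (.leaf 76)) (.node (.node (.leaf 0) (.leaf 56)) (.leaf 0)))) (.node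 (.node (.node (.node (.leaf 8) (.leaf 84)) (.leaf 0)) (.node (.node (.leaf 0) (.leaf 94)) (.leaf 0))) (.node (.node (.node (.leaf 10) (.leaf 85)) (.leaf 0)) (.node (.node (.leaf 0) (.leaf 80)) (.leaf 0))))) (.node (.node (.node (.node (.node (.leaf 0) (.leaf 49)) (.node (.leaf 38) (.leaf 92))) (.node (.node (.leaf 0) (.leaf 83)) (.leaf 18))) (.node (.node (.node (.leaf 0) (.leaf 54)) (.leaf 47)) (.node (.node (.leaf 13) (.leaf 71)) (.leaf 20)))) (.node (.node (.node (.node (.leaf 0) (.leaf 23)) (.leaf 0)) (.node (.node (.leaf 12) (.leaf 89)) (.leaf 81))) (.node (.node (.node (.leaf 0) (.leaf 25)) (.leaf 0)) (.node (.node (.leaf 0) (.leaf 0)) (.leaf 21)))))))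

/-- data -/
def tree0 : Trie (ℕ × ℕ) := .node (.node (.node (.node (.node (.node (.node (.leaf (0, 0)) (.leaf (50, 1))) (.node (.leaf (20, 1)) (.leaf (90, 1)))) (.node (.node (.leaf (10, 1)) (.leaf (68, 0))) (.leaf (31, 1)))) (.node (.node (.node (.leaf (4, 0)) (.leaf (57, 0))) (.leaf (26, 1))) (.node (.node (.leaf (15, 0)) (.leaf (74, 1))) (.leaf (39, 1))))) (.node (.node (.node (.node (.leaf (1, 1)) (.leaf (53, 1))) (.leaf (24, 1))) (.node (.node (.leaf (12, 1)) (.leaf (72, 1))) (.leaf (36, 1)))) (.node (.node (.node (.leaf (7, 0)) (.leaf (60, 0))) (.leaf (29, 1))) (.node (.node (.leaf (17, 0)) (.leaf (79, 0))) (.leaf (45, 0)))))) (.node (.node (.node (.node (.node (.leaf (0, 1)) (.leaf (52, 0))) (.node (.leaf (22, 1)) (.leaf (95, 1)))) (.node (.node (.leaf (11, 1)) (.leaf (70, 1))) (.leaf (33, 0)))) (.node (.node (.node (.leaf (5, 0)) (.leaf (58, 1))) (.leaf (28, 1))) (.node (.node (.leaf (16, 0)) (.leaf (77, 0))) (.leaf (42, 0))))) (.node (.node (.node (.node (.leaf (3, 0)) (.leaf (56, 0))) (.leaf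 (25, 1))) (.node (.node (.leaf (14, 0)) (.leaf (73, 1))) (.leaf (38, 0)))) (.node (.node (.node (.leaf (8, 1)) (.leaf (61, 1))) (.leaf (30, 1))) (.node (.node (.leaf (19, 1)) (.leaf (81, 1))) (.leaf (47, 1))))))) (.node (.node (.node (.node (.node (.node (.leaf (0, 0)) (.leaf (51, 0))) (.node (.leaf (21, 1)) (.leaf (94, 1)))) (.node (.node (.leaf (11, 0)) (.leaf (69, 0))) (.leaf (32, 0)))) (.node (.node (.node (.leaf (4, 1)) (.leaf (57, 1))) (.leaf (27, 0))) (.node (.node (.leaf (15, 1)) (.leaf (76, 1))) (.leaf (41, 0))))) (.node (.node (.node (.node (.leaf (2, 1)) (.leaf (54, 0))) (.leaf (25, 0))) (.node (.node (.leaf (13, 0)) (.leaf (73, 0))) (.leaf (37, 1)))) (.node (.node (.node (.leaf (7, 1)) (.leaf (61, 0))) (.leaf (30, 0))) (.node (.node (.leaf (17, 1)) (.leaf (80, 0))) (.leaf (45, 1)))))) (.node (.node (.node (.node (.node (.leaf (1, 0)) (.leaf (53, 0))) (.node (.leaf (23, 0)) (.leaf (97, 0)))) (.node (.node (.leaf (12, 0)) (.leaf (71, 0))) (.leaf (33, 1)))) (.node (.node (.node (.leaf (6, 1))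 (.leaf (59, 0))) (.leaf (29, 0))) (.node (.node (.leaf (16, 1)) (.leaf (78, 0))) (.leaf (42, 1))))) (.node (.node (.node (.node (.leaf (3, 1)) (.leaf (56, 1))) (.leaf (26, 0))) (.node (.node (.leaf (14, 1)) (.leaf (74, 0))) (.leaf (39, 0)))) (.node (.node (.node (.leaf (10, 0)) (.leaf (62, 1))) (.leaf (31, 0))) (.node (.node (.leaf (20, 0)) (.leaf (82, 0))) (.leaf (48, 1)))))))

/-- data -/
def cert0 : Trie (ℕ × ℕ × ℕ) := .node (.node (.node (.node (.node (.node (.node (.leaf (0, 0, 1)) (.leaf (10, 65, 22))) (.node (.leaf (6, 0, 10)) (.leaf (8, 71, 28)))) (.node (.node (.leaf (3, 19, 2)) (.leaf (4, 35, 4))) (.leaf (12, 4, 9)))) (.node (.node (.node (.leaf (3, 1, 2)) (.leaf (13, 33, 49))) (.leaf (2, 23, 3))) (.node (.node (.leaf (3, 47, 2)) (.leaf (7, 60, 52))) (.leaf (4, 44, 41))))) (.node (.node (.node (.node (.leaf (2, 27, 3)) (.leaf (12, 8, 8))) (.node (.leaf (10, 0, 6)) (.leaf (9, 43, 19)))) (.node (.node (.leaf (3, 31, 2)) (.leaf (5, 15, 21))) (.leaf (2, 33, 3)))) (.node (.node (.node (.leaf (3,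 10, 2)) (.leaf (4, 4, 47))) (.leaf (2, 20, 2))) (.node (.node (.leaf (1, 0, 3)) (.leaf (8, 30, 52))) (.leaf (10, 15, 13)))))) (.node (.node (.node (.node (.node (.leaf (2, 5, 3)) (.leaf (11, 10, 25))) (.node (.leaf (8, 0, 5)) (.leaf (8, 79, 2)))) (.node (.node (.leaf (3, 24, 2)) (.leaf (5, 3, 30))) (.leaf (3, 50, 1)))) (.node (.node (.node (.leaf (3, 6, 2)) (.leaf (2, 64, 3))) (.leaf (11, 5, 10))) (.node (.node (.leaf (3, 58, 2)) (.leaf (7, 89, 11))) (.leaf (7, 57, 8))))) (.node (.node (.node (.node (.leaf (2, 38, 3)) (.leaf (13, 12, 6))) (.leaf (2, 11, 3))) (.node (.node (.leaf (3, 39, 2)) (.leaf (5, 58, 12))) (.leaf (13, 9, 26)))) (.node (.node (.node (.leaf (3, 15, 2)) (.leaf (4, 24, 13))) (.leaf (5, 44, 39))) (.node (.node (.leaf (4, 0, 3)) (.leaf (8, 39, 32))) (.leaf (10, 46, 51))))))) (.node (.node (.node (.node (.node (.node (.leaf (2, 0, 3)) (.leaf (10, 89, 8))) (.node (.leaf (7, 0, 5)) (.leaf (8, 75, 31)))) (.node (.node (.leaf (3, 21, 2)) (.leaf (4, 67, 19))) (.leaf (13, 21, 58)))) (.node (.node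 (.node (.leaf (3, 3, 2)) (.leaf (2, 48, 3))) (.leaf (5, 12, 46))) (.node (.node (.leaf (3, 57, 2)) (.leaf (7, 76, 50))) (.leaf (6, 4, 10))))) (.node (.node (.node (.node (.leaf (2, 30, 3)) (.leaf (12, 10, 8))) (.leaf (13, 0, 6))) (.node (.node (.leaf (3, 37, 2)) (.leaf (5, 28, 17))) (.leaf (9, 1, 39)))) (.node (.node (.node (.leaf (3, 12, 2)) (.leaf (4, 16, 54))) (.leaf (2, 51, 1))) (.node (.node (.leaf (2, 7, 2)) (.leaf (8, 37, 8))) (.leaf (10, 36, 51)))))) (.node (.node (.node (.node (.node (.leaf (2, 16, 3)) (.leaf (11, 11, 7))) (.node (.leaf (9, 0, 6)) (.leaf (9, 21, 33)))) (.node (.node (.leaf (3, 28, 2)) (.leaf (5, 4, 21))) (.leaf (12, 25, 4)))) (.node (.node (.node (.leaf (3, 8, 2)) (.leaf (3, 26, 2))) (.leaf (12, 2, 14))) (.node (.node (.leaf (3, 81, 2)) (.leaf (8, 13, 24))) (.leaf (8, 33, 2))))) (.node (.node (.node (.node (.leaf (3, 0, 2)) (.leaf (13, 31, 2))) (.leaf (2, 14, 3))) (.node (.node (.leaf (3, 45, 2)) (.leaf (7, 41, 3))) (.leaf (3, 66, 2)))) (.node (.node (.node (.leaf (3, 17, 2))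 (.leaf (4, 33, 7))) (.leaf (6, 1, 5))) (.node (.node (.leaf (5, 0, 5)) (.leaf (8, 49, 53))) (.leaf (10, 59, 22)))))))

/-- data -/
def pot0 : Trie (Vec) := .node (.node (.node (.node (.node (.node (.node (.leaf ([])) (.leaf ([4, 4]))) (.node (.leaf ([3, 3])) (.leaf ([7, 4])))) (.node (.node (.leaf ([1, 3])) (.leaf ([4, 5]))) (.leaf ([4, 3])))) (.node (.node (.node (.leaf ([2, 1])) (.leaf ([4, 4]))) (.leaf ([2, 4]))) (.node (.node (.leaf ([3, 2])) (.leaf ([6, 4]))) (.leaf ([3, 4]))))) (.node (.node (.node (.node (.leaf ([1, 1])) (.leaf ([3, 5]))) (.leaf ([3, 3]))) (.node (.node (.leaf ([3, 2])) (.leaf ([4, 5]))) (.leaf ([3, 4])))) (.node (.node (.node (.leaf ([3, 1])) (.leaf ([7, 2]))) (.leaf ([4, 3]))) (.node (.node (.leaf ([5, 1])) (.leaf ([6, 4]))) (.leaf ([6, 2])))))) (.node (.node (.node (.node (.node (.leaf ([0, 1])) (.leaf ([4, 4]))) (.node (.leaf ([3, 3])) (.leaf ([5, 6])))) (.node (.node (.leaf ([3, 2])) (.leaf ([4, 5]))) (.leaf ([4, 3])))) (.node (.node (.node (.leaf ([1, 2])) (.leaf ([6, 3])))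 (.leaf ([5, 2]))) (.node (.node (.leaf ([2, 3])) (.leaf ([7, 3]))) (.leaf ([6, 2]))))) (.node (.node (.node (.node (.leaf ([3])) (.leaf ([4, 4]))) (.leaf ([2, 4]))) (.node (.node (.leaf ([3, 2])) (.leaf ([3, 6]))) (.leaf ([3, 4])))) (.node (.node (.node (.leaf ([2, 2])) (.leaf ([5, 4]))) (.leaf ([4, 3]))) (.node (.node (.leaf ([4, 2])) (.leaf ([5, 5]))) (.leaf ([5, 3]))))))) (.node (.node (.node (.node (.node (.node (.leaf ([1])) (.leaf ([4, 4]))) (.node (.leaf ([3, 3])) (.leaf ([5, 6])))) (.node (.node (.leaf ([4, 1])) (.leaf ([5, 4]))) (.leaf ([4, 3])))) (.node (.node (.node (.leaf ([1, 2])) (.leaf ([3, 5]))) (.leaf ([2, 4]))) (.node (.node (.leaf ([2, 3])) (.leaf ([7, 3]))) (.leaf ([3, 4]))))) (.node (.node (.node (.node (.leaf ([0, 2])) (.leaf ([4, 4]))) (.leaf ([3, 3]))) (.node (.node (.leaf ([3, 2])) (.leaf ([4, 5]))) (.leaf ([3, 4])))) (.node (.node (.node (.leaf ([2, 2])) (.leaf ([6, 3]))) (.leaf ([5, 2]))) (.node (.node (.leaf ([4, 2])) (.leaf ([5, 5]))) (.leaf ([5, 3])))))) (.node (.node (.node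 (.node (.node (.leaf ([2])) (.leaf ([4, 4]))) (.node (.leaf ([3, 3])) (.leaf ([6, 6])))) (.node (.node (.leaf ([4, 1])) (.leaf ([4, 5]))) (.leaf ([3, 4])))) (.node (.node (.node (.leaf ([3, 1])) (.leaf ([6, 3]))) (.leaf ([5, 2]))) (.node (.node (.leaf ([1, 4])) (.leaf ([6, 4]))) (.leaf ([5, 3]))))) (.node (.node (.node (.node (.leaf ([2, 1])) (.leaf ([3, 5]))) (.leaf ([3, 3]))) (.node (.node (.leaf ([2, 3])) (.leaf ([7, 3]))) (.leaf ([4, 3])))) (.node (.node (.node (.leaf ([2, 2])) (.leaf ([5, 4]))) (.leaf ([5, 2]))) (.node (.node (.leaf ([4, 2])) (.leaf ([5, 5]))) (.leaf ([4, 4])))))))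

/-- the table -/
def table0 : Table where
  size := 100
  ngen := 2
  next g x := next0.getK (2 * g + x)
  prev g x := prev0.getK (2 * g + x)
  lab g x := lab0.getK (2 * g + x)
  val g x := val0.getK (2 * g + x)
  rank g x := rank0.getK (2 * g + x)
  tree g := tree0.getK g
  cert j := cert0.getK j
  nded := 101
  rels := [⟨[(1, true), (0, true), (1, false)], [(0, true)], []⟩,
    ⟨[(0, true), (0, true), (1, true), (0, false), (1, true), (0, false)], [(1, true)], []⟩,
    ⟨[(0, true), (0, true), (0, true), (0, true)], [], [0, 0, 0, 0, 0, 0, 0, 0, 0, 0, 0, 0, 0, 0, 0, 0, 1]⟩,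
    ⟨[(1, true), (1, true), (1, true)], [], [0, 0, 0, 0, 0, 0, 0, 0, 0, 0, 0, 0, 0, 0, 0, 0, 0, 1]⟩,
    ⟨[(0, true), (1, true), (0, true), (0, true), (1, false), (1, false), (0, true), (1, false), (0, false), (0, false), (1, true), (0, false), (1, false), (0, true), (1, false), (0, true), (1, false), (0, false), (0, false), (1, true), (0, false), (1, false), (0, true), (0, true), (1, true), (0, false), (1, true), (0, false), (1, true), (0, false), (1, false), (0, true), (1, false), (0, true), (1, false), (0, false), (0, false), (1, true), (0, true), (1, false), (0, true), (1, false), (0, true), (1, false), (0, false), (1, false), (0, true), (1, false), (0, false), (0, false), (1, true), (0, true), (1, false), (0, true), (0, true), (1, true), (0, false), (1, true), (0, false)], [], [0, 0, 0, 0, 0, 0, 0, 0, 0, 0, 0, 0, 0, 0, 0, 0, 0, 0, 1]⟩,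
    ⟨[(0, true), (0, true), (0, true), (1, true), (1, true), (0, true), (1, false), (1, false), (0, false), (0, false), (0, false), (1, true), (0, false), (0, false), (1, false), (0, true), (1, false), (0, true), (1, false), (0, false), (0, false), (1, true), (0, true), (1, false), (0, true), (0, true), (1, true), (0, false), (1, true), (0, false), (1, true), (0, false), (1, false), (0, true), (0, true), (1, true), (0, false), (1, true), (0, false), (1, true), (0, true), (1, false), (0, true), (1, false), (0, true), (1, false), (0, false), (0, false), (1, true), (0, true), (1, false), (0, true), (1, false), (0, true), (1, false), (0, false), (0, false)], [], [0, 0, 0, 0, 0, 0, 0, 0, 0, 0, 0, 0, 0, 0, 0, 0, 0, 0, 0, 1]⟩,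
    ⟨[(0, true), (1, false), (0, true), (1, false), (0, true), (1, false), (0, true), (1, false), (0, true), (1, false), (0, true), (1, false), (0, true), (1, false), (0, true), (1, false)], [], [0, 0, 0, 0, 0, 0, 0, 0, 0, 0, 0, 0, 0, 0, 0, 0, 0, 0, 0, 0, 1]⟩,
    ⟨[(0, true), (0, true), (1, true), (1, true), (0, true), (0, true), (1, false), (1, false), (0, false), (0, false), (1, true), (0, false), (1, false), (0, true), (0, true), (1, true), (0, false), (1, true), (0, false), (1, true), (0, false), (1, false), (0, true), (0, true), (1, true), (0, false), (1, true), (0, false), (1, true), (0, false), (0, false), (1, false), (0, true), (1, false), (0, true), (1, false), (0, false), (0, false), (1, true), (0, false), (1, false), (0, true), (1, false), (0, true), (1, false), (0, false), (0, false), (1, true), (0, false), (1, false), (0, true), (0, true), (1, true), (0, false), (1, true), (0, false), (1, true), (0, false), (0, false), (1, false), (0, true), (1, false), (0, true), (1, false), (0, false),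 (0, false)], [], [0, 0, 0, 0, 0, 0, 0, 0, 0, 0, 0, 0, 0, 0, 0, 0, 0, 0, 0, 0, 0, 1]⟩,
    ⟨[(0, true), (1, true), (0, true), (1, true), (0, true), (0, true), (1, false), (0, false), (1, false), (0, false), (1, true), (0, false), (1, true), (0, false), (1, true), (0, false), (0, false), (1, false), (0, true), (0, true), (1, true), (0, false), (1, true), (0, true), (1, true), (0, false), (1, true), (0, false), (1, true), (0, false), (0, false), (1, false), (0, true), (1, false), (0, true), (1, false), (0, false), (0, false), (1, true), (0, true), (1, false), (0, true), (1, false), (0, true), (1, false), (0, false), (0, false), (1, true), (0, false), (1, false), (0, true), (1, false), (0, true), (1, false), (0, false), (1, false), (0, true), (1, false), (0, false), (0, false)], [], [0, 0, 0, 0, 0, 0, 0, 0, 0, 0, 0, 0, 0, 0, 0, 0, 0, 0, 0, 0, 0, 0, 1]⟩,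
    ⟨[(0, true), (0, true), (0, true), (1, true), (0, true), (0, true), (0, true), (1, false), (0, false), (1, false), (0, false), (1, false), (1, false), (0, true), (0, true), (1, true), (0, false), (1, true), (0, false), (1, true), (0, true), (1, false), (0, true), (0, true), (1, true), (0, false), (1, true), (0, true), (1, true), (0, false), (1, true), (0, false), (1, true), (0, false), (1, false), (0, true), (0, true), (1, true), (0, false), (1, true), (0, false), (1, true), (0, false), (1, false), (0, true), (1, false), (0, true), (1, false), (0, false), (0, false), (1, true), (0, false), (1, false), (0, true), (0, true), (1, true), (0, false), (1, true), (0, false)], [], [0, 0, 0, 0, 0, 0, 0, 0, 0, 0, 0, 0, 0, 0, 0, 0, 0, 0, 0, 0, 0, 0, 0, 1]⟩,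
    ⟨[(0, true), (1, true), (0, true), (1, true), (1, true), (0, true), (0, true), (1, false), (0, false), (0, false), (1, false), (1, false), (0, true), (1, false), (0, true), (1, false), (0, false), (0, false), (1, true), (0, true), (1, false), (0, true), (1, false), (0, true), (1, false), (0, false), (0, false), (1, true), (0, false), (1, false), (0, true), (0, true), (1, true), (0, false), (1, true), (0, false), (1, true), (0, false), (0, false), (1, false), (0, true), (1, false), (0, true), (1, false), (0, false), (1, false), (0, true), (1, false), (0, false), (0, false), (1, true), (0, false), (1, false), (0, true), (0, true), (1, true), (0, false), (1, true), (0, false)], [], [0, 0, 0, 0, 0, 0, 0, 0, 0, 0, 0, 0, 0, 0, 0, 0, 0, 0, 0, 0, 0, 0, 0, 0, 1]⟩,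
    ⟨[(0, true), (0, true), (1, true), (0, true), (0, true), (1, false), (0, true), (0, true), (1, true), (0, true), (0, true), (1, false), (0, true), (0, true), (1, true), (0, true), (0, true), (1, false), (0, true), (0, true), (1, true), (0, true), (0, true), (1, false), (0, true), (0, true), (1, true), (0, true), (0, true), (1, false)], [], [0, 0, 0, 0, 0, 0, 0, 0, 0, 0, 0, 0, 0, 0, 0, 0, 0, 0, 0, 0, 0, 0, 0, 0, 0, 1]⟩,
    ⟨[(0, true), (1, true), (0, false), (1, true), (0, true), (1, true), (0, false), (1, true), (0, true), (1, true), (0, false), (1, true), (0, true), (1, true), (0, false), (1, true), (0, true), (1, true), (0, false), (1, true)], [], [0, 0, 0, 0, 0, 0, 0, 0, 0, 0, 0, 0, 0, 0, 0, 0, 0, 0, 0, 0, 0, 0, 0, 0, 0, 0, 1]⟩,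
    ⟨[(0, true), (1, true), (0, true), (1, true), (1, true), (0, true), (1, true), (0, false), (1, false), (1, false), (0, false), (1, false), (1, false), (0, true), (1, false), (0, false), (0, false), (1, true), (0, false), (1, false), (0, true), (1, false), (0, true), (1, false), (0, false), (0, false), (1, true), (0, true), (1, false), (0, true), (0, true), (1, true), (0, false), (1, true), (0, false), (1, true), (0, false), (0, false), (1, false), (0, true), (1, false), (0, true), (1, false), (0, false), (0, false), (1, true), (0, false), (0, false), (1, false), (0, true), (1, false), (0, true), (1, false), (0, false), (1, false), (0, true), (1, false), (0, false), (0, false), (1, true), (0, false), (1, false)], [], [0, 0, 0, 0, 0, 0, 0, 0, 0, 0, 0, 0, 0, 0, 0, 0, 0, 0, 0, 0, 0, 0, 0, 0, 0, 0, 0, 1]⟩]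
  pot g := pot0.getK g
  innerSize := 443520
  innerGen := 2

/-- the table with its checks -/
def level0 : CfsgLib.Sporadic.ChainLevel where
  table := table0
  gexp := [[1], [0, 1]]
  perm := [1036504328921382864963570831680104721766549044086820246682063101209701089015004203844927765400349036318664214663803092874252265931129344412245890603320448798631953063294013456566367114546505893811085672846260831595952126672847446219336828386031374596210286008949395743465283353415425153782401347898370, 910987797809708525417424939858931726441733192877641724278464058614257936096109176968531674265792104767592471092557849304996554264823013469225893710709432800860139793267826266734793213766271329544236095382992717336143156996825417008913977477012561237921006142909246954561808756928842458433040913809433]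
  pinv := [1036830838348290108689974275081395832318344524592633536317834821889289661818070428904724483577250841862399979327446717010291999424918704033202851895677111873267343330630500591561473355501071825672388773259231310793712166949751357457285104719029401283425820931080929744352328325919259539664490001871875, 691469154216360172705394828883714392450118858100978870197813217674764879752573147589011961384340121348373031200932109661932798224649366064639856728939307336557912200541667392853788080806141432729568450778058486739116201076226153342163264140258483376131121282874115345915494152380024752749758700904460]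
  defs := [[(1, true), (0, true), (1, false)], [(0, true), (0, true), (1, true), (0, false), (1, true), (0, false)]]
  eqs := [(2, 2, [0, 0, 0, 0, 0, 0, 0, 0, 0, 0, 1, 0, 0, 0, 0, 0, (-1)]), (12, 1, [0, 0, 0, 0, 0, 0, 0, 0, 0, 0, 0, 1, 0, 0, 0, 0, 0, 0, 0, 0, 0, 0, 0, 0, 0, 0, (-1)]), (6, 3, [2, (-2), 0, (-2), 4, 1, 0, 4, 4]), (11, 2, [117, (-36), (-219), (-55), 209, 22, 12, (-3), (-38), 25, 3, (-5), 0, 5, (-1), 3, 4, 0, 0, 0, 0, 1, 0, 0, 0, (-1)]), (3, 35, [73, (-158), (-283), (-257), (-210), 0, 10, (-9), (-6), 33, 2, 3, 5, 2, 4, (-3), 0, (-1), 0, 0, 0, 0, 0, 0, 0, 0, 0, 3]), (11, 44, [103, (-77), 703, (-133), 88, (-51), (-26), 29, 154, (-49), (-7), (-1), 3, (-2), (-9), 1, 0, 0, 1, 0, 0, (-1)]), (2, 4, [355, (-102), (-213), (-186), 603, 92, 18, (-1), (-226), 36, (-10), 0, 6, 4, 0, (-26), (-1), 0, 2]), (2, 18, [763, (-330), (-815), (-556), 1062, 153, 44, (-12), (-343), 105, (-6), (-6), 4, 8, 2, (-18), (-1), 0, 0, 4]), (9, 36, [(-143), 714, 1238, 1141, 1402, 108, 1, 43, (-204), (-128), (-25), 6, 14, (-4),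 (-10), (-29), (-8), (-7), 4, 2, (-2), (-3), (-2), (-1), 0, 2]), (8, 3, [(-1600), 884, 611, 1367, (-1969), (-1), (-171), 20, (-179), (-177), 30, 43, (-33), (-30), 17, 29, 1, 2, 2, (-2), 1, 0, (-2), 0, (-1), (-1), (-1)]), (10, 25, [1812, (-1347), (-1542), (-2241), 1161, 208, 43, 51, (-452), 187, (-22), (-16), 25, 20, 3, (-57), 2, 1, (-8), (-3), 2, (-1), 5, 0, 1, 0, 2, (-3)]), (3, 43, [1116, (-173), (-1862), (-325), 2246, 695, 195, 107, (-1635), 345, (-134), 1, 162, 39, 43, (-222), (-3), (-1), 9, 3, 0, 0, (-3), 0, (-3), 0, 0, 3]), (7, 16, [(-795), 1151, 3391, 1837, 830, (-300), (-177), (-35), 653, (-448), 51, 2, (-93), (-4), (-29), 122, (-16), (-7), 5, 3, (-4), (-7), (-2), 0, 0, 5, (-2), 1]), (5, 41, [750, (-1203), 262, (-1826), (-719), (-1106), (-184), (-272), 2945, (-287), 285, (-87), (-341), (-22), (-106), 511, 7, (-4), (-20), (-10), (-3), 3, 6, 0, 7, 1, (-3), (-10)]), (4, 15, [702, (-1221), (-3731), (-1743), (-808), (-540), 137, (-270), 1761, 184, 233, (-88), (-265), (-14), (-79), 420, 11, 11, (-16),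 (-9), 3, 4, 5, 2, 3, (-3), (-3), (-9)]), (12, 34, [479, (-651), 4596, (-939), 26, (-1222), (-170), (-137), 3257, (-621), 165, (-86), (-221), (-5), (-119), 371, (-9), (-12), (-14), 2, (-11), (-2), 4, 2, 7, 7, (-4), (-6)])]
  pts := [0]

end CfsgLib.Sporadic.MultHs
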