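import Mathlib
import Cfsg.Agent.Lib.Sporadic.ChainCertificate
import Cfsg.Agent.Lib.Schur.TrieFast

/-!
# Coset table 1 of a chain
-/

set_option autoImplicit false
set_option maxRecDepth 100000
set_option maxHeartbeats 0
set_option Elab.async false

noncomputable section

namespace CfsgLib.Sporadic.MultHs

open CfsgLib.Schur.Cert

/-- data -/
def next1 : Trie (ℕ) := .node (.node (.node (.node (.node (.node (.leaf 1) (.leaf 21)) (.leaf 12)) (.node (.node (.leaf 0) (.leaf 20)) (.leaf 16))) (.node (.node (.node (.leaf 5) (.leaf 14)) (.leaf 6)) (.node (.leaf 10) (.leaf 18)))) (.node (.node (.node (.node (.leaf 3) (.leaf 11)) (.leaf 7)) (.node (.node (.leaf 9) (.leaf 8)) (.leaf 17))) (.node (.node (.node (.leaf 4) (.leaf 19)) (.leaf 15)) (.node (.leaf 2) (.leaf 13))))) (.node (.node (.node (.node (.node (.leaf 2) (.leaf 0)) (.leaf 13)) (.node (.node (.leaf 8) (.leaf 17)) (.leaf 15))) (.node (.node (.node (.leaf 6) (.leaf 18)) (.leaf 12)) (.node (.leaf 11) (.leaf 19)))) (.node (.node (.node (.node (.leaf 4) (.leaf 10)) (.leaf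 14)) (.node (.node (.leaf 1) (.leaf 21)) (.leaf 5))) (.node (.node (.node (.leaf 7) (.leaf 3)) (.leaf 16)) (.node (.leaf 9) (.leaf 20)))))

/-- data -/
def prev1 : Trie (ℕ) := .node (.node (.node (.node (.node (.node (.leaf 4) (.leaf 12)) (.leaf 21)) (.node (.node (.leaf 3) (.leaf 20)) (.leaf 8))) (.node (.node (.node (.leaf 7) (.leaf 14)) (.leaf 6)) (.node (.leaf 10) (.leaf 18)))) (.node (.node (.node (.node (.leaf 0) (.leaf 13)) (.leaf 5)) (.node (.node (.leaf 2) (.leaf 16)) (.leaf 15))) (.node (.node (.node (.leaf 1) (.leaf 19)) (.leaf 17)) (.node (.leaf 9) (.leaf 11))))) (.node (.node (.node (.node (.node (.leaf 16) (.leaf 11)) (.leaf 4)) (.node (.node (.leaf 1) (.leaf 15)) (.leaf 10))) (.node (.node (.node (.leaf 0) (.leaf 18)) (.leaf 17)) (.node (.leaf 2) (.leaf 9)))) (.node (.node (.node (.node (.leaf 5) (.leaf 20)) (.leaf 7)) (.node (.node (.leaf 13) (.leaf 21)) (.leaf 8))) (.node (.node (.node (.leaf 19) (.leaf 14)) (.leaf 6)) (.node (.leaf 3) (.leaf 12)))))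

/-- data -/
def lab1 : Trie (Word) := .node (.node (.node (.node (.node (.node (.leaf ([])) (.leaf ([]))) (.leaf ([]))) (.node (.node (.leaf ([(0, true)])) (.leaf ([(0, true), (1, true), (1, true), (0, true), (1, false), (0, true), (1, true), (0, false), (1, true)]))) (.leaf ([(1, false), (0, false), (1, false), (0, true), (1, false), (0, true), (1, false), (1, false)])))) (.node (.node (.node (.leaf ([])) (.leaf ([(1, true), (0, false), (1, false), (0, false), (1, true), (1, true), (0, true), (1, false), (0, false), (1, true), (0, false)]))) (.leaf ([(1, false), (0, false), (1, true), (1, true), (0, true), (1, false), (0, false), (1, true), (1, true), (0, true)]))) (.node (.leaf ([])) (.leaf ([]))))) (.node (.node (.node (.node (.leaf ([])) (.leaf ([(0, true), (1, false), (0, true), (1, false), (0, false), (1, true), (1, true), (0, true), (0, true)]))) (.leaf ([(0, true), (1, true), (0, true), (0, true), (1, false), (0, true), (1, false), (1, false)]))) (.node (.node (.leaf ([])) (.leaf ([(1, true), (1, true), (0, false),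 (1, true), (0, false), (1, true), (0, true), (1, true)]))) (.leaf ([])))) (.node (.node (.node (.leaf ([(0, false)])) (.leaf ([(0, false), (1, true), (0, false), (1, true), (0, false), (1, false), (1, false), (0, false), (1, true), (0, true)]))) (.leaf ([]))) (.node (.leaf ([(1, true), (1, true), (0, false), (1, true), (0, true), (0, true), (1, false), (0, false)])) (.leaf ([(0, true), (0, true), (1, false), (1, false), (0, true), (1, true), (0, false), (1, true), (0, false)])))))) (.node (.node (.node (.node (.node (.leaf ([])) (.leaf ([]))) (.leaf ([]))) (.node (.node (.leaf ([])) (.leaf ([(0, false), (1, true), (0, true), (1, true), (1, true), (0, true), (1, false), (0, false), (1, true), (1, true), (0, true), (0, true)]))) (.leaf ([(1, false), (0, true), (1, true), (0, false), (1, true), (1, true), (0, true), (1, true), (0, false), (1, true), (0, true), (0, true)])))) (.node (.node (.node (.leaf ([])) (.leaf ([(1, true), (0, true), (0, true), (1, true), (1, true), (0, true), (1, false), (0, true), (1, false), (1, false)])))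 (.leaf ([(0, true), (1, true), (0, false), (1, true), (0, true), (1, true), (0, false), (1, true), (0, true), (1, false), (1, false)]))) (.node (.leaf ([])) (.leaf ([]))))) (.node (.node (.node (.node (.leaf ([])) (.leaf ([(1, false), (1, false), (0, true), (1, true), (0, false), (1, true), (0, true), (1, false), (0, false)]))) (.leaf ([]))) (.node (.node (.leaf ([(1, false)])) (.leaf ([(0, true), (1, false), (0, false), (1, false), (0, true), (0, true), (1, true), (0, false), (1, false), (1, false), (0, false), (1, true), (0, true)]))) (.leaf ([(1, true)])))) (.node (.node (.node (.leaf ([])) (.leaf ([(1, true), (0, true), (1, false), (0, false), (1, true), (0, false), (1, false), (1, false), (0, true), (1, true), (0, true)]))) (.leaf ([]))) (.node (.leaf ([(0, true), (1, false), (0, false), (1, true), (0, false), (1, false), (1, false), (0, true), (1, true), (0, true), (1, false)])) (.leaf ([]))))))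

/-- data -/
def val1 : Trie (Vec) := .node (.node (.node (.node (.node (.node (.leaf ([])) (.leaf ([]))) (.leaf ([]))) (.node (.node (.leaf ([])) (.leaf ([(-99), 25, 101, 46, (-177), (-33), (-6), (-2), 76, (-10), 3, 1, (-1), (-1), 1, 6]))) (.leaf ([53, (-16), (-87), (-26), 93, 15, 8, (-3), (-30), 10, 1, (-1), (-1), 1])))) (.node (.node (.node (.leaf ([])) (.leaf ([362, (-206), (-342), (-335), 403, 61, 30, 7, (-113), 53, (-10), (-6), 12, 5, 0, (-15)]))) (.leaf ([62, (-24), 21, (-41), 94, 11, 3, 5, (-25), 4, (-4), (-1), 4, 2, 0, (-8)]))) (.node (.leaf ([])) (.leaf ([]))))) (.node (.node (.node (.node (.leaf ([])) (.leaf ([85, (-30), (-57), (-51), 136, 22, 8, 2, (-49), 12, (-3), 0, 3, 1, 0, (-7)]))) (.leaf ([0, 0, 0, 0, 0, (-1), 0, 0, 0, 0, 1, 0, (-1)]))) (.node (.node (.leaf ([])) (.leaf ([(-53), 16, 87, 26, (-93), (-15), (-8), 3, 30, (-10), 0, 1, 1, (-1)]))) (.leaf ([])))) (.node (.node (.node (.leaf ([0, 0, 0, 0, 0, 0, 0, 0, 0, 0, 1])) (.leaf ([82, (-35), 16, (-58), 123, 1, 1, 4, 9, (-4), (-1), (-2), 1, 1, (-2), (-1)])))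 (.leaf ([]))) (.node (.leaf ([0, 0, 0, 0, 0, 0, 0, 0, 0, 0, 0, 0, 1])) (.leaf ([(-85), 30, 57, 51, (-136), (-23), (-8), (-2), 49, (-12), 4, 0, (-3), (-1), 0, 7])))))) (.node (.node (.node (.node (.node (.leaf ([])) (.leaf ([0, 0, 0, 0, 0, 0, 0, 0, 0, 0, 0, 1]))) (.leaf ([]))) (.node (.node (.leaf ([])) (.leaf ([265, (-169), (-177), (-282), 239, 13, 0, (-2), (-29), 25, 0, (-3), 1, 3, 1]))) (.leaf ([(-203), 138, 107, 229, (-165), (-6), 0, (-4), 9, (-15), 2, 3, (-3), (-2), 0, 2])))) (.node (.node (.node (.leaf ([])) (.leaf ([(-240), 148, 206, 262, (-199), (-57), 7, (-8), 156, (-35), 8, (-1), (-10), (-3), (-5), 16]))) (.leaf ([(-108), 48, 151, 79, (-151), (-21), (-9), 5, 40, (-19), (-1), 1, 1, (-1), 0, (-2)]))) (.node (.leaf ([])) (.leaf ([]))))) (.node (.node (.node (.node (.leaf ([])) (.leaf ([37, (-13), (-80), (-21), 61, 12, 6, (-1), (-23), 7, (-1), 0, 1, 0, (-1)]))) (.leaf ([]))) (.node (.node (.leaf ([])) (.leaf ([347, (-147), (-310), (-246), 498, 73, 24, 8, (-155), 41, (-10), (-5), 10, 6, 0, (-17)]))) (.leaf ([0, 0, 0,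 0, 0, 0, 0, 0, 0, 0, 0, 1])))) (.node (.node (.node (.leaf ([])) (.leaf ([8, (-5), 24, (-7), 11, (-1), 2, 1, 6, 0, 0, 1, 0, 0, 0, (-1)]))) (.leaf ([]))) (.node (.leaf ([0, 0, 0, 0, 0, 0, 0, 0, 0, 0, 0, 0, 0, 0, 0, 1])) (.leaf ([]))))))

/-- data -/
def rank1 : Trie (ℕ) := .node (.node (.node (.node (.node (.node (.leaf 0) (.leaf 0)) (.leaf 0)) (.node (.node (.leaf 1) (.leaf 17)) (.leaf 7))) (.node (.node (.node (.leaf 0) (.leaf 22)) (.leaf 16)) (.node (.leaf 0) (.leaf 0)))) (.node (.node (.node (.node (.leaf 0) (.leaf 14)) (.leaf 10)) (.node (.node (.leaf 0) (.leaf 11)) (.leaf 0))) (.node (.node (.node (.leaf 3) (.leaf 18)) (.leaf 0)) (.node (.leaf 6) (.leaf 15))))) (.node (.node (.node (.node (.node (.leaf 0) (.leaf 4)) (.leaf 0)) (.node (.node (.leaf 0) (.leaf 20)) (.leaf 19))) (.node (.node (.node (.leaf 0) (.leaf 23)) (.leaf 13)) (.node (.leaf 0) (.leaf 0)))) (.node (.node (.node (.node (.leaf 0) (.leaf 8)) (.leaf 0)) (.node (.node (.leaf 2) (.leaf 21)) (.leaf 5))) (.node (.node (.node (.leaf 0) (.leaf 12)) (.leaf 0))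 (.node (.leaf 9) (.leaf 0)))))

/-- data -/
def tree1 : Trie (ℕ × ℕ) := .node (.node (.node (.node (.node (.leaf (0, 0)) (.leaf (11, 1))) (.leaf (4, 1))) (.node (.node (.leaf (1, 1)) (.leaf (15, 1))) (.leaf (8, 0)))) (.node (.node (.node (.leaf (0, 1)) (.leaf (14, 0))) (.leaf (6, 0))) (.node (.leaf (2, 1)) (.leaf (9, 1))))) (.node (.node (.node (.node (.leaf (0, 0)) (.leaf (13, 0))) (.leaf (5, 0))) (.node (.node (.leaf (2, 0)) (.leaf (16, 0))) (.leaf (8, 1)))) (.node (.node (.node (.leaf (1, 0)) (.leaf (14, 1))) (.leaf (6, 1))) (.node (.leaf (3, 1)) (.leaf (11, 0)))))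

/-- data -/
def cert1 : Trie (ℕ × ℕ × ℕ) := .node (.node (.node (.node (.node (.leaf (0, 0, 2)) (.leaf (6, 7, 8))) (.leaf (7, 0, 3))) (.node (.node (.leaf (3, 1, 3)) (.leaf (4, 4, 6))) (.leaf (6, 1, 4)))) (.node (.node (.node (.leaf (2, 0, 2)) (.leaf (7, 6, 30))) (.leaf (2, 8, 3))) (.node (.node (.leaf (5, 7, 7)) (.leaf (4, 16, 18))) (.leaf (2, 11, 1))))) (.node (.node (.node (.node (.leaf (1, 0, 1)) (.leaf (6, 17, 6))) (.leaf (2, 2, 2))) (.node (.node (.leaf (4, 0, 3)) (.leaf (4, 8, 8))) (.leaf (7, 9, 4)))) (.node (.node (.node (.leaf (3, 0, 4)) (.leaf (3, 10, 3))) (.leaf (3, 3, 4))) (.node (.leaf (6, 2, 2)) (.leaf (5, 5, 7)))))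

/-- data -/
def pot1 : Trie (Vec) := .node (.node (.node (.node (.node (.leaf ([])) (.leaf ([0, 8]))) (.leaf ([1, 4]))) (.node (.node (.leaf ([1, 2])) (.leaf ([1, 8]))) (.leaf ([2, 4])))) (.node (.node (.node (.leaf ([0, 2])) (.leaf ([3, 4]))) (.leaf ([1, 4]))) (.node (.leaf ([0, 4])) (.leaf ([2, 4]))))) (.node (.node (.node (.node (.leaf ([1])) (.leaf ([2, 6]))) (.leaf ([2, 2]))) (.node (.node (.leaf ([1, 2])) (.leaf ([1, 8]))) (.leaf ([1, 6])))) (.node (.node (.node (.leaf ([2])) (.leaf ([2, 6]))) (.leaf ([0, 6]))) (.node (.leaf ([2, 2])) (.leaf ([1, 6])))))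

/-- the table -/
def table1 : Table where
  size := 22
  ngen := 2
  next g x := next1.getK (2 * g + x)
  prev g x := prev1.getK (2 * g + x)
  lab g x := lab1.getK (2 * g + x)
  val g x := val1.getK (2 * g + x)
  rank g x := rank1.getK (2 * g + x)
  tree g := tree1.getK g
  cert j := cert1.getK j
  nded := 23
  rels := [⟨[(0, true), (1, true), (0, true)], [(0, true)], []⟩,
    ⟨[(0, true), (1, false), (0, false), (1, false)], [(1, true)], []⟩,
    ⟨[(0, true), (0, true), (0, true), (0, true)], [], [0, 0, 0, 0, 0, 0, 0, 0, 0, 0, 1]⟩,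
    ⟨[(1, true), (1, true), (1, true), (1, true), (1, true)], [], [0, 0, 0, 0, 0, 0, 0, 0, 0, 0, 0, 1]⟩,
    ⟨[(0, true), (0, true), (1, true), (0, true), (1, false), (0, true), (1, true), (0, true), (0, true), (1, false), (0, false), (1, false), (0, false), (1, false), (0, false), (0, false), (1, false), (0, false), (1, true), (0, true), (1, true), (1, true), (0, true), (1, true), (0, true), (1, true), (0, false), (1, true), (0, true), (1, true), (0, false)], [], [0, 0, 0, 0, 0, 0, 0, 0, 0, 0, 0, 0, 1]⟩,
    ⟨[(0, true), (0, true), (1, true), (0, false), (0, false), (1, true), (0, true), (0, true), (1, true), (0, false), (0, false), (1, true)], [], [0, 0, 0, 0, 0, 0, 0, 0, 0, 0, 0, 0, 0, 1]⟩,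
    ⟨[(1, true), (0, true), (1, false), (0, false), (1, false), (1, false), (0, false), (1, true), (0, true), (1, false), (0, false), (1, false), (1, false), (0, false)], [], [0, 0, 0, 0, 0, 0, 0, 0, 0, 0, 0, 0, 0, 0, 1]⟩,
    ⟨[(0, true), (0, true), (1, true), (1, true), (0, false), (0, false), (1, false), (0, true), (1, false), (0, false), (1, false), (0, false), (1, false), (0, false), (1, true), (0, true), (1, true), (0, false), (0, false), (1, false), (1, false), (0, false), (1, false), (0, true), (1, false), (0, false), (1, false), (0, true), (1, true), (0, true), (1, true), (0, true), (1, true), (1, true), (0, true), (0, true), (1, false), (0, false), (1, false), (0, false), (1, false), (0, false)], [], [0, 0, 0, 0, 0, 0, 0, 0, 0, 0, 0, 0, 0, 0, 0, 1]⟩]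
  pot g := pot1.getK g
  innerSize := 20160
  innerGen := 2

/-- the table with its checks -/
def level1 : CfsgLib.Sporadic.ChainLevel where
  table := table1
  gexp := [[1, 0], [0, 2]]
  perm := [858862347197976399793678720376830743134476823515641036714594470690939456364817790223468960367724739500994921609469770260304496770570750013900431686665905262744417335510726210321775401287146404285554625856409623838028392191853721120020857967544296222928121437561870461240862870913883056274743904744448, 817088261891726902497923609135873602768899167060377856972103488158052071595535750681983012388120501778861129819175461258172020884590620641501257273406217381577271129902396679737417094534848062265634118608211515035742124272191259512370928161177944926873194430090608625385377743761772016749987004225536]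
  pinv := [890397232683522866521811597066564619436145292241917200318517266765200354190464882360179204596504576819497458726908915238904357385923513790189250686917848415006212753860549718085907561321007151982042179253200576926037708606891743171737781351141150879656485222579536064437109571928944545347863652135936, 827490990586067650650497263194137287310585830496264938620407954692144921206981457065232751221071903737214420289103541467817516690166305345186491947362390290219189769892159602297162868294744381376746036566906618875096673389609426222666812276298721762850811065177869870454598002463998558100506354458624]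
  defs := [[(0, true), (1, true), (0, true)], [(0, true), (1, false), (0, false), (1, false)]]
  eqs := [(5, 4, [0, 0, 0, 0, 0, 1, 0, 0, 0, 0, (-2), 0, 0, (-1)]), (7, 7, [(-26), 37, (-107), 61, 30, 13, 2, 7, (-21), 0, (-2), 0, 2, 0, 0, (-3)]), (7, 20, [(-29), (-19), (-187), (-33), (-120), 37, 1, 15, (-75), 16, (-2), (-2), 4, 1, 1, (-5)]), (4, 5, [(-111), 118, (-56), 195, 4, 26, 14, (-14), (-75), (-2), 2, 1, (-8), (-1), (-3), (-2)]), (4, 6, [97, (-63), 160, (-150), 3, 16, (-62), 10, (-131), (-19), (-3), 11, 4, 0, 9, (-14)])]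
  pts := [78]

end CfsgLib.Sporadic.MultHs
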