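import Mathlib
import Cfsg.Agent.Lib.Sporadic.ChainCertificate
import Cfsg.Agent.Lib.Schur.TrieFast

/-!
# Coset table 2 of a chain
-/

set_option autoImplicit false
set_option maxRecDepth 100000
set_option maxHeartbeats 0
set_option Elab.async false

noncomputable section

namespace CfsgLib.Sporadic.MultHs

open CfsgLib.Schur.Cert

/-- data -/
def next2 : Trie (ℕ) := .node (.node (.node (.node (.node (.node (.leaf 1) (.leaf 19)) (.leaf 13)) (.node (.node (.leaf 9) (.leaf 15)) (.leaf 8))) (.node (.node (.node (.leaf 5) (.leaf 14)) (.leaf 17)) (.node (.leaf 12) (.leaf 18)))) (.node (.node (.node (.node (.leaf 3) (.leaf 2)) (.leaf 16)) (.node (.leaf 10) (.leaf 6))) (.node (.node (.node (.leaf 7) (.leaf 4)) (.leaf 11)) (.node (.leaf 0) (.leaf 20))))) (.node (.node (.node (.node (.node (.leaf 2) (.leaf 16)) (.leaf 15)) (.node (.node (.leaf 7) (.leaf 1)) (.leaf 0))) (.node (.node (.node (.leaf 6) (.leaf 3)) (.leaf 18)) (.node (.leaf 13) (.leaf 20)))) (.node (.node (.node (.node (.leaf 4) (.leaf 5)) (.leaf 17))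 (.node (.leaf 11) (.leaf 12))) (.node (.node (.node (.leaf 8) (.leaf 9)) (.leaf 19)) (.node (.leaf 14) (.leaf 10)))))

/-- data -/
def prev2 : Trie (ℕ) := .node (.node (.node (.node (.node (.node (.leaf 7) (.leaf 9)) (.leaf 12)) (.node (.node (.leaf 19) (.leaf 15)) (.leaf 6))) (.node (.node (.node (.leaf 17) (.leaf 14)) (.leaf 5)) (.node (.leaf 13) (.leaf 18)))) (.node (.node (.node (.node (.leaf 0) (.leaf 10)) (.leaf 4)) (.node (.leaf 2) (.leaf 8))) (.node (.node (.node (.leaf 1) (.leaf 16)) (.leaf 11)) (.node (.leaf 3) (.leaf 20))))) (.node (.node (.node (.node (.node (.leaf 12) (.leaf 16)) (.leaf 3)) (.node (.node (.leaf 1) (.leaf 14)) (.leaf 13))) (.node (.node (.node (.leaf 0) (.leaf 10)) (.leaf 15)) (.node (.leaf 2) (.leaf 7)))) (.node (.node (.node (.node (.leaf 20) (.leaf 9)) (.leaf 19)) (.node (.leaf 17) (.leaf 6))) (.node (.node (.node (.leaf 18) (.leaf 11)) (.leaf 5)) (.node (.leaf 4) (.leaf 8)))))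

/-- data -/
def lab2 : Trie (Word) := .node (.node (.node (.node (.node (.node (.leaf ([])) (.leaf ([(0, true), (1, true), (0, true)]))) (.leaf ([(1, true), (0, false), (1, false), (0, false), (1, true), (1, true)]))) (.node (.node (.leaf ([])) (.leaf ([(1, true), (0, false), (0, false), (1, false), (1, false), (0, true), (1, true), (0, false)]))) (.leaf ([(1, true), (0, false), (0, false), (1, false), (1, false), (0, true), (1, true), (0, true)])))) (.node (.node (.node (.leaf ([])) (.leaf ([(1, false), (0, false), (1, false), (1, false), (0, true), (1, true), (1, true), (0, true), (0, true)]))) (.leaf ([(1, true)]))) (.node (.leaf ([])) (.leaf ([(1, false), (0, false), (1, false), (1, false), (0, false), (1, false), (0, true)]))))) (.node (.node (.node (.node (.leaf ([])) (.leaf ([(1, false)]))) (.leaf ([]))) (.node (.leaf ([])) (.leaf ([(0, false), (0, false), (1, true), (1, true), (0, true), (1, true), (1, true), (0, true), (1, true)])))) (.node (.node (.node (.leaf ([])) (.leaf ([(0, false), (1,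 false), (0, false)]))) (.leaf ([(1, true), (0, true)]))) (.node (.leaf ([])) (.leaf ([(0, true), (1, false), (1, false), (0, true), (1, true)])))))) (.node (.node (.node (.node (.node (.leaf ([])) (.leaf ([(0, false)]))) (.leaf ([]))) (.node (.node (.leaf ([(0, true)])) (.leaf ([(0, false)]))) (.leaf ([(1, true)])))) (.node (.node (.node (.leaf ([])) (.leaf ([(1, true), (1, true), (0, true), (0, true), (1, true), (0, true)]))) (.leaf ([]))) (.node (.leaf ([])) (.leaf ([]))))) (.node (.node (.node (.node (.leaf ([])) (.leaf ([(0, true), (0, true), (1, true), (0, true), (1, false), (1, false)]))) (.leaf ([]))) (.node (.leaf ([])) (.leaf ([(1, false)])))) (.node (.node (.node (.leaf ([])) (.leaf ([(1, true), (1, true), (0, false), (1, false), (0, false), (0, false)]))) (.leaf ([]))) (.node (.leaf ([])) (.leaf ([(1, true), (1, true), (0, true), (0, true), (1, true), (0, true)]))))))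

/-- data -/
def val2 : Trie (Vec) := .node (.node (.node (.node (.node (.node (.leaf ([])) (.leaf ([2, (-2), 0, (-2), 4, 1, 0, 2, 3]))) (.leaf ([2, (-2), 19, (-3), 0, (-1), (-2), 1, 4, (-1)]))) (.node (.node (.leaf ([])) (.leaf ([(-8), 4, (-13), 6, (-12), 2, 0, 0, (-4), (-2)]))) (.leaf ([4, (-4), 15, (-6), 1, (-5), 0, (-1), 11])))) (.node (.node (.node (.leaf ([])) (.leaf ([6, (-16), (-9), (-27), (-25), (-3), (-1), (-1), 5, 3]))) (.leaf ([0, 0, 0, 0, 0, 0, 0, (-1)]))) (.node (.leaf ([])) (.leaf ([21, (-7), 14, (-15), 31, 4, (-3), 3, (-7), (-3)]))))) (.node (.node (.node (.node (.leaf ([])) (.leaf ([0, 0, 0, 0, 0, 1, 0, 1]))) (.leaf ([]))) (.node (.leaf ([])) (.leaf ([14, (-6), (-23), (-8), 23, 3, 2, (-1), (-5), 3])))) (.node (.node (.node (.leaf ([])) (.leaf ([(-2), 2, 0, 2, (-4), 0, 0, (-2), (-3)]))) (.leaf ([0, 0, 0, 0, 0, 0, 0, (-1), (-1)]))) (.node (.leaf ([0, 0, 0, 0, 0, 1])) (.leaf ([1, (-1), 0, (-2), 1, 1, 0, 1, (-1), (-1)])))))) (.node (.node (.node (.node (.node (.leaf ([])) (.leaf ([0, 0, 0,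 0, 0, 1, 0, 1, (-1)]))) (.leaf ([]))) (.node (.node (.leaf ([0, 0, 0, 0, 0, (-1)])) (.leaf ([0, 0, 0, 0, 0, 1, 1]))) (.leaf ([])))) (.node (.node (.node (.leaf ([])) (.leaf ([(-1), 0, (-1), 1, 0, (-2), 1, (-2), 3, 1]))) (.leaf ([]))) (.node (.leaf ([])) (.leaf ([]))))) (.node (.node (.node (.node (.leaf ([])) (.leaf ([2, (-2), 0, (-2), 4, 0, 2, 1, 4, 1]))) (.leaf ([]))) (.node (.leaf ([])) (.leaf ([0, 0, 0, 0, 0, 0, 1])))) (.node (.node (.node (.leaf ([])) (.leaf ([(-2), 2, 0, 2, (-4), 0, (-1), (-1), (-4), (-1)]))) (.leaf ([]))) (.node (.leaf ([])) (.leaf ([4, (-3), 2, (-4), 6, 2, 0, 2, (-3), (-1)]))))))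

/-- data -/
def rank2 : Trie (ℕ) := .node (.node (.node (.node (.node (.node (.leaf 0) (.leaf 11)) (.leaf 17)) (.node (.node (.leaf 0) (.leaf 16)) (.leaf 19))) (.node (.node (.node (.leaf 0) (.leaf 18)) (.leaf 5)) (.node (.leaf 0) (.leaf 21)))) (.node (.node (.node (.node (.leaf 0) (.leaf 4)) (.leaf 0)) (.node (.leaf 0) (.leaf 20))) (.node (.node (.node (.leaf 0) (.leaf 10)) (.leaf 9)) (.node (.leaf 2) (.leaf 22))))) (.node (.node (.node (.node (.node (.leaf 0) (.leaf 8)) (.leaf 0)) (.node (.node (.leaf 6) (.leaf 7)) (.leaf 1))) (.node (.node (.node (.leaf 0) (.leaf 14)) (.leaf 0)) (.node (.leaf 0) (.leaf 0)))) (.node (.node (.node (.node (.leaf 0) (.leaf 15)) (.leaf 0)) (.node (.leaf 0) (.leaf 3))) (.node (.node (.node (.leaf 0) (.leaf 12)) (.leaf 0)) (.node (.leaf 0) (.leaf 13)))))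

/-- data -/
def tree2 : Trie (ℕ × ℕ) := .node (.node (.node (.node (.node (.leaf (0, 0)) (.leaf (9, 0))) (.leaf (3, 1))) (.node (.node (.leaf (1, 1)) (.leaf (14, 1))) (.leaf (6, 0)))) (.node (.node (.node (.leaf (0, 1)) (.leaf (10, 1))) (.leaf (5, 0))) (.node (.leaf (2, 1)) (.leaf (7, 1))))) (.node (.node (.node (.node (.leaf (0, 0)) (.leaf (9, 1))) (.leaf (4, 0))) (.node (.leaf (2, 0)) (.leaf (6, 1)))) (.node (.node (.node (.leaf (1, 0)) (.leaf (11, 1))) (.leaf (5, 1))) (.node (.leaf (3, 0)) (.leaf (8, 1)))))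

/-- data -/
def cert2 : Trie (ℕ × ℕ × ℕ) := .node (.node (.node (.node (.node (.leaf (1, 0, 3)) (.leaf (6, 9, 4))) (.leaf (5, 5, 9))) (.node (.node (.leaf (4, 5, 8)) (.leaf (6, 16, 6))) (.leaf (6, 19, 7)))) (.node (.node (.node (.leaf (3, 0, 3)) (.leaf (6, 12, 6))) (.leaf (2, 4, 2))) (.node (.leaf (3, 1, 4)) (.leaf (3, 5, 4))))) (.node (.node (.node (.node (.leaf (2, 0, 3)) (.leaf (6, 10, 1))) (.leaf (5, 11, 9))) (.node (.node (.leaf (0, 0, 2)) (.leaf (6, 18, 4))) (.leaf (3, 3, 4)))) (.node (.node (.node (.leaf (4, 3, 4)) (.leaf (6, 13, 15))) (.leaf (6, 0, 7))) (.node (.leaf (5, 4, 2)) (.leaf (6, 5, 10)))))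

/-- data -/
def pot2 : Trie (Vec) := .node (.node (.node (.node (.node (.leaf ([])) (.leaf ([6, 2]))) (.leaf ([4]))) (.node (.node (.leaf ([2, (-2)])) (.leaf ([6, (-2)]))) (.leaf ([2, (-6)])))) (.node (.node (.node (.leaf ([0, (-4)])) (.leaf ([4, (-4)]))) (.leaf ([4]))) (.node (.leaf ([0, (-8)])) (.leaf ([6, 2]))))) (.node (.node (.node (.node (.leaf ([2, 2])) (.leaf ([4, (-4)]))) (.leaf ([4]))) (.node (.leaf ([2, (-2)])) (.leaf ([0, (-12)])))) (.node (.node (.node (.leaf ([4, 4])) (.leaf ([2, (-10)]))) (.leaf ([2, (-6)]))) (.node (.leaf ([6, 6])) (.leaf ([4, (-4)])))))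

/-- the table -/
def table2 : Table where
  size := 21
  ngen := 2
  next g x := next2.getK (2 * g + x)
  prev g x := prev2.getK (2 * g + x)
  lab g x := lab2.getK (2 * g + x)
  val g x := val2.getK (2 * g + x)
  rank g x := rank2.getK (2 * g + x)
  tree g := tree2.getK g
  cert j := cert2.getK j
  nded := 22
  rels := [⟨[(0, true), (1, true), (1, true), (0, true)], [(0, true)], []⟩,
    ⟨[(1, true), (1, true), (0, true), (1, true)], [(1, true)], []⟩,
    ⟨[(0, true), (0, true), (0, true), (0, true)], [], [0, 0, 0, 0, 0, 1]⟩,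
    ⟨[(1, true), (1, true), (1, true), (1, true), (1, true)], [], [0, 0, 0, 0, 0, 0, 1]⟩,
    ⟨[(0, false), (1, true), (0, true), (1, true), (0, true), (1, true), (0, true), (1, true), (0, false), (0, false)], [], [0, 0, 0, 0, 0, 0, 0, 1]⟩,
    ⟨[(0, true), (0, true), (1, false), (0, false), (1, true), (0, true), (1, true), (0, true), (1, true), (0, false), (1, false)], [], [0, 0, 0, 0, 0, 0, 0, 0, 1]⟩,
    ⟨[(1, true), (0, true), (1, true), (1, true), (0, false), (1, true), (0, false), (1, false), (1, false), (1, false), (0, false), (1, true), (0, true), (1, false), (1, false), (0, true), (1, true)], [], [0, 0, 0, 0, 0, 0, 0, 0, 0, 1]⟩]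
  pot g := pot2.getK g
  innerSize := 960
  innerGen := 2

/-- the table with its checks -/
def level2 : CfsgLib.Sporadic.ChainLevel where
  table := table2
  gexp := [[2, 2], [0, (-4)]]
  perm := [838128609882514685753971677327816942373697368991372568457544161846808417176686496118429735943032741216872995186385366566447707013002601644996589300248919539324031900135879364026137038393805054412413850801909920372243332065081355533709495596167002868134302695746129965603930078999982102285999179571200, 963604106546870295582315540803250446139637377968374920812736420006925263986180443758566249744343346927995432327921073067870432506537652728746851024385118366893360815019663706193677383526897681546385157731792725138694566855632646474528045393317175131788969516138524458401877264817075843696667624736768]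
  pinv := [1026438817639648026427012332673085593595348763314986555353135890173291136941736397004178865665632180104039489976477914669725891999910625762293246111181461115952623760187633839808934776202043035926541238119957979940862128653283358074876275476874230484401409004034135766597777508166730186555673044628480, 995057212563289290696633393428368802450305794782907279703606929569825155650270579807998550320767729401682591926998587371392651115773922146807897296915242042451096273998135614344356135115440835327855555529873622294749224794958936610403663174521278948832273684453456579885515303202488903959364697619456]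
  defs := [[(0, true), (1, true), (1, true), (0, true)], [(1, true), (1, true), (0, true), (1, true)]]
  eqs := [(3, 16, [(-1), 0, 0, 0, 0, 5, (-1), 5, (-5)]), (6, 4, [1, 2, 4, 4, 8, 0, 1, 0, 0, (-1)]), (4, 19, [5, (-1), (-3), (-3), 10, 3, (-2), 3, (-4), (-2)]), (5, 19, [11, (-10), 4, (-16), 4, 2, 1, 1, (-2), 1]), (5, 7, [(-11), (-2), 1, 0, (-29), (-3), 4, (-2), 8, 4])]
  pts := [10]

end CfsgLib.Sporadic.MultHs
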