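import Mathlib
import Cfsg.Agent.Lib.Sporadic.ChainCertificate
import Cfsg.Agent.Lib.Schur.TrieFast

/-!
# Coset table 3 of a chain
-/

set_option autoImplicit false
set_option maxRecDepth 100000
set_option maxHeartbeats 0
set_option Elab.async false

noncomputable section

namespace CfsgLib.Sporadic.MultHs

open CfsgLib.Schur.Cert

/-- data -/
def next3 : Trie (ℕ) := .node (.node (.node (.node (.node (.node (.node (.node (.node (.node (.node (.leaf 1) (.leaf 181)) (.node (.leaf 435) (.leaf 242))) (.node (.node (.leaf 237) (.leaf 249)) (.node (.leaf 598) (.leaf 947)))) (.node (.node (.node (.leaf 123) (.leaf 809)) (.node (.leaf 519) (.leaf 817))) (.node (.node (.leaf 339) (.leaf 896)) (.leaf 679)))) (.node (.node (.node (.node (.leaf 63) (.leaf 683)) (.node (.leaf 485) (.leaf 892))) (.node (.node (.leaf 288) (.leaf 732)) (.node (.leaf 644) (.leaf 719)))) (.node (.node (.node (.leaf 182) (.leaf 641)) (.node (.leaf 418) (.leaf 501))) (.node (.node (.leaf 385)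 (.leaf 915)) (.leaf 49))))) (.node (.node (.node (.node (.node (.leaf 32) (.leaf 761)) (.node (.leaf 461) (.leaf 752))) (.node (.node (.leaf 262) (.leaf 782)) (.node (.leaf 622) (.leaf 954)))) (.node (.node (.node (.leaf 30) (.leaf 528)) (.node (.leaf 542) (.leaf 791))) (.node (.node (.leaf 360) (.leaf 296)) (.leaf 59)))) (.node (.node (.node (.node (.leaf 92) (.leaf 725)) (.node (.leaf 503) (.leaf 865))) (.node (.node (.leaf 317) (.leaf 651)) (.node (.leaf 267) (.leaf 804)))) (.node (.node (.node (.leaf 209) (.leaf 848)) (.node (.leaf 582) (.leaf 284))) (.node (.node (.leaf 410) (.leaf 744)) (.leaf 53)))))) (.node (.node (.node (.node (.node (.node (.leaf 17) (.leaf 384)) (.node (.leaf 448) (.leaf 927))) (.node (.node (.leaf 248) (.leaf 150)) (.node (.leaf 611) (.leaf 955)))) (.node (.node (.node (.leaf 139) (.leaf 600)) (.node (.leaf 395) (.leaf 241))) (.node (.node (.leaf 351) (.leaf 474)) (.leaf 688)))) (.node (.node (.node (.node (.leaf 79) (.leaf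 759)) (.node (.leaf 493) (.leaf 932))) (.node (.node (.leaf 302) (.leaf 883)) (.node (.leaf 655) (.leaf 516)))) (.node (.node (.node (.leaf 194) (.leaf 98)) (.node (.leaf 572) (.leaf 767))) (.node (.node (.leaf 398) (.leaf 895)) (.leaf 265))))) (.node (.node (.node (.node (.node (.leaf 48) (.leaf 768)) (.node (.leaf 473) (.leaf 447))) (.node (.node (.leaf 276) (.leaf 874)) (.node (.leaf 552) (.leaf 230)))) (.node (.node (.node (.leaf 166) (.leaf 750)) (.node (.leaf 378) (.leaf 416))) (.node (.node (.leaf 371) (.leaf 198)) (.leaf 704)))) (.node (.node (.node (.node (.leaf 107) (.leaf 801)) (.node (.leaf 512) (.leaf 893))) (.node (.node (.leaf 130) (.leaf 648)) (.node (.leaf 663) (.leaf 773)))) (.node (.node (.node (.leaf 224) (.leaf 556)) (.node (.leaf 31) (.leaf 867))) (.node (.node (.leaf 423) (.leaf 924)) (.leaf 627))))))) (.node (.node (.node (.node (.node (.node (.node (.leaf 9) (.leaf 462)) (.node (.leaf 443) (.leaf 100))) (.node (.node (.leaf 232)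 (.leaf 449)) (.node (.leaf 605) (.leaf 561)))) (.node (.node (.node (.leaf 131) (.leaf 292)) (.node (.leaf 525) (.leaf 634))) (.node (.node (.leaf 344) (.leaf 897)) (.leaf 39)))) (.node (.node (.node (.node (.leaf 71) (.leaf 522)) (.node (.leaf 489) (.leaf 923))) (.node (.node (.leaf 295) (.leaf 828)) (.node (.leaf 649) (.leaf 221)))) (.node (.node (.node (.leaf 189) (.leaf 705)) (.node (.leaf 567) (.leaf 949))) (.node (.node (.leaf 390) (.leaf 917)) (.leaf 720))))) (.node (.node (.node (.node (.node (.leaf 40) (.leaf 305)) (.node (.leaf 467) (.leaf 321))) (.node (.node (.leaf 270) (.leaf 825)) (.node (.leaf 629) (.leaf 303)))) (.node (.node (.node (.leaf 158) (.leaf 824)) (.node (.leaf 179) (.leaf 770))) (.node (.node (.leaf 167) (.leaf 901)) (.leaf 700)))) (.node (.node (.node (.node (.leaf 99) (.leaf 796)) (.node (.leaf 165) (.leaf 834))) (.node (.node (.leaf 12) (.leaf 584)) (.node (.leaf 667) (.leaf 832)))) (.node (.node (.node (.leaf 217) (.leaf 548))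 (.node (.leaf 583) (.leaf 741))) (.node (.node (.leaf 417) (.leaf 862)) (.leaf 733)))))) (.node (.node (.node (.node (.node (.node (.leaf 25) (.leaf 754)) (.node (.leaf 456) (.leaf 422))) (.node (.node (.leaf 255) (.leaf 868)) (.node (.leaf 33) (.leaf 591)))) (.node (.node (.node (.leaf 144) (.leaf 819)) (.node (.leaf 537) (.leaf 904))) (.node (.node (.leaf 356) (.leaf 799)) (.leaf 691)))) (.node (.node (.node (.node (.leaf 87) (.leaf 206)) (.node (.leaf 260) (.leaf 912))) (.node (.node (.leaf 309) (.leaf 272)) (.node (.leaf 658) (.leaf 810)))) (.node (.node (.node (.leaf 201) (.leaf 847)) (.node (.leaf 577) (.leaf 361))) (.node (.node (.leaf 404) (.leaf 171)) (.leaf 689))))) (.node (.node (.node (.node (.node (.leaf 56) (.leaf 745)) (.node (.leaf 478) (.leaf 902))) (.node (.node (.leaf 10) (.leaf 876)) (.node (.leaf 639) (.leaf 335)))) (.node (.node (.node (.leaf 174) (.leaf 274)) (.node (.leaf 559) (.leaf 497))) (.node (.node (.leaf 377) (.leaf 195))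 (.leaf 271)))) (.node (.node (.node (.node (.leaf 115) (.leaf 348)) (.node (.leaf 508) (.leaf 469))) (.node (.node (.leaf 66) (.leaf 578)) (.node (.leaf 676) (.leaf 687)))) (.node (.node (.node (.leaf 229) (.leaf 856)) (.node (.leaf 592) (.leaf 204))) (.node (.node (.leaf 428) (.leaf 220)) (.leaf 740)))))))) (.node (.node (.node (.node (.node (.node (.node (.node (.leaf 5) (.leaf 747)) (.node (.leaf 439) (.leaf 827))) (.node (.node (.leaf 238) (.leaf 536)) (.node (.leaf 601) (.leaf 789)))) (.node (.node (.node (.leaf 127) (.leaf 697)) (.node (.leaf 104) (.leaf 594))) (.node (.node (.leaf 340) (.leaf 855)) (.leaf 682)))) (.node (.node (.node (.node (.leaf 67) (.leaf 775)) (.node (.leaf 175) (.leaf 576))) (.node (.node (.leaf 291) (.leaf 879)) (.node (.leaf 620) (.leaf 541)))) (.node (.node (.node (.leaf 185) (.leaf 838)) (.node (.leaf 565) (.leaf 730))) (.node (.node (.leaf 387) (.leaf 748)) (.leaf 623))))) (.node (.node (.node (.node (.node (.leaf 36) (.leaf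 763)) (.node (.leaf 429) (.leaf 880))) (.node (.node (.leaf 266) (.leaf 78)) (.node (.leaf 626) (.leaf 815)))) (.node (.node (.node (.leaf 154) (.leaf 568)) (.node (.leaf 545) (.leaf 136))) (.node (.node (.leaf 355) (.leaf 86)) (.leaf 96)))) (.node (.node (.node (.node (.leaf 95) (.leaf 606)) (.node (.leaf 505) (.leaf 609))) (.node (.node (.leaf 320) (.leaf 742)) (.node (.leaf 664) (.leaf 959)))) (.node (.node (.node (.leaf 213) (.leaf 746)) (.node (.leaf 468) (.leaf 887))) (.node (.node (.leaf 414) (.leaf 921)) (.leaf 647)))))) (.node (.node (.node (.node (.node (.node (.leaf 21) (.leaf 633)) (.node (.leaf 452) (.leaf 835))) (.node (.node (.leaf 252) (.leaf 866)) (.node (.leaf 614) (.leaf 502)))) (.node (.node (.node (.leaf 143) (.leaf 736)) (.node (.leaf 535) (.leaf 943))) (.node (.node (.leaf 352) (.leaf 906)) (.leaf 251)))) (.node (.node (.node (.node (.leaf 83) (.leaf 589)) (.node (.leaf 488) (.leaf 852))) (.node (.node (.leaf 74) (.leaf 298)) (.node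 (.leaf 538) (.leaf 227)))) (.node (.node (.node (.leaf 188) (.leaf 777)) (.node (.leaf 575) (.leaf 499))) (.node (.node (.leaf 401) (.leaf 566)) (.leaf 192))))) (.node (.node (.node (.node (.node (.leaf 52) (.leaf 415)) (.node (.leaf 306) (.leaf 935))) (.node (.node (.leaf 280) (.leaf 875)) (.node (.leaf 637) (.leaf 951)))) (.node (.node (.node (.leaf 170) (.leaf 830)) (.node (.leaf 432) (.leaf 218))) (.node (.node (.leaf 374) (.leaf 864)) (.leaf 707)))) (.node (.node (.node (.node (.leaf 111) (.leaf 779)) (.node (.leaf 513) (.leaf 755))) (.node (.node (.leaf 330) (.leaf 444)) (.node (.leaf 405) (.leaf 958)))) (.node (.node (.node (.leaf 226) (.leaf 587)) (.node (.leaf 55) (.leaf 190))) (.node (.node (.leaf 18) (.leaf 922)) (.leaf 738))))))) (.node (.node (.node (.node (.node (.node (.node (.leaf 13) (.leaf 632)) (.node (.leaf 128) (.leaf 890))) (.node (.node (.leaf 45) (.leaf 863)) (.node (.leaf 413) (.leaf 613)))) (.node (.node (.node (.leaf 135) (.leaf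 814)) (.node (.leaf 386) (.leaf 919))) (.node (.node (.leaf 347) (.leaf 692)) (.leaf 197)))) (.node (.node (.node (.node (.leaf 75) (.leaf 338)) (.node (.leaf 492) (.leaf 844))) (.node (.node (.leaf 299) (.leaf 882)) (.node (.leaf 652) (.leaf 708)))) (.node (.node (.node (.leaf 193) (.leaf 841)) (.node (.leaf 570) (.leaf 788))) (.node (.node (.leaf 394) (.leaf 148)) (.leaf 721))))) (.node (.node (.node (.node (.node (.leaf 44) (.leaf 145)) (.node (.leaf 470) (.leaf 477))) (.node (.node (.leaf 273) (.leaf 873)) (.node (.leaf 453) (.leaf 914)))) (.node (.node (.node (.leaf 162) (.leaf 826)) (.node (.leaf 551) (.leaf 440))) (.node (.node (.leaf 62) (.leaf 484)) (.leaf 702)))) (.node (.node (.node (.node (.leaf 103) (.leaf 798)) (.node (.leaf 451) (.leaf 486))) (.node (.node (.leaf 325) (.leaf 797)) (.node (.leaf 668) (.leaf 256)))) (.node (.node (.node (.leaf 200) (.leaf 602)) (.node (.leaf 436) (.leaf 948))) (.node (.node (.leaf 420) (.leaf 837)) (.leaf 734))))))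 (.node (.node (.node (.node (.node (.node (.leaf 29) (.leaf 758)) (.node (.leaf 459) (.leaf 928))) (.node (.node (.leaf 259) (.leaf 870)) (.node (.leaf 619) (.leaf 757)))) (.node (.node (.node (.leaf 138) (.leaf 808)) (.node (.leaf 539) (.leaf 944))) (.node (.node (.leaf 359) (.leaf 669)) (.leaf 694)))) (.node (.node (.node (.node (.leaf 2) (.leaf 790)) (.node (.leaf 134) (.leaf 114))) (.node (.node (.leaf 313) (.leaf 236)) (.node (.leaf 661) (.leaf 846)))) (.node (.node (.node (.leaf 205) (.leaf 116)) (.node (.leaf 579) (.leaf 287))) (.node (.node (.leaf 51) (.leaf 710)) (.leaf 728))))) (.node (.node (.node (.node (.node (.leaf 60) (.leaf 774)) (.node (.leaf 482) (.leaf 402))) (.node (.node (.leaf 285) (.leaf 792)) (.node (.leaf 642) (.leaf 937)))) (.node (.node (.node (.leaf 178) (.leaf 118)) (.node (.leaf 560) (.leaf 795))) (.node (.node (.leaf 381) (.leaf 479)) (.leaf 713)))) (.node (.node (.node (.node (.leaf 119) (.leaf 438)) (.node (.leaf 102) (.leaf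 941))) (.node (.node (.leaf 336) (.leaf 894)) (.node (.leaf 678) (.leaf 939)))) (.node (.node (.node (.leaf 233) (.leaf 784)) (.node (.leaf 595) (.leaf 153))) (.node (.node (.leaf 431) (.leaf 599)) (.leaf 210))))))))) (.node (.node (.node (.node (.node (.node (.node (.node (.node (.leaf 3) (.leaf 108)) (.node (.leaf 437) (.leaf 529))) (.node (.node (.leaf 8) (.leaf 397)) (.node (.leaf 159) (.leaf 695)))) (.node (.node (.node (.leaf 125) (.leaf 618)) (.node (.leaf 521) (.leaf 926))) (.node (.node (.leaf 245) (.leaf 898)) (.leaf 636)))) (.node (.node (.node (.node (.leaf 65) (.leaf 778)) (.node (.leaf 406) (.leaf 820))) (.node (.node (.leaf 289) (.leaf 515)) (.node (.leaf 646) (.leaf 326)))) (.node (.node (.node (.leaf 184) (.leaf 836)) (.node (.leaf 564) (.leaf 216))) (.node (.node (.leaf 16) (.leaf 244)) (.leaf 716))))) (.node (.node (.node (.node (.node (.leaf 34) (.leaf 407)) (.node (.leaf 463) (.leaf 372))) (.node (.node (.leaf 264) (.leaf 524)) (.node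 (.leaf 624) (.leaf 802)))) (.node (.node (.node (.leaf 152) (.leaf 369)) (.node (.leaf 496) (.leaf 945))) (.node (.node (.leaf 362) (.leaf 910)) (.leaf 593)))) (.node (.node (.node (.node (.leaf 84) (.leaf 712)) (.node (.leaf 504) (.leaf 889))) (.node (.node (.leaf 20) (.leaf 531)) (.node (.leaf 662) (.leaf 674)))) (.node (.node (.node (.leaf 211) (.leaf 849)) (.node (.leaf 151) (.leaf 391))) (.node (.node (.leaf 412) (.leaf 300)) (.leaf 581)))))) (.node (.node (.node (.node (.node (.node (.leaf 19) (.leaf 654)) (.node (.leaf 450) (.leaf 693))) (.node (.node (.leaf 250) (.leaf 70)) (.node (.leaf 612) (.leaf 558)))) (.node (.node (.node (.leaf 141) (.leaf 816)) (.node (.leaf 533) (.leaf 920))) (.node (.node (.leaf 261) (.leaf 786)) (.leaf 155)))) (.node (.node (.node (.node (.leaf 81) (.leaf 785)) (.node (.leaf 495) (.leaf 727))) (.node (.node (.leaf 304) (.leaf 630)) (.node (.leaf 445) (.leaf 388)))) (.node (.node (.node (.leaf 196) (.leaf 701)) (.node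 (.leaf 574) (.leaf 140))) (.node (.node (.leaf 399) (.leaf 760)) (.leaf 723))))) (.node (.node (.node (.node (.node (.leaf 50) (.leaf 769)) (.node (.leaf 475) (.leaf 933))) (.node (.node (.leaf 278) (.leaf 281)) (.node (.leaf 635) (.leaf 427)))) (.node (.node (.node (.leaf 168) (.leaf 829)) (.node (.leaf 555) (.leaf 840))) (.node (.node (.leaf 373) (.leaf 308)) (.leaf 671)))) (.node (.node (.node (.node (.leaf 109) (.leaf 803)) (.node (.leaf 24) (.leaf 604))) (.node (.node (.leaf 328) (.leaf 370)) (.node (.leaf 673) (.leaf 329)))) (.node (.node (.node (.leaf 225) (.leaf 403)) (.node (.leaf 588) (.leaf 886))) (.node (.node (.leaf 425) (.leaf 363)) (.leaf 457))))))) (.node (.node (.node (.node (.node (.node (.node (.leaf 11) (.leaf 471)) (.node (.leaf 314) (.leaf 455))) (.node (.node (.leaf 243) (.leaf 861)) (.node (.leaf 607) (.leaf 163)))) (.node (.node (.node (.leaf 133) (.leaf 813)) (.node (.leaf 527) (.leaf 546))) (.node (.node (.leaf 346) (.leaf 903))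 (.leaf 685)))) (.node (.node (.node (.node (.leaf 73) (.leaf 783)) (.node (.leaf 491) (.leaf 389))) (.node (.node (.leaf 297) (.leaf 640)) (.node (.leaf 543) (.leaf 586)))) (.node (.node (.node (.leaf 191) (.leaf 353)) (.node (.leaf 569) (.leaf 751))) (.node (.node (.leaf 392) (.leaf 918)) (.leaf 43))))) (.node (.node (.node (.node (.node (.leaf 42) (.leaf 765)) (.node (.leaf 120) (.leaf 393))) (.node (.node (.leaf 177) (.leaf 72)) (.node (.leaf 631) (.leaf 957)))) (.node (.node (.node (.leaf 160) (.leaf 375)) (.node (.leaf 549) (.leaf 509))) (.node (.node (.leaf 368) (.leaf 554)) (.leaf 698)))) (.node (.node (.node (.node (.leaf 101) (.leaf 57)) (.node (.leaf 507) (.leaf 869))) (.node (.node (.leaf 323) (.leaf 364)) (.node (.leaf 37) (.leaf 780)))) (.node (.node (.node (.leaf 219) (.leaf 851)) (.node (.leaf 400) (.leaf 615))) (.node (.node (.leaf 419) (.leaf 822)) (.leaf 650)))))) (.node (.node (.node (.node (.node (.node (.leaf 27) (.leaf 756)) (.node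 (.leaf 35) (.leaf 490))) (.node (.node (.leaf 257) (.leaf 850)) (.node (.leaf 617) (.leaf 656)))) (.node (.node (.node (.leaf 146) (.leaf 350)) (.node (.leaf 532) (.leaf 132))) (.node (.node (.leaf 358) (.leaf 294)) (.leaf 310)))) (.node (.node (.node (.node (.leaf 89) (.leaf 494)) (.node (.leaf 500) (.leaf 899))) (.node (.node (.leaf 311) (.leaf 161)) (.node (.leaf 660) (.leaf 681)))) (.node (.node (.node (.leaf 203) (.leaf 771)) (.node (.leaf 464) (.leaf 931))) (.node (.node (.leaf 76) (.leaf 703)) (.leaf 726))))) (.node (.node (.node (.node (.node (.leaf 58) (.leaf 345)) (.node (.leaf 480) (.leaf 936))) (.node (.node (.leaf 283) (.leaf 878)) (.node (.leaf 64) (.leaf 953)))) (.node (.node (.node (.leaf 176) (.leaf 833)) (.node (.leaf 28) (.leaf 911))) (.node (.node (.leaf 379) (.leaf 212)) (.leaf 711)))) (.node (.node (.node (.node (.leaf 117) (.leaf 806)) (.node (.leaf 517) (.leaf 929))) (.node (.node (.leaf 334) (.leaf 608)) (.node (.leaf 677) (.leaf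 316)))) (.node (.node (.node (.leaf 231) (.leaf 68)) (.node (.leaf 214) (.leaf 223))) (.node (.node (.leaf 430) (.leaf 925)) (.leaf 442)))))))) (.node (.node (.node (.node (.node (.node (.node (.node (.leaf 7) (.leaf 142)) (.node (.leaf 441) (.leaf 126))) (.node (.node (.leaf 240) (.leaf 859)) (.node (.leaf 603) (.leaf 860)))) (.node (.node (.node (.leaf 129) (.leaf 811)) (.node (.leaf 523) (.leaf 550))) (.node (.node (.leaf 342) (.leaf 900)) (.leaf 684)))) (.node (.node (.node (.node (.leaf 69) (.leaf 781)) (.node (.leaf 487) (.leaf 706))) (.node (.node (.leaf 293) (.leaf 753)) (.node (.leaf 318) (.leaf 341)))) (.node (.node (.node (.leaf 187) (.leaf 839)) (.node (.leaf 173) (.leaf 659))) (.node (.node (.leaf 382) (.leaf 91)) (.leaf 718))))) (.node (.node (.node (.node (.node (.leaf 38) (.leaf 717)) (.node (.leaf 465) (.leaf 930))) (.node (.node (.leaf 268) (.leaf 872)) (.node (.leaf 628) (.leaf 793)))) (.node (.node (.node (.leaf 156) (.leaf 823)) (.node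 (.leaf 547) (.leaf 686))) (.node (.node (.leaf 365) (.leaf 367)) (.leaf 41)))) (.node (.node (.node (.node (.leaf 97) (.leaf 794)) (.node (.leaf 506) (.leaf 764))) (.node (.node (.leaf 322) (.leaf 842)) (.node (.leaf 666) (.leaf 279)))) (.node (.node (.node (.leaf 215) (.leaf 333)) (.node (.leaf 585) (.leaf 952))) (.node (.node (.leaf 269) (.leaf 520)) (.leaf 731)))))) (.node (.node (.node (.node (.node (.node (.leaf 23) (.leaf 312)) (.node (.leaf 454) (.leaf 110))) (.node (.node (.leaf 253) (.leaf 147)) (.node (.leaf 616) (.leaf 460)))) (.node (.node (.node (.leaf 4) (.leaf 818)) (.node (.leaf 26) (.leaf 544))) (.node (.node (.leaf 354) (.leaf 94)) (.leaf 690)))) (.node (.node (.node (.node (.leaf 85) (.leaf 787)) (.node (.leaf 498) (.leaf 916))) (.node (.node (.leaf 307) (.leaf 885)) (.node (.leaf 657) (.leaf 812)))) (.node (.node (.node (.leaf 199) (.leaf 845)) (.node (.leaf 380) (.leaf 950))) (.node (.node (.leaf 106) (.leaf 290)) (.leaf 724))))) (.node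 (.node (.node (.node (.node (.leaf 54) (.leaf 772)) (.node (.leaf 476) (.leaf 324))) (.node (.node (.leaf 282) (.leaf 858)) (.node (.leaf 183) (.leaf 942)))) (.node (.node (.node (.leaf 172) (.leaf 831)) (.node (.leaf 557) (.leaf 762))) (.node (.node (.leaf 376) (.leaf 434)) (.leaf 709)))) (.node (.node (.node (.node (.leaf 113) (.leaf 805)) (.node (.leaf 514) (.leaf 940))) (.node (.node (.leaf 331) (.leaf 239)) (.node (.leaf 675) (.leaf 573)))) (.node (.node (.node (.leaf 228) (.leaf 854)) (.node (.leaf 590) (.leaf 934))) (.node (.node (.leaf 426) (.leaf 254)) (.leaf 739))))))) (.node (.node (.node (.node (.node (.node (.node (.leaf 15) (.leaf 715)) (.node (.leaf 446) (.leaf 526))) (.node (.node (.leaf 246) (.leaf 88)) (.node (.leaf 610) (.leaf 665)))) (.node (.node (.node (.leaf 137) (.leaf 343)) (.node (.leaf 530) (.leaf 124))) (.node (.node (.leaf 349) (.leaf 905)) (.leaf 680)))) (.node (.node (.node (.node (.leaf 77) (.leaf 672)) (.node (.leaf 22)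 (.leaf 571))) (.node (.node (.leaf 301) (.leaf 534)) (.node (.leaf 653) (.leaf 946)))) (.node (.node (.node (.leaf 6) (.leaf 843)) (.node (.leaf 518) (.leaf 511))) (.node (.node (.leaf 396) (.leaf 424)) (.leaf 722))))) (.node (.node (.node (.node (.node (.leaf 46) (.leaf 766)) (.node (.leaf 472) (.leaf 234))) (.node (.node (.leaf 275) (.leaf 409)) (.node (.leaf 332) (.leaf 881)))) (.node (.node (.node (.leaf 164) (.leaf 186)) (.node (.leaf 553) (.leaf 357))) (.node (.node (.leaf 80) (.leaf 913)) (.leaf 93)))) (.node (.node (.node (.node (.leaf 105) (.leaf 800)) (.node (.leaf 510) (.leaf 938))) (.node (.node (.leaf 286) (.leaf 891)) (.node (.leaf 670) (.leaf 643)))) (.node (.node (.node (.leaf 222) (.leaf 853)) (.node (.leaf 169) (.leaf 263))) (.node (.node (.leaf 421) (.leaf 699)) (.leaf 597)))))) (.node (.node (.node (.node (.node (.node (.leaf 0) (.leaf 466)) (.node (.leaf 319) (.leaf 877))) (.node (.node (.leaf 47) (.leaf 871)) (.node (.leaf 621) (.leaf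 956)))) (.node (.node (.node (.leaf 149) (.leaf 821)) (.node (.leaf 540) (.leaf 202))) (.node (.node (.leaf 14) (.leaf 909)) (.leaf 696)))) (.node (.node (.node (.node (.leaf 90) (.leaf 208)) (.node (.leaf 366) (.leaf 884))) (.node (.node (.leaf 315) (.leaf 645)) (.node (.leaf 327) (.leaf 907)))) (.node (.node (.node (.leaf 207) (.leaf 411)) (.node (.leaf 580) (.leaf 625))) (.node (.node (.leaf 408) (.leaf 908)) (.leaf 729))))) (.node (.node (.node (.node (.node (.leaf 61) (.leaf 776)) (.node (.leaf 483) (.leaf 749))) (.node (.node (.leaf 277) (.leaf 82)) (.node (.leaf 458) (.leaf 247)))) (.node (.node (.node (.leaf 180) (.leaf 807)) (.node (.leaf 562) (.leaf 737))) (.node (.node (.leaf 383) (.leaf 112)) (.leaf 714)))) (.node (.node (.node (.node (.leaf 121) (.leaf 735)) (.node (.leaf 157) (.leaf 122))) (.node (.node (.leaf 337) (.leaf 481)) (.node (.leaf 258) (.leaf 563)))) (.node (.node (.node (.leaf 235) (.leaf 857)) (.node (.leaf 596) (.leaf 638)))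 (.node (.node (.leaf 433) (.leaf 888)) (.leaf 743)))))))))) (.node (.node (.node (.node (.node (.node (.node (.node (.node (.node (.leaf 2) (.leaf 745)) (.node (.leaf 436) (.leaf 231))) (.node (.node (.leaf 7) (.leaf 858)) (.node (.leaf 599) (.leaf 910)))) (.node (.node (.node (.leaf 124) (.leaf 718)) (.node (.leaf 520) (.leaf 891))) (.node (.node (.leaf 246) (.leaf 897)) (.leaf 680)))) (.node (.node (.node (.node (.leaf 64) (.leaf 777)) (.node (.leaf 178) (.leaf 577))) (.node (.node (.leaf 25) (.leaf 738)) (.node (.leaf 645) (.leaf 809)))) (.node (.node (.node (.leaf 183) (.leaf 63)) (.node (.leaf 563) (.leaf 133))) (.node (.node (.leaf 386) (.leaf 219)) (.leaf 675))))) (.node (.node (.node (.node (.node (.leaf 33) (.leaf 762)) (.node (.leaf 462) (.leaf 653))) (.node (.node (.leaf 263) (.leaf 521)) (.node (.leaf 623) (.leaf 933)))) (.node (.node (.node (.leaf 151) (.leaf 569)) (.node (.leaf 543) (.leaf 724))) (.node (.node (.leaf 361) (.leaf 611)) (.leaf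 697)))) (.node (.node (.node (.node (.leaf 93) (.leaf 791)) (.node (.leaf 229) (.leaf 149))) (.node (.node (.leaf 318) (.leaf 542)) (.node (.leaf 336) (.leaf 778)))) (.node (.node (.node (.leaf 210) (.leaf 785)) (.node (.leaf 583) (.leaf 874))) (.node (.node (.leaf 411) (.leaf 849)) (.leaf 685)))))) (.node (.node (.node (.node (.node (.node (.leaf 18) (.leaf 751)) (.node (.leaf 449) (.leaf 360))) (.node (.node (.leaf 249) (.leaf 865)) (.node (.leaf 295) (.leaf 557)))) (.node (.node (.node (.leaf 140) (.leaf 158)) (.node (.leaf 532) (.leaf 942))) (.node (.node (.leaf 262) (.leaf 883)) (.leaf 255)))) (.node (.node (.node (.node (.leaf 80) (.leaf 784)) (.node (.leaf 494) (.leaf 446))) (.node (.node (.leaf 303) (.leaf 473)) (.node (.leaf 590) (.leaf 507)))) (.node (.node (.node (.leaf 195) (.leaf 224)) (.node (.leaf 573) (.leaf 951))) (.node (.node (.leaf 164) (.leaf 480)) (.leaf 673))))) (.node (.node (.node (.node (.node (.leaf 49) (.leaf 297)) (.node (.leaf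 474) (.leaf 932))) (.node (.node (.leaf 277) (.leaf 283)) (.node (.leaf 634) (.leaf 503)))) (.node (.node (.node (.leaf 167) (.leaf 714)) (.node (.leaf 500) (.leaf 268))) (.node (.node (.leaf 372) (.leaf 187)) (.leaf 705)))) (.node (.node (.node (.node (.leaf 108) (.leaf 802)) (.node (.leaf 23) (.leaf 607))) (.node (.node (.leaf 327) (.leaf 317)) (.node (.leaf 672) (.leaf 344)))) (.node (.node (.node (.leaf 97) (.leaf 431)) (.node (.leaf 60) (.leaf 146))) (.node (.node (.leaf 424) (.leaf 109)) (.leaf 677))))))) (.node (.node (.node (.node (.node (.node (.node (.leaf 10) (.leaf 749)) (.node (.leaf 156) (.leaf 843))) (.node (.node (.leaf 242) (.leaf 860)) (.node (.leaf 606) (.leaf 913)))) (.node (.node (.node (.leaf 132) (.leaf 812)) (.node (.leaf 526) (.leaf 551))) (.node (.node (.leaf 345) (.leaf 902)) (.leaf 684)))) (.node (.node (.node (.node (.leaf 72) (.leaf 782)) (.node (.leaf 490) (.leaf 836))) (.node (.node (.leaf 296) (.leaf 185)) (.node (.leaf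 650) (.leaf 199)))) (.node (.node (.node (.leaf 190) (.leaf 840)) (.node (.leaf 568) (.leaf 756))) (.node (.node (.leaf 391) (.leaf 489)) (.leaf 42))))) (.node (.node (.node (.node (.node (.leaf 41) (.leaf 764)) (.node (.leaf 468) (.leaf 931))) (.node (.node (.leaf 271) (.leaf 374)) (.node (.leaf 630) (.leaf 660)))) (.node (.node (.node (.leaf 159) (.leaf 123)) (.node (.leaf 485) (.leaf 921))) (.node (.node (.leaf 367) (.leaf 912)) (.leaf 701)))) (.node (.node (.node (.node (.leaf 100) (.leaf 797)) (.node (.leaf 398) (.leaf 117))) (.node (.node (.leaf 322) (.leaf 467)) (.node (.leaf 36) (.leaf 273)))) (.node (.node (.node (.leaf 218) (.leaf 850)) (.node (.leaf 587) (.leaf 441))) (.node (.node (.leaf 418) (.leaf 922)) (.leaf 734)))))) (.node (.node (.node (.node (.node (.node (.leaf 26) (.leaf 755)) (.node (.leaf 457) (.leaf 463))) (.node (.node (.leaf 256) (.leaf 869)) (.node (.leaf 616) (.leaf 655)))) (.node (.node (.node (.leaf 145) (.leaf 352)) (.node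 (.leaf 538) (.leaf 691))) (.node (.node (.leaf 357) (.leaf 907)) (.leaf 692)))) (.node (.node (.node (.node (.leaf 88) (.leaf 275)) (.node (.leaf 499) (.leaf 900))) (.node (.node (.leaf 310) (.leaf 176)) (.node (.leaf 659) (.leaf 617)))) (.node (.node (.node (.leaf 202) (.leaf 90)) (.node (.leaf 578) (.leaf 927))) (.node (.node (.leaf 405) (.leaf 228)) (.leaf 154))))) (.node (.node (.node (.node (.node (.leaf 57) (.leaf 180)) (.node (.leaf 479) (.leaf 896))) (.node (.node (.leaf 282) (.leaf 877)) (.node (.leaf 640) (.leaf 564)))) (.node (.node (.node (.leaf 175) (.leaf 832)) (.node (.leaf 27) (.leaf 487))) (.node (.node (.leaf 378) (.leaf 723)) (.leaf 661)))) (.node (.node (.node (.node (.leaf 116) (.leaf 772)) (.node (.leaf 516) (.leaf 119))) (.node (.node (.leaf 333) (.leaf 892)) (.node (.leaf 289) (.leaf 679)))) (.node (.node (.node (.leaf 230) (.leaf 67)) (.node (.leaf 593) (.leaf 944))) (.node (.node (.leaf 429) (.leaf 915)) (.leaf 337)))))))) (.node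 (.node (.node (.node (.node (.node (.node (.node (.leaf 6) (.leaf 144)) (.node (.leaf 440) (.leaf 872))) (.node (.node (.leaf 239) (.leaf 722)) (.node (.leaf 602) (.leaf 493)))) (.node (.node (.node (.leaf 128) (.leaf 58)) (.node (.leaf 301) (.leaf 213))) (.node (.node (.leaf 341) (.leaf 899)) (.leaf 683)))) (.node (.node (.node (.node (.leaf 68) (.leaf 780)) (.node (.leaf 486) (.leaf 859))) (.node (.node (.leaf 292) (.leaf 880)) (.node (.leaf 647) (.leaf 588)))) (.node (.node (.node (.leaf 186) (.leaf 821)) (.node (.leaf 566) (.leaf 580))) (.node (.node (.leaf 388) (.leaf 141)) (.leaf 717))))) (.node (.node (.node (.node (.node (.leaf 37) (.leaf 81)) (.node (.leaf 464) (.leaf 882))) (.node (.node (.leaf 267) (.leaf 853)) (.node (.leaf 627) (.leaf 829)))) (.node (.node (.node (.leaf 155) (.leaf 813)) (.node (.leaf 546) (.leaf 373))) (.node (.node (.leaf 364) (.leaf 702)) (.leaf 699)))) (.node (.node (.node (.node (.leaf 96) (.leaf 793)) (.node (.leaf 435)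 (.leaf 412))) (.node (.node (.leaf 321) (.leaf 209)) (.node (.leaf 665) (.leaf 845)))) (.node (.node (.node (.leaf 214) (.leaf 107)) (.node (.leaf 584) (.leaf 235))) (.node (.node (.leaf 415) (.leaf 769)) (.leaf 619)))))) (.node (.node (.node (.node (.node (.node (.leaf 22) (.leaf 331)) (.node (.leaf 453) (.leaf 806))) (.node (.node (.leaf 111) (.leaf 801)) (.node (.leaf 615) (.leaf 365)))) (.node (.node (.node (.leaf 3) (.leaf 733)) (.node (.leaf 536) (.leaf 694))) (.node (.node (.leaf 353) (.leaf 754)) (.leaf 631)))) (.node (.node (.node (.node (.leaf 84) (.leaf 54)) (.node (.leaf 497) (.leaf 601))) (.node (.node (.leaf 306) (.leaf 768)) (.node (.leaf 656) (.leaf 368)))) (.node (.node (.node (.leaf 198) (.leaf 682)) (.node (.leaf 576) (.leaf 259))) (.node (.node (.leaf 402) (.leaf 690)) (.leaf 696))))) (.node (.node (.node (.node (.node (.leaf 53) (.leaf 771)) (.node (.leaf 73) (.leaf 761))) (.node (.node (.leaf 281) (.leaf 519)) (.node (.leaf 530) (.leaf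 766)))) (.node (.node (.node (.leaf 171) (.leaf 396)) (.node (.leaf 556) (.leaf 831))) (.node (.node (.leaf 375) (.leaf 87)) (.leaf 708)))) (.node (.node (.node (.node (.leaf 112) (.leaf 804)) (.node (.leaf 379) (.leaf 906))) (.node (.node (.leaf 160) (.leaf 313)) (.node (.leaf 674) (.leaf 387)))) (.node (.node (.node (.leaf 227) (.leaf 582)) (.node (.leaf 589) (.leaf 925))) (.node (.node (.leaf 425) (.leaf 861)) (.leaf 731))))))) (.node (.node (.node (.node (.node (.node (.node (.leaf 14) (.leaf 452)) (.node (.leaf 445) (.leaf 796))) (.node (.node (.leaf 245) (.leaf 280)) (.node (.leaf 609) (.leaf 646)))) (.node (.node (.node (.leaf 136) (.leaf 815)) (.node (.leaf 529) (.leaf 423))) (.node (.node (.leaf 348) (.leaf 904)) (.leaf 686)))) (.node (.node (.node (.node (.leaf 76) (.leaf 740)) (.node (.leaf 21) (.leaf 700))) (.node (.node (.leaf 300) (.leaf 879)) (.node (.leaf 603) (.leaf 956)))) (.node (.node (.node (.leaf 5) (.leaf 842)) (.node (.leaf 571)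 (.leaf 950))) (.node (.node (.leaf 395) (.leaf 137)) (.leaf 470))))) (.node (.node (.node (.node (.node (.leaf 45) (.leaf 747)) (.node (.leaf 471) (.leaf 678))) (.node (.node (.leaf 274) (.leaf 570)) (.node (.leaf 632) (.leaf 211)))) (.node (.node (.node (.leaf 163) (.leaf 827)) (.node (.leaf 552) (.leaf 805))) (.node (.node (.leaf 369) (.leaf 894)) (.leaf 85)))) (.node (.node (.node (.node (.leaf 104) (.leaf 799)) (.node (.leaf 509) (.leaf 174))) (.node (.node (.leaf 278) (.leaf 890)) (.node (.leaf 669) (.leaf 688)))) (.node (.node (.node (.leaf 221) (.leaf 852)) (.node (.leaf 505) (.leaf 658))) (.node (.node (.leaf 207) (.leaf 923)) (.leaf 736)))))) (.node (.node (.node (.node (.node (.node (.leaf 30) (.leaf 759)) (.node (.leaf 460) (.leaf 876))) (.node (.node (.leaf 260) (.leaf 525)) (.node (.leaf 620) (.leaf 949)))) (.node (.node (.node (.leaf 148) (.leaf 437)) (.node (.leaf 56) (.leaf 203))) (.node (.node (.leaf 13) (.leaf 908)) (.leaf 695)))) (.node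 (.node (.node (.node (.leaf 89) (.leaf 459)) (.node (.leaf 501) (.leaf 800))) (.node (.node (.leaf 314) (.leaf 887)) (.node (.leaf 270) (.leaf 959)))) (.node (.node (.node (.leaf 206) (.leaf 225)) (.node (.leaf 523) (.leaf 276))) (.node (.node (.leaf 407) (.leaf 920)) (.leaf 125))))) (.node (.node (.node (.node (.node (.leaf 0) (.leaf 775)) (.node (.leaf 215) (.leaf 857))) (.node (.node (.leaf 286) (.leaf 711)) (.node (.leaf 643) (.leaf 868)))) (.node (.node (.node (.leaf 179) (.leaf 834)) (.node (.leaf 561) (.leaf 811))) (.node (.node (.leaf 382) (.leaf 903)) (.leaf 585)))) (.node (.node (.node (.node (.leaf 120) (.leaf 808)) (.node (.leaf 518) (.leaf 131))) (.node (.node (.leaf 266) (.leaf 483)) (.node (.leaf 476) (.leaf 957)))) (.node (.node (.node (.leaf 234) (.leaf 758)) (.node (.leaf 257) (.leaf 803))) (.node (.node (.leaf 432) (.leaf 926)) (.leaf 742))))))))) (.node (.node (.node (.node (.node (.node (.node (.node (.node (.leaf 4) (.leaf 746)) (.node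 (.leaf 438) (.leaf 385))) (.node (.node (.leaf 237) (.leaf 830)) (.node (.leaf 600) (.leaf 943)))) (.node (.node (.node (.leaf 126) (.leaf 810)) (.node (.leaf 522) (.leaf 598))) (.node (.node (.leaf 44) (.leaf 233)) (.leaf 681)))) (.node (.node (.node (.node (.leaf 66) (.leaf 779)) (.node (.leaf 75) (.leaf 349))) (.node (.node (.leaf 290) (.leaf 823)) (.node (.leaf 612) (.leaf 285)))) (.node (.node (.node (.leaf 15) (.leaf 837)) (.node (.leaf 334) (.leaf 482))) (.node (.node (.leaf 184) (.leaf 916)) (.leaf 624))))) (.node (.node (.node (.node (.node (.leaf 35) (.leaf 50)) (.node (.leaf 421) (.leaf 929))) (.node (.node (.leaf 265) (.leaf 579)) (.node (.leaf 625) (.leaf 866)))) (.node (.node (.node (.leaf 153) (.leaf 61)) (.node (.leaf 544) (.leaf 426))) (.node (.node (.leaf 363) (.leaf 911)) (.leaf 698)))) (.node (.node (.node (.node (.leaf 94) (.leaf 792)) (.node (.leaf 201) (.leaf 841))) (.node (.node (.leaf 319) (.leaf 637)) (.node (.leaf 663) (.leaf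 404)))) (.node (.node (.node (.leaf 212) (.leaf 743)) (.node (.leaf 29) (.leaf 739))) (.node (.node (.leaf 413) (.leaf 918)) (.leaf 730)))))) (.node (.node (.node (.node (.node (.node (.leaf 20) (.leaf 752)) (.node (.leaf 451) (.leaf 309))) (.node (.node (.leaf 251) (.leaf 621)) (.node (.leaf 613) (.leaf 955)))) (.node (.node (.node (.leaf 142) (.leaf 817)) (.node (.leaf 534) (.leaf 709))) (.node (.node (.leaf 46) (.leaf 848)) (.leaf 689)))) (.node (.node (.node (.node (.leaf 82) (.leaf 786)) (.node (.leaf 496) (.leaf 905))) (.node (.node (.leaf 305) (.leaf 884)) (.node (.leaf 127) (.leaf 958)))) (.node (.node (.node (.leaf 197) (.leaf 844)) (.node (.leaf 71) (.leaf 776))) (.node (.node (.leaf 400) (.leaf 465)) (.leaf 194))))) (.node (.node (.node (.node (.node (.leaf 51) (.leaf 770)) (.node (.leaf 392) (.leaf 934))) (.node (.node (.leaf 279) (.leaf 863)) (.node (.leaf 636) (.leaf 945)))) (.node (.node (.node (.leaf 169) (.leaf 814)) (.node (.leaf 433)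 (.leaf 704))) (.node (.node (.leaf 135) (.leaf 839)) (.leaf 706)))) (.node (.node (.node (.node (.leaf 110) (.leaf 152)) (.node (.leaf 512) (.leaf 652))) (.node (.node (.leaf 329) (.leaf 79)) (.node (.leaf 264) (.leaf 833)))) (.node (.node (.node (.leaf 115) (.leaf 105)) (.node (.leaf 540) (.leaf 940))) (.node (.node (.leaf 17) (.leaf 871)) (.leaf 737))))))) (.node (.node (.node (.node (.node (.node (.node (.leaf 12) (.leaf 721)) (.node (.leaf 444) (.leaf 765))) (.node (.node (.leaf 244) (.leaf 862)) (.node (.leaf 608) (.leaf 517)))) (.node (.node (.node (.leaf 134) (.leaf 567)) (.node (.leaf 528) (.leaf 936))) (.node (.node (.leaf 238) (.leaf 478)) (.leaf 52)))) (.node (.node (.node (.node (.leaf 74) (.leaf 572)) (.node (.leaf 399) (.leaf 381))) (.node (.node (.leaf 298) (.leaf 881)) (.node (.leaf 651) (.leaf 713)))) (.node (.node (.node (.leaf 192) (.leaf 819)) (.node (.leaf 527) (.leaf 383))) (.node (.node (.leaf 393) (.leaf 299)) (.leaf 720))))) (.node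 (.node (.node (.node (.node (.leaf 43) (.leaf 454)) (.node (.leaf 469) (.leaf 475))) (.node (.node (.leaf 272) (.leaf 574)) (.node (.leaf 250) (.leaf 938)))) (.node (.node (.node (.leaf 161) (.leaf 825)) (.node (.leaf 550) (.leaf 450))) (.node (.node (.leaf 226) (.leaf 628)) (.leaf 592)))) (.node (.node (.node (.node (.leaf 102) (.leaf 539)) (.node (.leaf 508) (.leaf 937))) (.node (.node (.leaf 324) (.leaf 354)) (.node (.leaf 667) (.leaf 774)))) (.node (.node (.node (.leaf 220) (.leaf 408)) (.node (.leaf 491) (.leaf 953))) (.node (.node (.leaf 293) (.leaf 838)) (.leaf 735)))))) (.node (.node (.node (.node (.node (.node (.leaf 28) (.leaf 757)) (.node (.leaf 458) (.leaf 917))) (.node (.node (.leaf 258) (.leaf 547)) (.node (.leaf 618) (.leaf 537)))) (.node (.node (.node (.leaf 147) (.leaf 820)) (.node (.leaf 394) (.leaf 941))) (.node (.node (.leaf 253) (.leaf 419)) (.leaf 693)))) (.node (.node (.node (.node (.leaf 1) (.leaf 789)) (.node (.leaf 377) (.leaf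 854))) (.node (.node (.leaf 312) (.leaf 330)) (.node (.leaf 302) (.leaf 635)))) (.node (.node (.node (.leaf 204) (.leaf 414)) (.node (.leaf 428) (.leaf 320))) (.node (.node (.leaf 406) (.leaf 92)) (.leaf 727))))) (.node (.node (.node (.node (.node (.leaf 59) (.leaf 773)) (.node (.leaf 481) (.leaf 545))) (.node (.node (.leaf 284) (.leaf 222)) (.node (.leaf 641) (.leaf 614)))) (.node (.node (.node (.leaf 177) (.leaf 328)) (.node (.leaf 559) (.leaf 947))) (.node (.node (.leaf 380) (.leaf 914)) (.leaf 712)))) (.node (.node (.node (.node (.leaf 118) (.leaf 807)) (.node (.leaf 162) (.leaf 371))) (.node (.node (.leaf 335) (.leaf 893)) (.node (.leaf 626) (.leaf 610)))) (.node (.node (.node (.leaf 232) (.leaf 856)) (.node (.leaf 594) (.leaf 878))) (.node (.node (.leaf 40) (.leaf 189)) (.leaf 741)))))))) (.node (.node (.node (.node (.node (.node (.node (.node (.leaf 8) (.leaf 748)) (.node (.leaf 442) (.leaf 728))) (.node (.node (.leaf 241) (.leaf 575)) (.node (.leaf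 604) (.leaf 448)))) (.node (.node (.node (.leaf 130) (.leaf 794)) (.node (.leaf 524) (.leaf 729))) (.node (.node (.leaf 343) (.leaf 901)) (.leaf 38)))) (.node (.node (.node (.node (.leaf 70) (.leaf 342)) (.node (.leaf 488) (.leaf 670))) (.node (.node (.leaf 294) (.leaf 311)) (.node (.leaf 648) (.leaf 506)))) (.node (.node (.node (.leaf 188) (.leaf 307)) (.node (.leaf 498) (.leaf 948))) (.node (.node (.leaf 389) (.leaf 847)) (.leaf 719))))) (.node (.node (.node (.node (.node (.leaf 39) (.leaf 622)) (.node (.leaf 466) (.leaf 323))) (.node (.node (.leaf 269) (.leaf 826)) (.node (.leaf 553) (.leaf 605)))) (.node (.node (.node (.leaf 157) (.leaf 514)) (.node (.leaf 548) (.leaf 196))) (.node (.node (.leaf 366) (.leaf 166)) (.leaf 430)))) (.node (.node (.node (.node (.leaf 98) (.leaf 795)) (.node (.leaf 340) (.leaf 304))) (.node (.node (.leaf 11) (.leaf 889)) (.node (.leaf 596) (.leaf 325)))) (.node (.node (.node (.leaf 216) (.leaf 65)) (.node (.leaf 586) (.leaf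 664))) (.node (.node (.leaf 416) (.leaf 875)) (.leaf 732)))))) (.node (.node (.node (.node (.node (.node (.leaf 24) (.leaf 753)) (.node (.leaf 455) (.leaf 924))) (.node (.node (.leaf 254) (.leaf 867)) (.node (.leaf 32) (.leaf 790)))) (.node (.node (.node (.leaf 143) (.leaf 121)) (.node (.leaf 288) (.leaf 495))) (.node (.node (.leaf 355) (.leaf 83)) (.leaf 565)))) (.node (.node (.node (.node (.leaf 86) (.leaf 788)) (.node (.leaf 172) (.leaf 243))) (.node (.node (.leaf 308) (.leaf 886)) (.node (.leaf 510) (.leaf 291)))) (.node (.node (.node (.leaf 200) (.leaf 846)) (.node (.leaf 513) (.leaf 787))) (.node (.node (.leaf 403) (.leaf 676)) (.leaf 725))))) (.node (.node (.node (.node (.node (.leaf 55) (.leaf 347)) (.node (.leaf 477) (.leaf 930))) (.node (.node (.leaf 9) (.leaf 248)) (.node (.leaf 638) (.leaf 240)))) (.node (.node (.node (.leaf 173) (.leaf 217)) (.node (.leaf 558) (.leaf 935))) (.node (.node (.leaf 168) (.leaf 555)) (.leaf 710)))) (.node (.node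 (.node (.node (.leaf 114) (.leaf 439)) (.node (.leaf 515) (.leaf 885))) (.node (.node (.leaf 332) (.leaf 346)) (.node (.leaf 48) (.leaf 783)))) (.node (.node (.node (.leaf 170) (.leaf 855)) (.node (.leaf 591) (.leaf 954))) (.node (.node (.leaf 427) (.leaf 358)) (.leaf 390))))))) (.node (.node (.node (.node (.node (.node (.node (.leaf 16) (.leaf 750)) (.node (.leaf 447) (.leaf 870))) (.node (.node (.leaf 247) (.leaf 864)) (.node (.leaf 315) (.leaf 952)))) (.node (.node (.node (.leaf 138) (.leaf 781)) (.node (.leaf 531) (.leaf 824))) (.node (.node (.leaf 350) (.leaf 726)) (.leaf 687)))) (.node (.node (.node (.node (.leaf 78) (.leaf 662)) (.node (.leaf 492) (.leaf 873))) (.node (.node (.leaf 103) (.leaf 562)) (.node (.leaf 654) (.leaf 356)))) (.node (.node (.node (.leaf 193) (.leaf 99)) (.node (.leaf 101) (.leaf 657))) (.node (.node (.leaf 397) (.leaf 919)) (.leaf 535))))) (.node (.node (.node (.node (.node (.leaf 47) (.leaf 767)) (.node (.leaf 410) (.leaf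 898))) (.node (.node (.leaf 205) (.leaf 851)) (.node (.leaf 633) (.leaf 639)))) (.node (.node (.node (.leaf 165) (.leaf 828)) (.node (.leaf 554) (.leaf 946))) (.node (.node (.leaf 370) (.leaf 560)) (.leaf 703)))) (.node (.node (.node (.node (.leaf 106) (.leaf 113)) (.node (.leaf 511) (.leaf 939))) (.node (.node (.leaf 326) (.leaf 816)) (.node (.leaf 671) (.leaf 909)))) (.node (.node (.node (.leaf 223) (.leaf 77)) (.node (.leaf 376) (.leaf 351))) (.node (.node (.leaf 422) (.leaf 95)) (.leaf 666)))))) (.node (.node (.node (.node (.node (.node (.leaf 31) (.leaf 760)) (.node (.leaf 19) (.leaf 928))) (.node (.node (.leaf 261) (.leaf 362)) (.node (.leaf 69) (.leaf 707)))) (.node (.node (.node (.leaf 150) (.leaf 822)) (.node (.leaf 541) (.leaf 504))) (.node (.node (.leaf 359) (.leaf 642)) (.leaf 191)))) (.node (.node (.node (.node (.leaf 91) (.leaf 420)) (.node (.leaf 502) (.leaf 629))) (.node (.node (.leaf 316) (.leaf 888)) (.node (.leaf 129) (.leaf 798)))) (.node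 (.node (.node (.leaf 208) (.leaf 472)) (.node (.leaf 581) (.leaf 716))) (.node (.node (.leaf 409) (.leaf 668)) (.leaf 549))))) (.node (.node (.node (.node (.node (.leaf 62) (.leaf 139)) (.node (.leaf 484) (.leaf 461))) (.node (.node (.leaf 287) (.leaf 763)) (.node (.leaf 34) (.leaf 339)))) (.node (.node (.node (.leaf 181) (.leaf 835)) (.node (.leaf 533) (.leaf 456))) (.node (.node (.leaf 384) (.leaf 252)) (.leaf 715)))) (.node (.node (.node (.node (.leaf 122) (.leaf 649)) (.node (.leaf 443) (.leaf 818))) (.node (.node (.leaf 338) (.leaf 895)) (.node (.leaf 595) (.leaf 417)))) (.node (.node (.node (.leaf 236) (.leaf 401)) (.node (.leaf 597) (.leaf 182))) (.node (.node (.leaf 434) (.leaf 644)) (.leaf 744))))))))))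

/-- data -/
def prev3 : Trie (ℕ) := .node (.node (.node (.node (.node (.node (.node (.node (.node (.node (.node (.leaf 15) (.leaf 312)) (.node (.leaf 950) (.leaf 536))) (.node (.node (.leaf 262) (.leaf 677)) (.node (.leaf 520) (.leaf 704)))) (.node (.node (.node (.leaf 413) (.leaf 802)) (.node (.leaf 178) (.leaf 948))) (.node (.node (.leaf 490) (.leaf 472)) (.leaf 264)))) (.node (.node (.node (.node (.leaf 16) (.leaf 843)) (.node (.leaf 160) (.leaf 567))) (.node (.node (.leaf 85) (.leaf 551)) (.node (.leaf 856) (.leaf 782)))) (.node (.node (.node (.leaf 466) (.leaf 701)) (.node (.leaf 202) (.leaf 730))) (.node (.node (.leaf 120) (.leaf 586)) (.leaf 285))))) (.node (.node (.node (.node (.node (.leaf 225) (.leaf 592)) (.node (.leaf 684) (.leaf 638))) (.node (.node (.leaf 76) (.leaf 909)) (.node (.leaf 373) (.leaf 812)))) (.node (.node (.node (.leaf 215) (.leaf 380)) (.node (.leaf 190) (.leaf 624))) (.node (.node (.leaf 559) (.leaf 484)) (.leaf 365)))) (.node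 (.node (.node (.node (.leaf 24) (.leaf 350)) (.node (.leaf 169) (.leaf 585))) (.node (.node (.leaf 93) (.leaf 456)) (.node (.leaf 346) (.leaf 846)))) (.node (.node (.node (.leaf 735) (.leaf 401)) (.node (.leaf 213) (.leaf 786))) (.node (.node (.leaf 131) (.leaf 784)) (.leaf 337)))))) (.node (.node (.node (.node (.node (.node (.leaf 129) (.leaf 755)) (.node (.leaf 145) (.leaf 543))) (.node (.node (.leaf 850) (.leaf 696)) (.node (.leaf 229) (.leaf 844)))) (.node (.node (.node (.leaf 661) (.leaf 692)) (.node (.leaf 185) (.leaf 857))) (.node (.node (.leaf 118) (.leaf 561)) (.leaf 268)))) (.node (.node (.node (.node (.leaf 20) (.leaf 408)) (.node (.leaf 720) (.leaf 590))) (.node (.node (.leaf 89) (.leaf 455)) (.node (.leaf 743) (.leaf 797)))) (.node (.node (.node (.leaf 322) (.leaf 395)) (.node (.leaf 208) (.leaf 659))) (.node (.node (.leaf 132) (.leaf 752)) (.leaf 298))))) (.node (.node (.node (.node (.node (.leaf 313) (.leaf 642)) (.node (.leaf 154) (.leaf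 670))) (.node (.node (.leaf 81) (.leaf 434)) (.node (.leaf 239) (.leaf 841)))) (.node (.node (.node (.leaf 647) (.leaf 584)) (.node (.leaf 196) (.leaf 636))) (.node (.node (.leaf 865) (.leaf 494)) (.leaf 279)))) (.node (.node (.node (.node (.leaf 28) (.leaf 594)) (.node (.leaf 523) (.leaf 596))) (.node (.node (.leaf 97) (.leaf 463)) (.node (.leaf 854) (.leaf 883)))) (.node (.node (.node (.leaf 277) (.leaf 518)) (.node (.leaf 219) (.leaf 767))) (.node (.node (.leaf 136) (.leaf 745)) (.leaf 305))))))) (.node (.node (.node (.node (.node (.node (.node (.leaf 75) (.leaf 936)) (.node (.leaf 300) (.leaf 539))) (.node (.node (.leaf 845) (.leaf 416)) (.node (.leaf 937) (.leaf 707)))) (.node (.node (.node (.leaf 637) (.leaf 367)) (.node (.leaf 795) (.leaf 609))) (.node (.node (.leaf 105) (.leaf 934)) (.leaf 266)))) (.node (.node (.node (.node (.leaf 18) (.leaf 628)) (.node (.leaf 580) (.leaf 944))) (.node (.node (.leaf 87) (.leaf 444)) (.node (.leaf 246) (.leaf 808))))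 (.node (.node (.node (.leaf 772) (.leaf 393)) (.node (.leaf 204) (.leaf 652))) (.node (.node (.leaf 123) (.leaf 508)) (.leaf 726))))) (.node (.node (.node (.node (.node (.leaf 177) (.leaf 333)) (.node (.leaf 152) (.leaf 870))) (.node (.node (.leaf 742) (.leaf 429)) (.node (.leaf 236) (.leaf 811)))) (.node (.node (.node (.leaf 49) (.leaf 383)) (.node (.leaf 194) (.leaf 810))) (.node (.node (.leaf 733) (.leaf 491)) (.leaf 370)))) (.node (.node (.node (.node (.leaf 26) (.leaf 353)) (.node (.leaf 729) (.leaf 801))) (.node (.node (.leaf 95) (.leaf 710)) (.node (.leaf 374) (.leaf 886)))) (.node (.node (.node (.leaf 622) (.leaf 403)) (.node (.leaf 785) (.leaf 815))) (.node (.node (.leaf 737) (.leaf 525)) (.leaf 301)))))) (.node (.node (.node (.node (.node (.node (.leaf 180) (.leaf 657)) (.node (.leaf 147) (.leaf 949))) (.node (.node (.leaf 873) (.leaf 422)) (.node (.leaf 231) (.leaf 751)))) (.node (.node (.node (.leaf 237) (.leaf 377)) (.node (.leaf 407) (.leaf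 806))) (.node (.node (.leaf 892) (.leaf 481)) (.leaf 907)))) (.node (.node (.node (.node (.leaf 22) (.leaf 632)) (.node (.leaf 753) (.leaf 939))) (.node (.node (.leaf 91) (.leaf 451)) (.node (.leaf 252) (.leaf 827)))) (.node (.node (.node (.leaf 513) (.leaf 418)) (.node (.leaf 693) (.leaf 668))) (.node (.node (.leaf 686) (.leaf 738)) (.leaf 294))))) (.node (.node (.node (.node (.node (.leaf 349) (.leaf 335)) (.node (.leaf 880) (.leaf 564))) (.node (.node (.leaf 83) (.leaf 438)) (.node (.leaf 241) (.leaf 760)))) (.node (.node (.node (.leaf 48) (.leaf 825)) (.node (.leaf 572) (.leaf 899))) (.node (.node (.leaf 764) (.leaf 672)) (.leaf 283)))) (.node (.node (.node (.node (.leaf 30) (.leaf 360)) (.node (.leaf 957) (.leaf 676))) (.node (.node (.leaf 106) (.leaf 468)) (.node (.leaf 698) (.leaf 911)))) (.node (.node (.node (.leaf 839) (.leaf 449)) (.node (.leaf 363) (.leaf 800))) (.node (.node (.leaf 138) (.leaf 819)) (.leaf 316)))))))) (.node (.node (.node (.node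 (.node (.node (.node (.node (.leaf 46) (.leaf 315)) (.node (.leaf 447) (.leaf 852))) (.node (.node (.leaf 184) (.leaf 414)) (.node (.leaf 326) (.leaf 705)))) (.node (.node (.node (.leaf 188) (.leaf 700)) (.node (.leaf 179) (.leaf 820))) (.node (.node (.leaf 104) (.leaf 803)) (.leaf 265)))) (.node (.node (.node (.node (.leaf 17) (.leaf 837)) (.node (.leaf 747) (.leaf 913))) (.node (.node (.leaf 86) (.leaf 945)) (.node (.leaf 352) (.leaf 787)))) (.node (.node (.node (.leaf 616) (.leaf 391)) (.node (.leaf 203) (.leaf 650))) (.node (.node (.leaf 122) (.leaf 506)) (.leaf 286))))) (.node (.node (.node (.node (.node (.leaf 250) (.leaf 327)) (.node (.leaf 604) (.leaf 713))) (.node (.node (.leaf 77) (.leaf 428)) (.node (.leaf 798) (.leaf 918)))) (.node (.node (.node (.leaf 671) (.leaf 834)) (.node (.leaf 550) (.leaf 653))) (.node (.node (.leaf 510) (.leaf 487)) (.leaf 527)))) (.node (.node (.node (.node (.leaf 25) (.leaf 351)) (.node (.leaf 282) (.leaf 587))) (.node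 (.node (.leaf 94) (.leaf 459)) (.node (.leaf 731) (.leaf 935)))) (.node (.node (.node (.leaf 814) (.leaf 402)) (.node (.leaf 697) (.leaf 678))) (.node (.node (.leaf 768) (.leaf 524)) (.leaf 299)))))) (.node (.node (.node (.node (.node (.node (.leaf 156) (.leaf 548)) (.node (.leaf 146) (.leaf 545))) (.node (.node (.leaf 78) (.leaf 501)) (.node (.leaf 230) (.leaf 714)))) (.node (.node (.node (.leaf 170) (.leaf 933)) (.node (.leaf 186) (.leaf 691))) (.node (.node (.leaf 847) (.leaf 479)) (.leaf 415)))) (.node (.node (.node (.node (.leaf 21) (.leaf 725)) (.node (.leaf 682) (.leaf 940))) (.node (.node (.leaf 90) (.leaf 450)) (.node (.leaf 251) (.leaf 823)))) (.node (.node (.node (.leaf 235) (.leaf 577)) (.node (.leaf 209) (.leaf 664))) (.node (.node (.leaf 791) (.leaf 626)) (.leaf 781))))) (.node (.node (.node (.node (.node (.leaf 331) (.leaf 426)) (.node (.leaf 155) (.leaf 563))) (.node (.node (.leaf 82) (.leaf 435)) (.node (.leaf 240) (.leaf 762)))) (.node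 (.node (.node (.leaf 47) (.leaf 630)) (.node (.leaf 197) (.leaf 667))) (.node (.node (.leaf 858) (.leaf 866)) (.leaf 712)))) (.node (.node (.node (.node (.leaf 29) (.leaf 358)) (.node (.leaf 261) (.leaf 598))) (.node (.node (.leaf 599) (.leaf 469)) (.node (.leaf 509) (.leaf 912)))) (.node (.node (.node (.leaf 831) (.leaf 836)) (.node (.leaf 344) (.leaf 774))) (.node (.node (.leaf 137) (.leaf 859)) (.leaf 307))))))) (.node (.node (.node (.node (.node (.node (.node (.leaf 103) (.leaf 359)) (.node (.leaf 144) (.leaf 542))) (.node (.node (.leaf 302) (.leaf 417)) (.node (.leaf 228) (.leaf 796)))) (.node (.node (.node (.leaf 649) (.leaf 368)) (.node (.leaf 929) (.leaf 610))) (.node (.node (.leaf 728) (.leaf 750)) (.leaf 267)))) (.node (.node (.node (.node (.leaf 19) (.leaf 835)) (.node (.leaf 717) (.leaf 573))) (.node (.node (.leaf 88) (.leaf 446)) (.node (.leaf 780) (.leaf 891)))) (.node (.node (.node (.leaf 318) (.leaf 394)) (.node (.leaf 205) (.leaf 654)))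 (.node (.node (.leaf 920) (.leaf 690)) (.leaf 822))))) (.node (.node (.node (.node (.node (.leaf 295) (.leaf 679)) (.node (.leaf 153) (.leaf 558))) (.node (.node (.leaf 648) (.leaf 433)) (.node (.leaf 289) (.leaf 741)))) (.node (.node (.node (.leaf 722) (.leaf 384)) (.node (.leaf 195) (.leaf 635))) (.node (.node (.leaf 381) (.leaf 493)) (.leaf 278)))) (.node (.node (.node (.node (.leaf 27) (.leaf 746)) (.node (.leaf 461) (.leaf 757))) (.node (.node (.leaf 96) (.leaf 462)) (.node (.leaf 574) (.leaf 875)))) (.node (.node (.node (.leaf 606) (.leaf 681)) (.node (.leaf 218) (.leaf 889))) (.node (.node (.leaf 135) (.leaf 526)) (.leaf 906)))))) (.node (.node (.node (.node (.node (.node (.leaf 207) (.leaf 775)) (.node (.leaf 148) (.leaf 656))) (.node (.node (.leaf 515) (.leaf 521)) (.node (.leaf 232) (.leaf 721)))) (.node (.node (.node (.leaf 658) (.leaf 379)) (.node (.leaf 189) (.leaf 942))) (.node (.node (.leaf 556) (.leaf 483)) (.leaf 516)))) (.node (.node (.node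 (.node (.leaf 23) (.leaf 905)) (.node (.leaf 168) (.leaf 582))) (.node (.node (.leaf 92) (.leaf 851)) (.node (.leaf 253) (.leaf 923)))) (.node (.node (.node (.leaf 779) (.leaf 400)) (.node (.leaf 303) (.leaf 669))) (.node (.node (.leaf 130) (.leaf 600)) (.leaf 557))))) (.node (.node (.node (.node (.node (.leaf 80) (.leaf 336)) (.node (.leaf 183) (.leaf 566))) (.node (.node (.leaf 84) (.leaf 439)) (.node (.leaf 242) (.leaf 833)))) (.node (.node (.node (.leaf 715) (.leaf 562)) (.node (.leaf 589) (.leaf 756))) (.node (.node (.leaf 119) (.leaf 502)) (.leaf 284)))) (.node (.node (.node (.node (.leaf 214) (.leaf 361)) (.node (.leaf 419) (.leaf 602))) (.node (.node (.leaf 890) (.leaf 470)) (.node (.leaf 263) (.leaf 954)))) (.node (.node (.node (.leaf 771) (.leaf 895)) (.node (.leaf 227) (.leaf 702))) (.node (.node (.leaf 763) (.leaf 535)) (.leaf 311))))))))) (.node (.node (.node (.node (.node (.node (.node (.node (.node (.leaf 0) (.leaf 314)) (.node (.leaf 141)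 (.leaf 537))) (.node (.node (.leaf 67) (.leaf 608)) (.node (.leaf 224) (.leaf 708)))) (.node (.node (.node (.leaf 33) (.leaf 364)) (.node (.leaf 788) (.leaf 605))) (.node (.node (.leaf 102) (.leaf 612)) (.leaf 644)))) (.node (.node (.node (.node (.leaf 396) (.leaf 338)) (.node (.leaf 161) (.leaf 568))) (.node (.node (.leaf 685) (.leaf 441)) (.node (.leaf 244) (.leaf 829)))) (.node (.node (.node (.leaf 51) (.leaf 818)) (.node (.leaf 613) (.leaf 816))) (.node (.node (.leaf 121) (.leaf 863)) (.leaf 703))))) (.node (.node (.node (.node (.node (.leaf 8) (.leaf 769)) (.node (.leaf 150) (.leaf 553))) (.node (.node (.leaf 534) (.leaf 427)) (.node (.leaf 234) (.leaf 727)))) (.node (.node (.node (.leaf 41) (.leaf 465)) (.node (.leaf 191) (.leaf 625))) (.node (.node (.leaf 112) (.leaf 486)) (.leaf 275)))) (.node (.node (.node (.node (.leaf 480) (.leaf 900)) (.node (.leaf 532) (.leaf 832))) (.node (.node (.leaf 149) (.leaf 492)) (.node (.leaf 255) (.leaf 849)))) (.node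 (.node (.node (.leaf 59) (.leaf 879)) (.node (.leaf 593) (.leaf 919))) (.node (.node (.leaf 840) (.leaf 675)) (.leaf 860)))))) (.node (.node (.node (.node (.node (.node (.leaf 4) (.leaf 321)) (.node (.leaf 488) (.leaf 618))) (.node (.node (.leaf 71) (.leaf 420)) (.node (.leaf 789) (.leaf 711)))) (.node (.node (.node (.leaf 37) (.leaf 371)) (.node (.leaf 953) (.leaf 614))) (.node (.node (.leaf 108) (.leaf 478)) (.leaf 505)))) (.node (.node (.node (.node (.leaf 467) (.leaf 343)) (.node (.leaf 165) (.leaf 576))) (.node (.node (.leaf 375) (.leaf 941)) (.node (.leaf 249) (.leaf 926)))) (.node (.node (.node (.leaf 55) (.leaf 397)) (.node (.leaf 876) (.leaf 662))) (.node (.node (.leaf 126) (.leaf 540)) (.leaf 292))))) (.node (.node (.node (.node (.node (.leaf 12) (.leaf 332)) (.node (.leaf 665) (.leaf 915))) (.node (.node (.leaf 894) (.leaf 903)) (.node (.leaf 663) (.leaf 754)))) (.node (.node (.node (.leaf 45) (.leaf 386)) (.node (.leaf 541) (.leaf 639))) (.node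 (.node (.leaf 116) (.leaf 495)) (.leaf 280)))) (.node (.node (.node (.node (.leaf 565) (.leaf 357)) (.node (.leaf 174) (.leaf 660))) (.node (.node (.leaf 98) (.leaf 578)) (.node (.leaf 259) (.leaf 925)))) (.node (.node (.node (.leaf 63) (.leaf 522)) (.node (.leaf 220) (.leaf 817))) (.node (.node (.leaf 640) (.leaf 528)) (.leaf 306))))))) (.node (.node (.node (.node (.node (.node (.node (.leaf 2) (.leaf 317)) (.node (.leaf 201) (.leaf 952))) (.node (.node (.leaf 69) (.leaf 687)) (.node (.leaf 805) (.leaf 724)))) (.node (.node (.node (.leaf 35) (.leaf 497)) (.node (.leaf 182) (.leaf 758))) (.node (.node (.leaf 454) (.leaf 475)) (.leaf 406)))) (.node (.node (.node (.node (.leaf 437) (.leaf 341)) (.node (.leaf 163) (.leaf 571))) (.node (.node (.leaf 308) (.leaf 445)) (.node (.leaf 247) (.leaf 793)))) (.node (.node (.node (.leaf 53) (.leaf 902)) (.node (.leaf 855) (.leaf 821))) (.node (.node (.leaf 124) (.leaf 884)) (.leaf 288))))) (.node (.node (.node (.node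 (.node (.leaf 10) (.leaf 329)) (.node (.leaf 159) (.leaf 898))) (.node (.node (.leaf 79) (.leaf 430)) (.node (.leaf 442) (.leaf 740)))) (.node (.node (.node (.leaf 43) (.leaf 503)) (.node (.leaf 931) (.leaf 631))) (.node (.node (.leaf 114) (.leaf 560)) (.leaf 828)))) (.node (.node (.node (.node (.leaf 496) (.leaf 354)) (.node (.leaf 172) (.leaf 591))) (.node (.node (.leaf 512) (.leaf 777)) (.node (.leaf 257) (.leaf 868)))) (.node (.node (.node (.leaf 61) (.leaf 404)) (.node (.leaf 217) (.leaf 683))) (.node (.node (.leaf 193) (.leaf 910)) (.leaf 864)))))) (.node (.node (.node (.node (.node (.node (.leaf 6) (.leaf 324)) (.node (.leaf 243) (.leaf 547))) (.node (.node (.leaf 73) (.leaf 423)) (.node (.leaf 641) (.leaf 719)))) (.node (.node (.node (.leaf 39) (.leaf 554)) (.node (.leaf 627) (.leaf 619))) (.node (.node (.leaf 110) (.leaf 531)) (.leaf 272)))) (.node (.node (.node (.node (.leaf 134) (.leaf 347)) (.node (.leaf 167) (.leaf 581))) (.node (.node (.leaf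 355) (.leaf 453)) (.node (.leaf 274) (.leaf 830)))) (.node (.node (.node (.leaf 57) (.leaf 399)) (.node (.leaf 211) (.leaf 783))) (.node (.node (.leaf 128) (.leaf 799)) (.leaf 296))))) (.node (.node (.node (.node (.node (.leaf 14) (.leaf 930)) (.node (.leaf 158) (.leaf 694))) (.node (.node (.leaf 319) (.leaf 718)) (.node (.leaf 390) (.leaf 765)))) (.node (.node (.node (.leaf 471) (.leaf 388)) (.node (.leaf 199) (.leaf 645))) (.node (.node (.leaf 932) (.leaf 500)) (.leaf 790)))) (.node (.node (.node (.node (.leaf 31) (.leaf 955)) (.node (.leaf 176) (.leaf 601))) (.node (.node (.leaf 100) (.leaf 617)) (.node (.leaf 425) (.leaf 917)))) (.node (.node (.node (.leaf 65) (.leaf 410)) (.node (.leaf 222) (.leaf 824))) (.node (.node (.leaf 139) (.leaf 533)) (.leaf 853)))))))) (.node (.node (.node (.node (.node (.node (.node (.node (.leaf 1) (.leaf 673)) (.node (.leaf 142) (.leaf 621))) (.node (.node (.leaf 68) (.leaf 951)) (.node (.leaf 226) (.leaf 813)))) (.node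 (.node (.node (.leaf 34) (.leaf 366)) (.node (.leaf 181) (.leaf 778))) (.node (.node (.leaf 732) (.leaf 474)) (.leaf 310)))) (.node (.node (.node (.node (.leaf 269) (.leaf 339)) (.node (.leaf 162) (.leaf 569))) (.node (.node (.leaf 901) (.leaf 443)) (.node (.leaf 245) (.leaf 877)))) (.node (.node (.node (.leaf 52) (.leaf 392)) (.node (.leaf 210) (.leaf 888))) (.node (.node (.leaf 938) (.leaf 507)) (.leaf 287))))) (.node (.node (.node (.node (.node (.leaf 9) (.leaf 689)) (.node (.leaf 151) (.leaf 555))) (.node (.node (.leaf 651) (.leaf 867)) (.node (.leaf 633) (.leaf 736)))) (.node (.node (.node (.leaf 42) (.leaf 382)) (.node (.leaf 192) (.leaf 629))) (.node (.node (.leaf 113) (.leaf 489)) (.leaf 276)))) (.node (.node (.node (.node (.leaf 238) (.leaf 959)) (.node (.leaf 171) (.leaf 588))) (.node (.node (.leaf 340) (.leaf 460)) (.node (.leaf 256) (.leaf 896)))) (.node (.node (.node (.leaf 60) (.leaf 504)) (.node (.leaf 216) (.leaf 680))) (.node (.node (.leaf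 133) (.leaf 826)) (.leaf 874)))))) (.node (.node (.node (.node (.node (.node (.leaf 5) (.leaf 323)) (.node (.leaf 432) (.leaf 570))) (.node (.node (.leaf 72) (.leaf 688)) (.node (.leaf 328) (.leaf 943)))) (.node (.node (.node (.leaf 38) (.leaf 634)) (.node (.leaf 187) (.leaf 615))) (.node (.node (.leaf 109) (.leaf 519)) (.leaf 270)))) (.node (.node (.node (.node (.leaf 485) (.leaf 345)) (.node (.leaf 166) (.leaf 579))) (.node (.node (.leaf 748) (.leaf 544)) (.node (.leaf 921) (.leaf 958)))) (.node (.node (.node (.leaf 56) (.leaf 398)) (.node (.leaf 761) (.leaf 666))) (.node (.node (.leaf 127) (.leaf 514)) (.leaf 293))))) (.node (.node (.node (.node (.node (.leaf 13) (.leaf 334)) (.node (.leaf 157) (.leaf 862))) (.node (.node (.leaf 457) (.leaf 436)) (.node (.leaf 623) (.leaf 804)))) (.node (.node (.node (.leaf 739) (.leaf 387)) (.node (.leaf 198) (.leaf 643))) (.node (.node (.leaf 117) (.leaf 499)) (.leaf 281)))) (.node (.node (.node (.node (.leaf 464)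 (.leaf 807)) (.node (.leaf 175) (.leaf 770))) (.node (.node (.leaf 99) (.leaf 759)) (.node (.leaf 260) (.leaf 904)))) (.node (.node (.node (.leaf 64) (.leaf 409)) (.node (.leaf 221) (.leaf 695))) (.node (.node (.leaf 458) (.leaf 530)) (.leaf 309))))))) (.node (.node (.node (.node (.node (.node (.node (.leaf 3) (.leaf 320)) (.node (.leaf 887) (.leaf 546))) (.node (.node (.leaf 70) (.leaf 498)) (.node (.leaf 881) (.leaf 709)))) (.node (.node (.node (.leaf 36) (.leaf 372)) (.node (.leaf 431) (.leaf 611))) (.node (.node (.leaf 107) (.leaf 477)) (.leaf 773)))) (.node (.node (.node (.node (.leaf 452) (.leaf 342)) (.node (.leaf 164) (.leaf 607))) (.node (.node (.leaf 212) (.leaf 448)) (.node (.leaf 248) (.leaf 794)))) (.node (.node (.node (.leaf 54) (.leaf 885)) (.node (.leaf 206) (.leaf 655))) (.node (.node (.leaf 125) (.leaf 511)) (.leaf 291))))) (.node (.node (.node (.node (.node (.leaf 11) (.leaf 330)) (.node (.leaf 947) (.leaf 848))) (.node (.node (.leaf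 369) (.leaf 440)) (.node (.leaf 529) (.leaf 838)))) (.node (.node (.node (.leaf 44) (.leaf 766)) (.node (.leaf 583) (.leaf 706))) (.node (.node (.leaf 115) (.leaf 809)) (.leaf 517)))) (.node (.node (.node (.node (.leaf 378) (.leaf 356)) (.node (.leaf 173) (.leaf 595))) (.node (.node (.leaf 411) (.leaf 897)) (.node (.leaf 258) (.leaf 922)))) (.node (.node (.node (.leaf 62) (.leaf 405)) (.node (.leaf 597) (.leaf 882))) (.node (.node (.leaf 927) (.leaf 552)) (.leaf 304)))))) (.node (.node (.node (.node (.node (.node (.leaf 7) (.leaf 325)) (.node (.leaf 476) (.leaf 549))) (.node (.node (.leaf 74) (.leaf 424)) (.node (.leaf 233) (.leaf 861)))) (.node (.node (.node (.leaf 40) (.leaf 908)) (.node (.leaf 924) (.leaf 620))) (.node (.node (.leaf 111) (.leaf 928)) (.leaf 273)))) (.node (.node (.node (.node (.leaf 143) (.leaf 348)) (.node (.leaf 916) (.leaf 914))) (.node (.node (.leaf 290) (.leaf 956)) (.node (.leaf 254) (.leaf 842)))) (.node (.node (.node (.leaf 58)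 (.leaf 482)) (.node (.leaf 723) (.leaf 674))) (.node (.node (.leaf 699) (.leaf 869)) (.leaf 297))))) (.node (.node (.node (.node (.node (.leaf 376) (.leaf 421)) (.node (.leaf 878) (.leaf 716))) (.node (.node (.leaf 385) (.leaf 473)) (.node (.leaf 538) (.leaf 776)))) (.node (.node (.node (.leaf 50) (.leaf 389)) (.node (.leaf 200) (.leaf 646))) (.node (.node (.leaf 893) (.leaf 575)) (.leaf 734)))) (.node (.node (.node (.node (.leaf 32) (.leaf 362)) (.node (.leaf 271) (.leaf 603))) (.node (.node (.leaf 101) (.leaf 749)) (.node (.leaf 792) (.leaf 946)))) (.node (.node (.node (.leaf 66) (.leaf 412)) (.node (.leaf 223) (.leaf 744))) (.node (.node (.leaf 140) (.leaf 872)) (.leaf 871)))))))))) (.node (.node (.node (.node (.node (.node (.node (.node (.node (.node (.leaf 30) (.leaf 313)) (.node (.leaf 140) (.leaf 682))) (.node (.node (.leaf 66) (.leaf 412)) (.node (.leaf 223) (.leaf 796)))) (.node (.node (.node (.leaf 32) (.leaf 362)) (.node (.leaf 877) (.leaf 604)))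 (.node (.node (.leaf 101) (.leaf 857)) (.leaf 899)))) (.node (.node (.node (.node (.leaf 395) (.leaf 337)) (.node (.leaf 331) (.leaf 814))) (.node (.node (.leaf 186) (.leaf 440)) (.node (.leaf 243) (.leaf 783)))) (.node (.node (.node (.leaf 50) (.leaf 389)) (.node (.leaf 588) (.leaf 647))) (.node (.node (.leaf 616) (.leaf 502)) (.leaf 744))))) (.node (.node (.node (.node (.node (.leaf 7) (.leaf 325)) (.node (.leaf 149) (.leaf 552))) (.node (.node (.leaf 514) (.leaf 426)) (.node (.leaf 233) (.leaf 724)))) (.node (.node (.node (.leaf 40) (.leaf 469)) (.node (.leaf 432) (.leaf 713))) (.node (.node (.leaf 111) (.leaf 485)) (.leaf 274)))) (.node (.node (.node (.node (.leaf 443) (.leaf 727)) (.node (.leaf 819) (.leaf 695))) (.node (.node (.leaf 684) (.leaf 950)) (.node (.leaf 254) (.leaf 892)))) (.node (.node (.node (.leaf 58) (.leaf 481)) (.node (.leaf 938) (.leaf 674))) (.node (.node (.leaf 923) (.leaf 521)) (.leaf 297)))))) (.node (.node (.node (.node (.node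 (.node (.leaf 3) (.leaf 320)) (.node (.leaf 441) (.leaf 873))) (.node (.node (.leaf 70) (.leaf 419)) (.node (.leaf 281) (.leaf 710)))) (.node (.node (.node (.leaf 36) (.leaf 370)) (.node (.leaf 605) (.leaf 612))) (.node (.node (.leaf 107) (.leaf 477)) (.leaf 863)))) (.node (.node (.node (.node (.leaf 253) (.leaf 342)) (.node (.leaf 164) (.leaf 574))) (.node (.node (.leaf 219) (.leaf 448)) (.node (.leaf 248) (.leaf 837)))) (.node (.node (.node (.leaf 54) (.leaf 396)) (.node (.leaf 776) (.leaf 770))) (.node (.node (.leaf 125) (.leaf 511)) (.leaf 291))))) (.node (.node (.node (.node (.node (.leaf 11) (.leaf 330)) (.node (.leaf 646) (.leaf 561))) (.node (.node (.leaf 569) (.leaf 883)) (.node (.leaf 629) (.leaf 750)))) (.node (.node (.node (.leaf 44) (.leaf 385)) (.node (.leaf 952) (.leaf 637))) (.node (.node (.leaf 115) (.leaf 771)) (.leaf 623)))) (.node (.node (.node (.node (.leaf 334) (.leaf 356)) (.node (.leaf 173) (.leaf 839))) (.node (.node (.leaf 225)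 (.leaf 490)) (.node (.leaf 258) (.leaf 903)))) (.node (.node (.node (.leaf 62) (.leaf 406)) (.node (.leaf 375) (.leaf 687))) (.node (.node (.leaf 667) (.leaf 527)) (.leaf 847))))))) (.node (.node (.node (.node (.node (.node (.node (.leaf 1) (.leaf 316)) (.node (.leaf 142) (.leaf 572))) (.node (.node (.leaf 68) (.leaf 767)) (.node (.leaf 226) (.leaf 812)))) (.node (.node (.node (.leaf 34) (.leaf 866)) (.node (.leaf 181) (.leaf 804))) (.node (.node (.leaf 851) (.leaf 474)) (.leaf 518)))) (.node (.node (.node (.node (.leaf 436) (.leaf 339)) (.node (.leaf 162) (.leaf 570))) (.node (.node (.leaf 232) (.leaf 747)) (.node (.leaf 559) (.leaf 792)))) (.node (.node (.node (.leaf 52) (.leaf 417)) (.node (.leaf 935) (.leaf 926))) (.node (.node (.leaf 748) (.leaf 550)) (.leaf 287))))) (.node (.node (.node (.node (.node (.leaf 9) (.leaf 328)) (.node (.leaf 878) (.leaf 555))) (.node (.node (.leaf 78) (.leaf 916)) (.node (.leaf 945) (.leaf 737)))) (.node (.node (.node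 (.leaf 42) (.leaf 435)) (.node (.leaf 307) (.leaf 630))) (.node (.node (.leaf 113) (.leaf 848)) (.leaf 276)))) (.node (.node (.node (.node (.leaf 453) (.leaf 924)) (.node (.leaf 171) (.leaf 589))) (.node (.node (.leaf 540) (.leaf 460)) (.node (.leaf 256) (.leaf 867)))) (.node (.node (.node (.leaf 60) (.leaf 725)) (.node (.leaf 216) (.leaf 681))) (.node (.node (.leaf 133) (.leaf 868)) (.leaf 344)))))) (.node (.node (.node (.node (.node (.node (.leaf 5) (.leaf 323)) (.node (.leaf 856) (.leaf 546))) (.node (.node (.leaf 72) (.leaf 825)) (.node (.leaf 602) (.leaf 718)))) (.node (.node (.node (.leaf 38) (.leaf 930)) (.node (.leaf 187) (.leaf 617))) (.node (.node (.leaf 109) (.leaf 879)) (.leaf 270)))) (.node (.node (.node (.node (.leaf 193) (.leaf 346)) (.node (.leaf 166) (.leaf 580))) (.node (.node (.leaf 299) (.leaf 452)) (.node (.leaf 365) (.leaf 889)))) (.node (.node (.node (.leaf 56) (.leaf 398)) (.node (.leaf 210) (.leaf 782))) (.node (.node (.leaf 127)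 (.leaf 515)) (.leaf 295))))) (.node (.node (.node (.node (.node (.leaf 13) (.leaf 377)) (.node (.leaf 157) (.leaf 774))) (.node (.node (.leaf 260) (.leaf 751)) (.node (.leaf 818) (.leaf 779)))) (.node (.node (.node (.leaf 749) (.leaf 387)) (.node (.leaf 198) (.leaf 644))) (.node (.node (.leaf 117) (.leaf 499)) (.leaf 446)))) (.node (.node (.node (.node (.leaf 376) (.leaf 549)) (.node (.leaf 175) (.leaf 599))) (.node (.node (.leaf 99) (.leaf 806)) (.node (.leaf 261) (.leaf 934)))) (.node (.node (.node (.leaf 64) (.leaf 409)) (.node (.leaf 221) (.leaf 700))) (.node (.node (.leaf 735) (.leaf 532)) (.leaf 309)))))))) (.node (.node (.node (.node (.node (.node (.node (.node (.leaf 0) (.leaf 595)) (.node (.leaf 141) (.leaf 537))) (.node (.node (.leaf 67) (.leaf 719)) (.node (.leaf 224) (.leaf 791)))) (.node (.node (.node (.leaf 33) (.leaf 364)) (.node (.leaf 180) (.leaf 606))) (.node (.node (.leaf 489) (.leaf 473)) (.leaf 853)))) (.node (.node (.node (.node (.leaf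 415) (.leaf 338)) (.node (.leaf 161) (.leaf 568))) (.node (.node (.leaf 317) (.leaf 442)) (.node (.leaf 244) (.leaf 795)))) (.node (.node (.node (.leaf 51) (.leaf 957)) (.node (.leaf 693) (.leaf 913))) (.node (.node (.leaf 213) (.leaf 672)) (.leaf 865))))) (.node (.node (.node (.node (.node (.leaf 8) (.leaf 410)) (.node (.leaf 150) (.leaf 553))) (.node (.node (.leaf 888) (.leaf 886)) (.node (.leaf 234) (.leaf 733)))) (.node (.node (.node (.leaf 41) (.leaf 381)) (.node (.leaf 191) (.leaf 628))) (.node (.node (.leaf 112) (.leaf 642)) (.leaf 275)))) (.node (.node (.node (.node (.leaf 529) (.leaf 679)) (.node (.leaf 170) (.leaf 831))) (.node (.node (.leaf 288) (.leaf 746)) (.node (.leaf 255) (.leaf 855)))) (.node (.node (.node (.leaf 59) (.leaf 445)) (.node (.leaf 215) (.leaf 786))) (.node (.node (.leaf 132) (.leaf 714)) (.leaf 355)))))) (.node (.node (.node (.node (.node (.node (.leaf 4) (.leaf 321)) (.node (.leaf 190) (.leaf 944))) (.node (.node (.leaf 71)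 (.leaf 420)) (.node (.leaf 333) (.leaf 826)))) (.node (.node (.node (.leaf 37) (.leaf 371)) (.node (.leaf 685) (.leaf 614))) (.node (.node (.leaf 108) (.leaf 600)) (.leaf 269)))) (.node (.node (.node (.node (.leaf 484) (.leaf 343)) (.node (.leaf 165) (.leaf 577))) (.node (.node (.leaf 123) (.leaf 618)) (.node (.leaf 849) (.leaf 917)))) (.node (.node (.node (.leaf 55) (.leaf 397)) (.node (.leaf 655) (.leaf 880))) (.node (.node (.leaf 126) (.leaf 513)) (.leaf 292))))) (.node (.node (.node (.node (.node (.leaf 12) (.leaf 332)) (.node (.leaf 156) (.leaf 579))) (.node (.node (.leaf 492) (.leaf 503)) (.node (.leaf 279) (.leaf 756)))) (.node (.node (.node (.leaf 620) (.leaf 386)) (.node (.leaf 699) (.leaf 640))) (.node (.node (.leaf 116) (.leaf 497)) (.leaf 280)))) (.node (.node (.node (.node (.leaf 578) (.leaf 662)) (.node (.leaf 174) (.leaf 659))) (.node (.node (.leaf 98) (.leaf 465)) (.node (.leaf 259) (.leaf 891)))) (.node (.node (.node (.leaf 63) (.leaf 408))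 (.node (.leaf 220) (.leaf 694))) (.node (.node (.leaf 405) (.leaf 528)) (.leaf 931))))))) (.node (.node (.node (.node (.node (.node (.node (.leaf 2) (.leaf 318)) (.node (.leaf 200) (.leaf 949))) (.node (.node (.leaf 69) (.leaf 902)) (.node (.leaf 507) (.leaf 708)))) (.node (.node (.node (.leaf 35) (.leaf 634)) (.node (.leaf 183) (.leaf 757))) (.node (.node (.leaf 106) (.leaf 475)) (.leaf 533)))) (.node (.node (.node (.node (.leaf 451) (.leaf 341)) (.node (.leaf 163) (.leaf 778))) (.node (.node (.leaf 723) (.leaf 790)) (.node (.leaf 247) (.leaf 793)))) (.node (.node (.node (.leaf 53) (.leaf 925)) (.node (.leaf 763) (.leaf 775))) (.node (.node (.leaf 124) (.leaf 510)) (.leaf 290))))) (.node (.node (.node (.node (.node (.leaf 10) (.leaf 329)) (.node (.leaf 182) (.leaf 907))) (.node (.node (.leaf 79) (.leaf 551)) (.node (.leaf 237) (.leaf 753)))) (.node (.node (.node (.leaf 43) (.leaf 833)) (.node (.leaf 547) (.leaf 813))) (.node (.node (.leaf 114) (.leaf 711))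 (.leaf 486)))) (.node (.node (.node (.node (.leaf 554) (.leaf 354)) (.node (.leaf 172) (.leaf 591))) (.node (.node (.leaf 895) (.leaf 842)) (.node (.leaf 257) (.leaf 870)))) (.node (.node (.node (.leaf 61) (.leaf 404)) (.node (.leaf 660) (.leaf 683))) (.node (.node (.leaf 192) (.leaf 638)) (.leaf 303)))))) (.node (.node (.node (.node (.node (.node (.leaf 6) (.leaf 324)) (.node (.leaf 430) (.leaf 548))) (.node (.node (.leaf 73) (.leaf 423)) (.node (.leaf 308) (.leaf 896)))) (.node (.node (.node (.leaf 39) (.leaf 424)) (.node (.leaf 353) (.leaf 619))) (.node (.node (.leaf 110) (.leaf 576)) (.leaf 272)))) (.node (.node (.node (.node (.leaf 201) (.leaf 347)) (.node (.leaf 429) (.leaf 601))) (.node (.node (.leaf 822) (.leaf 454)) (.node (.leaf 467) (.leaf 840)))) (.node (.node (.node (.leaf 57) (.leaf 531)) (.node (.leaf 211) (.leaf 893))) (.node (.node (.leaf 197) (.leaf 519)) (.leaf 296))))) (.node (.node (.node (.node (.node (.leaf 14) (.leaf 688)) (.node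 (.leaf 158) (.leaf 943))) (.node (.node (.leaf 584) (.leaf 803)) (.node (.leaf 621) (.leaf 766)))) (.node (.node (.node (.leaf 49) (.leaf 388)) (.node (.leaf 199) (.leaf 645))) (.node (.node (.leaf 669) (.leaf 500)) (.leaf 709)))) (.node (.node (.node (.node (.leaf 31) (.leaf 661)) (.node (.leaf 176) (.leaf 641))) (.node (.node (.leaf 100) (.leaf 722)) (.node (.leaf 808) (.leaf 937)))) (.node (.node (.node (.leaf 65) (.leaf 411)) (.node (.leaf 222) (.leaf 726))) (.node (.node (.leaf 139) (.leaf 922)) (.leaf 427))))))))) (.node (.node (.node (.node (.node (.node (.node (.node (.node (.leaf 45) (.leaf 363)) (.node (.leaf 382) (.leaf 754))) (.node (.node (.leaf 431) (.leaf 413)) (.node (.leaf 769) (.leaf 704)))) (.node (.node (.node (.leaf 627) (.leaf 800)) (.node (.leaf 178) (.leaf 953))) (.node (.node (.leaf 103) (.leaf 472)) (.leaf 264)))) (.node (.node (.node (.node (.leaf 16) (.leaf 797)) (.node (.leaf 444) (.leaf 650))) (.node (.node (.leaf 85) (.leaf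 488)) (.node (.leaf 959) (.leaf 785)))) (.node (.node (.node (.leaf 120) (.leaf 390)) (.node (.leaf 202) (.leaf 648))) (.node (.node (.leaf 622) (.leaf 505)) (.leaf 285))))) (.node (.node (.node (.node (.node (.leaf 249) (.leaf 326)) (.node (.leaf 948) (.leaf 624))) (.node (.node (.leaf 76) (.leaf 871)) (.node (.leaf 639) (.leaf 900)))) (.node (.node (.node (.leaf 530) (.leaf 380)) (.node (.leaf 508) (.leaf 752))) (.node (.node (.leaf 690) (.leaf 517)) (.leaf 745)))) (.node (.node (.node (.node (.leaf 24) (.leaf 350)) (.node (.leaf 169) (.leaf 585))) (.node (.node (.leaf 93) (.leaf 457)) (.node (.leaf 345) (.leaf 921)))) (.node (.node (.node (.leaf 567) (.leaf 401)) (.node (.leaf 214) (.leaf 677))) (.node (.node (.leaf 131) (.leaf 523)) (.leaf 298)))))) (.node (.node (.node (.node (.node (.node (.leaf 155) (.leaf 656)) (.node (.leaf 145) (.leaf 544))) (.node (.node (.leaf 742) (.leaf 575)) (.node (.leaf 229) (.leaf 809)))) (.node (.node (.node (.leaf 282)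 (.leaf 478)) (.node (.leaf 185) (.leaf 817))) (.node (.node (.leaf 305) (.leaf 933)) (.leaf 268)))) (.node (.node (.node (.node (.leaf 20) (.leaf 403)) (.node (.leaf 536) (.leaf 928))) (.node (.node (.leaf 89) (.leaf 449)) (.node (.leaf 250) (.leaf 821)))) (.node (.node (.node (.leaf 633) (.leaf 940)) (.node (.leaf 208) (.leaf 807))) (.node (.node (.leaf 705) (.leaf 512)) (.leaf 740))))) (.node (.node (.node (.node (.node (.leaf 160) (.leaf 909)) (.node (.leaf 154) (.leaf 562))) (.node (.node (.leaf 81) (.leaf 434)) (.node (.leaf 239) (.leaf 852)))) (.node (.node (.node (.leaf 46) (.leaf 810)) (.node (.leaf 196) (.leaf 798))) (.node (.node (.leaf 603) (.leaf 835)) (.leaf 680)))) (.node (.node (.node (.node (.leaf 28) (.leaf 592)) (.node (.leaf 698) (.leaf 597))) (.node (.node (.leaf 676) (.leaf 464)) (.node (.leaf 884) (.leaf 885)))) (.node (.node (.node (.leaf 587) (.leaf 407)) (.node (.leaf 301) (.leaf 691))) (.node (.node (.leaf 136) (.leaf 794)) (.leaf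 374))))))) (.node (.node (.node (.node (.node (.node (.node (.leaf 102) (.leaf 901)) (.node (.leaf 143) (.leaf 541))) (.node (.node (.leaf 864) (.leaf 416)) (.node (.leaf 227) (.leaf 707)))) (.node (.node (.node (.leaf 399) (.leaf 367)) (.node (.leaf 947) (.leaf 609))) (.node (.node (.leaf 105) (.leaf 841)) (.leaf 266)))) (.node (.node (.node (.node (.leaf 18) (.leaf 495)) (.node (.leaf 245) (.leaf 854))) (.node (.node (.leaf 87) (.leaf 504)) (.node (.leaf 273) (.leaf 912)))) (.node (.node (.node (.leaf 359) (.leaf 393)) (.node (.leaf 204) (.leaf 652))) (.node (.node (.leaf 304) (.leaf 509)) (.leaf 340))))) (.node (.node (.node (.node (.node (.leaf 294) (.leaf 351)) (.node (.leaf 152) (.leaf 557))) (.node (.node (.leaf 816) (.leaf 476)) (.node (.leaf 236) (.leaf 781)))) (.node (.node (.node (.leaf 470) (.leaf 383)) (.node (.leaf 194) (.leaf 658))) (.node (.node (.leaf 834) (.leaf 491)) (.leaf 277)))) (.node (.node (.node (.node (.leaf 26) (.leaf 459)) (.node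 (.leaf 777) (.leaf 610))) (.node (.node (.leaf 95) (.leaf 461)) (.node (.leaf 590) (.leaf 910)))) (.node (.node (.node (.leaf 820) (.leaf 815)) (.node (.leaf 850) (.leaf 827))) (.node (.node (.leaf 134) (.leaf 525)) (.leaf 302)))))) (.node (.node (.node (.node (.node (.node (.leaf 206) (.leaf 654)) (.node (.leaf 147) (.leaf 583))) (.node (.node (.leaf 738) (.leaf 784)) (.node (.leaf 231) (.leaf 951)))) (.node (.node (.node (.leaf 631) (.leaf 378)) (.node (.leaf 188) (.leaf 946))) (.node (.node (.leaf 151) (.leaf 482)) (.leaf 799)))) (.node (.node (.node (.node (.leaf 22) (.leaf 904)) (.node (.leaf 322) (.leaf 594))) (.node (.node (.leaf 91) (.leaf 496)) (.node (.leaf 252) (.leaf 845)))) (.node (.node (.node (.leaf 760) (.leaf 649)) (.node (.leaf 906) (.leaf 668))) (.node (.node (.leaf 129) (.leaf 516)) (.leaf 898))))) (.node (.node (.node (.node (.node (.leaf 369) (.leaf 335)) (.node (.leaf 929) (.leaf 564))) (.node (.node (.leaf 83) (.leaf 438)) (.node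 (.leaf 241) (.leaf 890)))) (.node (.node (.node (.leaf 48) (.leaf 915)) (.node (.leaf 801) (.leaf 762))) (.node (.node (.leaf 118) (.leaf 586)) (.leaf 283)))) (.node (.node (.node (.node (.leaf 593) (.leaf 360)) (.node (.leaf 696) (.leaf 914))) (.node (.node (.leaf 765) (.leaf 468)) (.node (.leaf 262) (.leaf 958)))) (.node (.node (.node (.leaf 494) (.leaf 689)) (.node (.leaf 805) (.leaf 701))) (.node (.node (.leaf 205) (.leaf 773)) (.leaf 310)))))))) (.node (.node (.node (.node (.node (.node (.node (.node (.leaf 74) (.leaf 315)) (.node (.leaf 874) (.leaf 538))) (.node (.node (.leaf 830) (.leaf 414)) (.node (.leaf 954) (.leaf 706)))) (.node (.node (.node (.leaf 636) (.leaf 657)) (.node (.leaf 787) (.leaf 607))) (.node (.node (.leaf 104) (.leaf 911)) (.leaf 265)))) (.node (.node (.node (.node (.leaf 17) (.leaf 653)) (.node (.leaf 939) (.leaf 894))) (.node (.node (.leaf 86) (.leaf 480)) (.node (.leaf 717) (.leaf 788)))) (.node (.node (.node (.leaf 615) (.leaf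 720)) (.node (.leaf 203) (.leaf 651))) (.node (.node (.leaf 122) (.leaf 881)) (.leaf 702))))) (.node (.node (.node (.node (.node (.leaf 271) (.leaf 327)) (.node (.leaf 556) (.leaf 875))) (.node (.node (.leaf 77) (.leaf 428)) (.node (.leaf 235) (.leaf 764)))) (.node (.node (.node (.leaf 715) (.leaf 447)) (.node (.leaf 927) (.leaf 663))) (.node (.node (.leaf 918) (.leaf 732)) (.leaf 692)))) (.node (.node (.node (.node (.leaf 25) (.leaf 352)) (.node (.leaf 611) (.leaf 613))) (.node (.node (.leaf 94) (.leaf 844)) (.node (.leaf 306) (.leaf 861)))) (.node (.node (.node (.leaf 121) (.leaf 402)) (.node (.leaf 829) (.leaf 712))) (.node (.node (.leaf 811) (.leaf 524)) (.leaf 300)))))) (.node (.node (.node (.node (.node (.node (.leaf 179) (.leaf 366)) (.node (.leaf 146) (.leaf 545))) (.node (.node (.leaf 543) (.leaf 421)) (.node (.leaf 230) (.leaf 716)))) (.node (.node (.node (.leaf 289) (.leaf 372)) (.node (.leaf 522) (.leaf 772))) (.node (.node (.leaf 846) (.leaf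 479)) (.leaf 558)))) (.node (.node (.node (.node (.leaf 21) (.leaf 731)) (.node (.leaf 741) (.leaf 862))) (.node (.node (.leaf 90) (.leaf 450)) (.node (.leaf 251) (.leaf 823)))) (.node (.node (.node (.leaf 626) (.leaf 498)) (.node (.leaf 209) (.leaf 755))) (.node (.node (.leaf 882) (.leaf 534)) (.leaf 373))))) (.node (.node (.node (.node (.node (.leaf 348) (.leaf 565)) (.node (.leaf 664) (.leaf 563))) (.node (.node (.leaf 82) (.leaf 437)) (.node (.leaf 240) (.leaf 758)))) (.node (.node (.node (.leaf 47) (.leaf 422)) (.node (.leaf 539) (.leaf 802))) (.node (.node (.leaf 736) (.leaf 506)) (.leaf 789)))) (.node (.node (.node (.node (.leaf 29) (.leaf 358)) (.node (.leaf 391) (.leaf 598))) (.node (.node (.leaf 728) (.leaf 466)) (.node (.leaf 319) (.leaf 905)))) (.node (.node (.node (.leaf 596) (.leaf 941)) (.node (.leaf 314) (.leaf 832))) (.node (.node (.leaf 137) (.leaf 671)) (.leaf 936))))))) (.node (.node (.node (.node (.node (.node (.node (.leaf 128) (.leaf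 666)) (.node (.leaf 144) (.leaf 542))) (.node (.node (.leaf 217) (.leaf 418)) (.node (.leaf 228) (.leaf 734)))) (.node (.node (.node (.leaf 361) (.leaf 368)) (.node (.leaf 184) (.leaf 729))) (.node (.node (.leaf 932) (.leaf 670)) (.leaf 267)))) (.node (.node (.node (.node (.leaf 19) (.leaf 836)) (.node (.leaf 392) (.leaf 573))) (.node (.node (.leaf 88) (.leaf 956)) (.node (.leaf 838) (.leaf 859)))) (.node (.node (.node (.leaf 167) (.leaf 394)) (.node (.leaf 207) (.leaf 761))) (.node (.node (.leaf 768) (.leaf 625)) (.leaf 860))))) (.node (.node (.node (.node (.node (.leaf 312) (.leaf 487)) (.node (.leaf 153) (.leaf 560))) (.node (.node (.leaf 80) (.leaf 433)) (.node (.leaf 238) (.leaf 743)))) (.node (.node (.node (.leaf 730) (.leaf 384)) (.node (.leaf 195) (.leaf 635))) (.node (.node (.leaf 286) (.leaf 493)) (.leaf 278)))) (.node (.node (.node (.node (.leaf 27) (.leaf 581)) (.node (.leaf 675) (.leaf 673))) (.node (.node (.leaf 96) (.leaf 462)) (.node (.leaf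 571) (.leaf 872)))) (.node (.node (.node (.leaf 828) (.leaf 458)) (.node (.leaf 218) (.leaf 686))) (.node (.node (.leaf 135) (.leaf 526)) (.leaf 920)))))) (.node (.node (.node (.node (.node (.node (.leaf 97) (.leaf 357)) (.node (.leaf 148) (.leaf 955))) (.node (.node (.leaf 75) (.leaf 908)) (.node (.leaf 293) (.leaf 721)))) (.node (.node (.node (.leaf 697) (.leaf 379)) (.node (.leaf 189) (.leaf 739))) (.node (.node (.leaf 246) (.leaf 483)) (.leaf 780)))) (.node (.node (.node (.node (.leaf 23) (.leaf 349)) (.node (.leaf 168) (.leaf 582))) (.node (.node (.leaf 92) (.leaf 455)) (.node (.leaf 632) (.leaf 897)))) (.node (.node (.node (.leaf 138) (.leaf 400)) (.node (.leaf 212) (.leaf 678))) (.node (.node (.leaf 130) (.leaf 520)) (.leaf 843))))) (.node (.node (.node (.node (.node (.leaf 15) (.leaf 336)) (.node (.leaf 159) (.leaf 566))) (.node (.node (.leaf 84) (.leaf 439)) (.node (.leaf 242) (.leaf 876)))) (.node (.node (.node (.leaf 759) (.leaf 824)) (.node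 (.leaf 887) (.leaf 665))) (.node (.node (.leaf 119) (.leaf 501)) (.leaf 284)))) (.node (.node (.node (.node (.leaf 608) (.leaf 643)) (.node (.leaf 177) (.leaf 858))) (.node (.node (.leaf 463) (.leaf 471)) (.node (.leaf 263) (.leaf 942)))) (.node (.node (.node (.leaf 425) (.leaf 919)) (.node (.leaf 869) (.leaf 703))) (.node (.node (.leaf 456) (.leaf 535)) (.leaf 311))))))))))

/-- data -/
def lab3 : Trie (Word) := .node (.node (.node (.node (.node (.node (.node (.node (.node (.node (.node (.leaf ([])) (.leaf ([]))) (.node (.leaf ([])) (.leaf ([])))) (.node (.node (.leaf ([])) (.leaf ([]))) (.node (.leaf ([])) (.leaf ([]))))) (.node (.node (.node (.leaf ([])) (.leaf ([]))) (.node (.leaf ([])) (.leaf ([])))) (.node (.node (.leaf ([])) (.leaf ([]))) (.leaf ([]))))) (.node (.node (.node (.node (.leaf ([])) (.leaf ([]))) (.node (.leaf ([])) (.leaf ([])))) (.node (.node (.leaf ([])) (.leaf ([]))) (.node (.leaf ([])) (.leaf ([]))))) (.node (.node (.node (.leaf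 ([])) (.leaf ([]))) (.node (.leaf ([])) (.leaf ([])))) (.node (.node (.leaf ([])) (.leaf ([]))) (.leaf ([])))))) (.node (.node (.node (.node (.node (.leaf ([])) (.leaf ([]))) (.node (.leaf ([])) (.leaf ([])))) (.node (.node (.leaf ([])) (.leaf ([]))) (.node (.leaf ([])) (.leaf ([]))))) (.node (.node (.node (.leaf ([])) (.leaf ([]))) (.node (.leaf ([])) (.leaf ([])))) (.node (.node (.leaf ([])) (.leaf ([]))) (.leaf ([]))))) (.node (.node (.node (.node (.leaf ([])) (.leaf ([]))) (.node (.leaf ([])) (.leaf ([])))) (.node (.node (.leaf ([])) (.leaf ([]))) (.node (.leaf ([])) (.leaf ([]))))) (.node (.node (.node (.leaf ([])) (.leaf ([]))) (.node (.leaf ([])) (.leaf ([])))) (.node (.node (.leaf ([])) (.leaf ([]))) (.leaf ([]))))))) (.node (.node (.node (.node (.node (.node (.leaf ([])) (.leaf ([]))) (.node (.leaf ([])) (.leaf ([])))) (.node (.node (.leaf ([])) (.leaf ([]))) (.node (.leaf ([])) (.leaf ([]))))) (.node (.node (.node (.leaf ([])) (.leaf ([]))) (.node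 (.leaf ([])) (.leaf ([])))) (.node (.node (.leaf ([])) (.leaf ([]))) (.leaf ([]))))) (.node (.node (.node (.node (.leaf ([])) (.leaf ([]))) (.node (.leaf ([])) (.leaf ([])))) (.node (.node (.leaf ([])) (.leaf ([]))) (.node (.leaf ([])) (.leaf ([]))))) (.node (.node (.node (.leaf ([])) (.leaf ([]))) (.node (.leaf ([])) (.leaf ([])))) (.node (.node (.leaf ([])) (.leaf ([]))) (.leaf ([])))))) (.node (.node (.node (.node (.node (.leaf ([])) (.leaf ([]))) (.node (.leaf ([])) (.leaf ([])))) (.node (.node (.leaf ([])) (.leaf ([]))) (.node (.leaf ([])) (.leaf ([]))))) (.node (.node (.node (.leaf ([])) (.leaf ([]))) (.node (.leaf ([])) (.leaf ([])))) (.node (.node (.leaf ([])) (.leaf ([]))) (.leaf ([]))))) (.node (.node (.node (.node (.leaf ([])) (.leaf ([]))) (.node (.leaf ([])) (.leaf ([])))) (.node (.node (.leaf ([])) (.leaf ([]))) (.node (.leaf ([])) (.leaf ([]))))) (.node (.node (.node (.leaf ([])) (.leaf ([]))) (.node (.leaf ([])) (.leaf ([])))) (.node (.node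 (.leaf ([])) (.leaf ([]))) (.leaf ([])))))))) (.node (.node (.node (.node (.node (.node (.node (.leaf ([])) (.leaf ([]))) (.node (.leaf ([])) (.leaf ([])))) (.node (.node (.leaf ([])) (.leaf ([]))) (.node (.leaf ([])) (.leaf ([]))))) (.node (.node (.node (.leaf ([])) (.leaf ([]))) (.node (.leaf ([])) (.leaf ([])))) (.node (.node (.leaf ([])) (.leaf ([]))) (.leaf ([]))))) (.node (.node (.node (.node (.leaf ([])) (.leaf ([]))) (.node (.leaf ([])) (.leaf ([])))) (.node (.node (.leaf ([])) (.leaf ([]))) (.node (.leaf ([])) (.leaf ([]))))) (.node (.node (.node (.leaf ([])) (.leaf ([]))) (.node (.leaf ([])) (.leaf ([])))) (.node (.node (.leaf ([])) (.leaf ([]))) (.leaf ([])))))) (.node (.node (.node (.node (.node (.leaf ([])) (.leaf ([]))) (.node (.leaf ([])) (.leaf ([])))) (.node (.node (.leaf ([])) (.leaf ([]))) (.node (.leaf ([])) (.leaf ([]))))) (.node (.node (.node (.leaf ([])) (.leaf ([]))) (.node (.leaf ([])) (.leaf ([])))) (.node (.node (.leaf ([])) (.leaf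 ([]))) (.leaf ([]))))) (.node (.node (.node (.node (.leaf ([])) (.leaf ([]))) (.node (.leaf ([])) (.leaf ([])))) (.node (.node (.leaf ([])) (.leaf ([]))) (.node (.leaf ([])) (.leaf ([]))))) (.node (.node (.node (.leaf ([])) (.leaf ([]))) (.node (.leaf ([])) (.leaf ([])))) (.node (.node (.leaf ([])) (.leaf ([]))) (.leaf ([]))))))) (.node (.node (.node (.node (.node (.node (.leaf ([])) (.leaf ([]))) (.node (.leaf ([])) (.leaf ([])))) (.node (.node (.leaf ([])) (.leaf ([]))) (.node (.leaf ([])) (.leaf ([]))))) (.node (.node (.node (.leaf ([])) (.leaf ([]))) (.node (.leaf ([])) (.leaf ([])))) (.node (.node (.leaf ([])) (.leaf ([]))) (.leaf ([]))))) (.node (.node (.node (.node (.leaf ([])) (.leaf ([]))) (.node (.leaf ([])) (.leaf ([])))) (.node (.node (.leaf ([])) (.leaf ([]))) (.node (.leaf ([])) (.leaf ([]))))) (.node (.node (.node (.leaf ([])) (.leaf ([]))) (.node (.leaf ([])) (.leaf ([])))) (.node (.node (.leaf ([])) (.leaf ([]))) (.leaf ([])))))) (.node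 (.node (.node (.node (.node (.leaf ([])) (.leaf ([]))) (.node (.leaf ([])) (.leaf ([])))) (.node (.node (.leaf ([])) (.leaf ([]))) (.node (.leaf ([])) (.leaf ([]))))) (.node (.node (.node (.leaf ([])) (.leaf ([]))) (.node (.leaf ([])) (.leaf ([])))) (.node (.node (.leaf ([])) (.leaf ([]))) (.leaf ([]))))) (.node (.node (.node (.node (.leaf ([])) (.leaf ([]))) (.node (.leaf ([])) (.leaf ([])))) (.node (.node (.leaf ([])) (.leaf ([]))) (.node (.leaf ([])) (.leaf ([]))))) (.node (.node (.node (.leaf ([])) (.leaf ([]))) (.node (.leaf ([])) (.leaf ([])))) (.node (.node (.leaf ([])) (.leaf ([]))) (.leaf ([]))))))))) (.node (.node (.node (.node (.node (.node (.node (.node (.leaf ([])) (.leaf ([]))) (.node (.leaf ([])) (.leaf ([])))) (.node (.node (.leaf ([])) (.leaf ([]))) (.node (.leaf ([])) (.leaf ([]))))) (.node (.node (.node (.leaf ([])) (.leaf ([]))) (.node (.leaf ([])) (.leaf ([])))) (.node (.node (.leaf ([])) (.leaf ([]))) (.leaf ([]))))) (.node (.node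 (.node (.node (.leaf ([])) (.leaf ([]))) (.node (.leaf ([])) (.leaf ([])))) (.node (.node (.leaf ([])) (.leaf ([]))) (.node (.leaf ([])) (.leaf ([]))))) (.node (.node (.node (.leaf ([])) (.leaf ([]))) (.node (.leaf ([])) (.leaf ([])))) (.node (.node (.leaf ([])) (.leaf ([]))) (.leaf ([])))))) (.node (.node (.node (.node (.node (.leaf ([])) (.leaf ([]))) (.node (.leaf ([])) (.leaf ([])))) (.node (.node (.leaf ([])) (.leaf ([]))) (.node (.leaf ([])) (.leaf ([]))))) (.node (.node (.node (.leaf ([])) (.leaf ([]))) (.node (.leaf ([])) (.leaf ([])))) (.node (.node (.leaf ([])) (.leaf ([]))) (.leaf ([]))))) (.node (.node (.node (.node (.leaf ([])) (.leaf ([]))) (.node (.leaf ([])) (.leaf ([])))) (.node (.node (.leaf ([])) (.leaf ([]))) (.node (.leaf ([])) (.leaf ([]))))) (.node (.node (.node (.leaf ([])) (.leaf ([]))) (.node (.leaf ([])) (.leaf ([])))) (.node (.node (.leaf ([])) (.leaf ([]))) (.leaf ([]))))))) (.node (.node (.node (.node (.node (.node (.leaf ([]))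 (.leaf ([]))) (.node (.leaf ([])) (.leaf ([])))) (.node (.node (.leaf ([])) (.leaf ([]))) (.node (.leaf ([])) (.leaf ([]))))) (.node (.node (.node (.leaf ([])) (.leaf ([]))) (.node (.leaf ([])) (.leaf ([])))) (.node (.node (.leaf ([])) (.leaf ([]))) (.leaf ([]))))) (.node (.node (.node (.node (.leaf ([])) (.leaf ([]))) (.node (.leaf ([])) (.leaf ([])))) (.node (.node (.leaf ([])) (.leaf ([]))) (.node (.leaf ([])) (.leaf ([]))))) (.node (.node (.node (.leaf ([])) (.leaf ([]))) (.node (.leaf ([])) (.leaf ([])))) (.node (.node (.leaf ([])) (.leaf ([]))) (.leaf ([])))))) (.node (.node (.node (.node (.node (.leaf ([])) (.leaf ([]))) (.node (.leaf ([])) (.leaf ([])))) (.node (.node (.leaf ([])) (.leaf ([]))) (.node (.leaf ([])) (.leaf ([]))))) (.node (.node (.node (.leaf ([])) (.leaf ([]))) (.node (.leaf ([])) (.leaf ([])))) (.node (.node (.leaf ([])) (.leaf ([]))) (.leaf ([]))))) (.node (.node (.node (.node (.leaf ([])) (.leaf ([]))) (.node (.leaf ([])) (.leaf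 ([])))) (.node (.node (.leaf ([])) (.leaf ([]))) (.node (.leaf ([])) (.leaf ([]))))) (.node (.node (.node (.leaf ([])) (.leaf ([]))) (.node (.leaf ([])) (.leaf ([])))) (.node (.node (.leaf ([])) (.leaf ([]))) (.leaf ([])))))))) (.node (.node (.node (.node (.node (.node (.node (.leaf ([])) (.leaf ([]))) (.node (.leaf ([])) (.leaf ([])))) (.node (.node (.leaf ([])) (.leaf ([]))) (.node (.leaf ([])) (.leaf ([]))))) (.node (.node (.node (.leaf ([])) (.leaf ([]))) (.node (.leaf ([])) (.leaf ([])))) (.node (.node (.leaf ([])) (.leaf ([]))) (.leaf ([]))))) (.node (.node (.node (.node (.leaf ([])) (.leaf ([]))) (.node (.leaf ([])) (.leaf ([])))) (.node (.node (.leaf ([])) (.leaf ([]))) (.node (.leaf ([])) (.leaf ([]))))) (.node (.node (.node (.leaf ([])) (.leaf ([]))) (.node (.leaf ([])) (.leaf ([])))) (.node (.node (.leaf ([])) (.leaf ([]))) (.leaf ([])))))) (.node (.node (.node (.node (.node (.leaf ([])) (.leaf ([]))) (.node (.leaf ([])) (.leaf ([])))) (.node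 (.node (.leaf ([])) (.leaf ([]))) (.node (.leaf ([])) (.leaf ([]))))) (.node (.node (.node (.leaf ([])) (.leaf ([]))) (.node (.leaf ([])) (.leaf ([])))) (.node (.node (.leaf ([])) (.leaf ([]))) (.leaf ([]))))) (.node (.node (.node (.node (.leaf ([])) (.leaf ([]))) (.node (.leaf ([])) (.leaf ([])))) (.node (.node (.leaf ([])) (.leaf ([]))) (.node (.leaf ([])) (.leaf ([]))))) (.node (.node (.node (.leaf ([])) (.leaf ([]))) (.node (.leaf ([])) (.leaf ([])))) (.node (.node (.leaf ([])) (.leaf ([]))) (.leaf ([]))))))) (.node (.node (.node (.node (.node (.node (.leaf ([])) (.leaf ([]))) (.node (.leaf ([])) (.leaf ([])))) (.node (.node (.leaf ([])) (.leaf ([]))) (.node (.leaf ([])) (.leaf ([]))))) (.node (.node (.node (.leaf ([])) (.leaf ([]))) (.node (.leaf ([])) (.leaf ([])))) (.node (.node (.leaf ([])) (.leaf ([]))) (.leaf ([]))))) (.node (.node (.node (.node (.leaf ([])) (.leaf ([]))) (.node (.leaf ([])) (.leaf ([])))) (.node (.node (.leaf ([])) (.leaf ([])))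 (.node (.leaf ([])) (.leaf ([]))))) (.node (.node (.node (.leaf ([])) (.leaf ([]))) (.node (.leaf ([])) (.leaf ([])))) (.node (.node (.leaf ([])) (.leaf ([]))) (.leaf ([])))))) (.node (.node (.node (.node (.node (.leaf ([])) (.leaf ([]))) (.node (.leaf ([])) (.leaf ([])))) (.node (.node (.leaf ([])) (.leaf ([]))) (.node (.leaf ([])) (.leaf ([]))))) (.node (.node (.node (.leaf ([])) (.leaf ([]))) (.node (.leaf ([])) (.leaf ([])))) (.node (.node (.leaf ([])) (.leaf ([]))) (.leaf ([]))))) (.node (.node (.node (.node (.leaf ([])) (.leaf ([]))) (.node (.leaf ([])) (.leaf ([])))) (.node (.node (.leaf ([])) (.leaf ([]))) (.node (.leaf ([])) (.leaf ([]))))) (.node (.node (.node (.leaf ([])) (.leaf ([]))) (.node (.leaf ([])) (.leaf ([])))) (.node (.node (.leaf ([])) (.leaf ([]))) (.leaf ([])))))))))) (.node (.node (.node (.node (.node (.node (.node (.node (.node (.leaf ([])) (.leaf ([]))) (.node (.leaf ([])) (.leaf ([])))) (.node (.node (.leaf ([])) (.leaf ([])))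 (.node (.leaf ([])) (.leaf ([]))))) (.node (.node (.node (.leaf ([])) (.leaf ([]))) (.node (.leaf ([])) (.leaf ([])))) (.node (.node (.leaf ([])) (.leaf ([]))) (.leaf ([]))))) (.node (.node (.node (.node (.leaf ([])) (.leaf ([]))) (.node (.leaf ([])) (.leaf ([])))) (.node (.node (.leaf ([])) (.leaf ([]))) (.node (.leaf ([])) (.leaf ([]))))) (.node (.node (.node (.leaf ([])) (.leaf ([]))) (.node (.leaf ([])) (.leaf ([])))) (.node (.node (.leaf ([])) (.leaf ([]))) (.leaf ([])))))) (.node (.node (.node (.node (.node (.leaf ([])) (.leaf ([]))) (.node (.leaf ([])) (.leaf ([])))) (.node (.node (.leaf ([])) (.leaf ([]))) (.node (.leaf ([])) (.leaf ([]))))) (.node (.node (.node (.leaf ([])) (.leaf ([]))) (.node (.leaf ([])) (.leaf ([])))) (.node (.node (.leaf ([])) (.leaf ([]))) (.leaf ([]))))) (.node (.node (.node (.node (.leaf ([])) (.leaf ([]))) (.node (.leaf ([])) (.leaf ([])))) (.node (.node (.leaf ([])) (.leaf ([]))) (.node (.leaf ([])) (.leaf ([]))))) (.node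 (.node (.node (.leaf ([])) (.leaf ([]))) (.node (.leaf ([])) (.leaf ([])))) (.node (.node (.leaf ([])) (.leaf ([]))) (.leaf ([]))))))) (.node (.node (.node (.node (.node (.node (.leaf ([])) (.leaf ([]))) (.node (.leaf ([])) (.leaf ([])))) (.node (.node (.leaf ([])) (.leaf ([]))) (.node (.leaf ([])) (.leaf ([]))))) (.node (.node (.node (.leaf ([])) (.leaf ([]))) (.node (.leaf ([])) (.leaf ([])))) (.node (.node (.leaf ([])) (.leaf ([]))) (.leaf ([]))))) (.node (.node (.node (.node (.leaf ([])) (.leaf ([]))) (.node (.leaf ([])) (.leaf ([])))) (.node (.node (.leaf ([])) (.leaf ([]))) (.node (.leaf ([])) (.leaf ([]))))) (.node (.node (.node (.leaf ([])) (.leaf ([]))) (.node (.leaf ([])) (.leaf ([])))) (.node (.node (.leaf ([])) (.leaf ([]))) (.leaf ([])))))) (.node (.node (.node (.node (.node (.leaf ([])) (.leaf ([]))) (.node (.leaf ([])) (.leaf ([])))) (.node (.node (.leaf ([])) (.leaf ([]))) (.node (.leaf ([])) (.leaf ([]))))) (.node (.node (.node (.leaf ([]))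 (.leaf ([]))) (.node (.leaf ([])) (.leaf ([])))) (.node (.node (.leaf ([])) (.leaf ([]))) (.leaf ([]))))) (.node (.node (.node (.node (.leaf ([])) (.leaf ([]))) (.node (.leaf ([])) (.leaf ([])))) (.node (.node (.leaf ([])) (.leaf ([]))) (.node (.leaf ([])) (.leaf ([]))))) (.node (.node (.node (.leaf ([])) (.leaf ([]))) (.node (.leaf ([])) (.leaf ([])))) (.node (.node (.leaf ([])) (.leaf ([]))) (.leaf ([])))))))) (.node (.node (.node (.node (.node (.node (.node (.leaf ([])) (.leaf ([]))) (.node (.leaf ([])) (.leaf ([])))) (.node (.node (.leaf ([])) (.leaf ([]))) (.node (.leaf ([])) (.leaf ([]))))) (.node (.node (.node (.leaf ([])) (.leaf ([]))) (.node (.leaf ([])) (.leaf ([])))) (.node (.node (.leaf ([])) (.leaf ([]))) (.leaf ([]))))) (.node (.node (.node (.node (.leaf ([])) (.leaf ([]))) (.node (.leaf ([])) (.leaf ([])))) (.node (.node (.leaf ([])) (.leaf ([]))) (.node (.leaf ([])) (.leaf ([]))))) (.node (.node (.node (.leaf ([])) (.leaf ([]))) (.node (.leaf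 ([])) (.leaf ([])))) (.node (.node (.leaf ([])) (.leaf ([]))) (.leaf ([])))))) (.node (.node (.node (.node (.node (.leaf ([])) (.leaf ([]))) (.node (.leaf ([])) (.leaf ([])))) (.node (.node (.leaf ([])) (.leaf ([]))) (.node (.leaf ([])) (.leaf ([]))))) (.node (.node (.node (.leaf ([])) (.leaf ([]))) (.node (.leaf ([])) (.leaf ([])))) (.node (.node (.leaf ([])) (.leaf ([]))) (.leaf ([]))))) (.node (.node (.node (.node (.leaf ([])) (.leaf ([]))) (.node (.leaf ([])) (.leaf ([])))) (.node (.node (.leaf ([])) (.leaf ([]))) (.node (.leaf ([])) (.leaf ([]))))) (.node (.node (.node (.leaf ([])) (.leaf ([]))) (.node (.leaf ([])) (.leaf ([])))) (.node (.node (.leaf ([])) (.leaf ([]))) (.leaf ([]))))))) (.node (.node (.node (.node (.node (.node (.leaf ([])) (.leaf ([]))) (.node (.leaf ([])) (.leaf ([])))) (.node (.node (.leaf ([])) (.leaf ([]))) (.node (.leaf ([])) (.leaf ([]))))) (.node (.node (.node (.leaf ([])) (.leaf ([]))) (.node (.leaf ([])) (.leaf ([])))) (.node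 (.node (.leaf ([])) (.leaf ([]))) (.leaf ([]))))) (.node (.node (.node (.node (.leaf ([])) (.leaf ([]))) (.node (.leaf ([])) (.leaf ([])))) (.node (.node (.leaf ([])) (.leaf ([]))) (.node (.leaf ([])) (.leaf ([]))))) (.node (.node (.node (.leaf ([])) (.leaf ([]))) (.node (.leaf ([])) (.leaf ([])))) (.node (.node (.leaf ([])) (.leaf ([]))) (.leaf ([])))))) (.node (.node (.node (.node (.node (.leaf ([])) (.leaf ([]))) (.node (.leaf ([])) (.leaf ([])))) (.node (.node (.leaf ([])) (.leaf ([]))) (.node (.leaf ([])) (.leaf ([]))))) (.node (.node (.node (.leaf ([])) (.leaf ([]))) (.node (.leaf ([])) (.leaf ([])))) (.node (.node (.leaf ([])) (.leaf ([]))) (.leaf ([]))))) (.node (.node (.node (.node (.leaf ([])) (.leaf ([]))) (.node (.leaf ([])) (.leaf ([])))) (.node (.node (.leaf ([])) (.leaf ([]))) (.node (.leaf ([])) (.leaf ([]))))) (.node (.node (.node (.leaf ([])) (.leaf ([]))) (.node (.leaf ([])) (.leaf ([])))) (.node (.node (.leaf ([])) (.leaf ([]))) (.leaf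 ([]))))))))) (.node (.node (.node (.node (.node (.node (.node (.node (.leaf ([])) (.leaf ([]))) (.node (.leaf ([])) (.leaf ([])))) (.node (.node (.leaf ([])) (.leaf ([]))) (.node (.leaf ([])) (.leaf ([]))))) (.node (.node (.node (.leaf ([])) (.leaf ([]))) (.node (.leaf ([])) (.leaf ([])))) (.node (.node (.leaf ([])) (.leaf ([]))) (.leaf ([]))))) (.node (.node (.node (.node (.leaf ([])) (.leaf ([]))) (.node (.leaf ([])) (.leaf ([])))) (.node (.node (.leaf ([])) (.leaf ([]))) (.node (.leaf ([])) (.leaf ([]))))) (.node (.node (.node (.leaf ([])) (.leaf ([]))) (.node (.leaf ([])) (.leaf ([])))) (.node (.node (.leaf ([])) (.leaf ([]))) (.leaf ([])))))) (.node (.node (.node (.node (.node (.leaf ([])) (.leaf ([]))) (.node (.leaf ([])) (.leaf ([])))) (.node (.node (.leaf ([])) (.leaf ([]))) (.node (.leaf ([])) (.leaf ([]))))) (.node (.node (.node (.leaf ([])) (.leaf ([]))) (.node (.leaf ([])) (.leaf ([])))) (.node (.node (.leaf ([])) (.leaf ([]))) (.leaf ([])))))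 (.node (.node (.node (.node (.leaf ([])) (.leaf ([]))) (.node (.leaf ([])) (.leaf ([])))) (.node (.node (.leaf ([])) (.leaf ([]))) (.node (.leaf ([])) (.leaf ([]))))) (.node (.node (.node (.leaf ([])) (.leaf ([]))) (.node (.leaf ([])) (.leaf ([])))) (.node (.node (.leaf ([])) (.leaf ([]))) (.leaf ([]))))))) (.node (.node (.node (.node (.node (.node (.leaf ([])) (.leaf ([]))) (.node (.leaf ([])) (.leaf ([])))) (.node (.node (.leaf ([])) (.leaf ([]))) (.node (.leaf ([])) (.leaf ([]))))) (.node (.node (.node (.leaf ([])) (.leaf ([]))) (.node (.leaf ([])) (.leaf ([])))) (.node (.node (.leaf ([])) (.leaf ([]))) (.leaf ([]))))) (.node (.node (.node (.node (.leaf ([])) (.leaf ([]))) (.node (.leaf ([])) (.leaf ([])))) (.node (.node (.leaf ([])) (.leaf ([]))) (.node (.leaf ([])) (.leaf ([]))))) (.node (.node (.node (.leaf ([])) (.leaf ([]))) (.node (.leaf ([])) (.leaf ([])))) (.node (.node (.leaf ([])) (.leaf ([]))) (.leaf ([])))))) (.node (.node (.node (.node (.node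 (.leaf ([])) (.leaf ([]))) (.node (.leaf ([])) (.leaf ([])))) (.node (.node (.leaf ([])) (.leaf ([]))) (.node (.leaf ([])) (.leaf ([]))))) (.node (.node (.node (.leaf ([])) (.leaf ([]))) (.node (.leaf ([])) (.leaf ([])))) (.node (.node (.leaf ([])) (.leaf ([]))) (.leaf ([]))))) (.node (.node (.node (.node (.leaf ([])) (.leaf ([]))) (.node (.leaf ([])) (.leaf ([])))) (.node (.node (.leaf ([])) (.leaf ([]))) (.node (.leaf ([])) (.leaf ([]))))) (.node (.node (.node (.leaf ([])) (.leaf ([]))) (.node (.leaf ([])) (.leaf ([])))) (.node (.node (.leaf ([])) (.leaf ([]))) (.leaf ([])))))))) (.node (.node (.node (.node (.node (.node (.node (.leaf ([])) (.leaf ([]))) (.node (.leaf ([])) (.leaf ([])))) (.node (.node (.leaf ([])) (.leaf ([]))) (.node (.leaf ([])) (.leaf ([]))))) (.node (.node (.node (.leaf ([])) (.leaf ([]))) (.node (.leaf ([])) (.leaf ([])))) (.node (.node (.leaf ([])) (.leaf ([]))) (.leaf ([]))))) (.node (.node (.node (.node (.leaf ([])) (.leaf ([])))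 (.node (.leaf ([])) (.leaf ([])))) (.node (.node (.leaf ([])) (.leaf ([]))) (.node (.leaf ([])) (.leaf ([]))))) (.node (.node (.node (.leaf ([])) (.leaf ([]))) (.node (.leaf ([])) (.leaf ([])))) (.node (.node (.leaf ([])) (.leaf ([]))) (.leaf ([])))))) (.node (.node (.node (.node (.node (.leaf ([])) (.leaf ([]))) (.node (.leaf ([])) (.leaf ([])))) (.node (.node (.leaf ([])) (.leaf ([]))) (.node (.leaf ([])) (.leaf ([]))))) (.node (.node (.node (.leaf ([])) (.leaf ([]))) (.node (.leaf ([])) (.leaf ([])))) (.node (.node (.leaf ([])) (.leaf ([]))) (.leaf ([]))))) (.node (.node (.node (.node (.leaf ([])) (.leaf ([]))) (.node (.leaf ([])) (.leaf ([])))) (.node (.node (.leaf ([])) (.leaf ([]))) (.node (.leaf ([])) (.leaf ([]))))) (.node (.node (.node (.leaf ([])) (.leaf ([]))) (.node (.leaf ([])) (.leaf ([])))) (.node (.node (.leaf ([])) (.leaf ([]))) (.leaf ([]))))))) (.node (.node (.node (.node (.node (.node (.leaf ([])) (.leaf ([]))) (.node (.leaf ([])) (.leaf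 ([])))) (.node (.node (.leaf ([])) (.leaf ([]))) (.node (.leaf ([])) (.leaf ([]))))) (.node (.node (.node (.leaf ([])) (.leaf ([]))) (.node (.leaf ([])) (.leaf ([])))) (.node (.node (.leaf ([])) (.leaf ([]))) (.leaf ([]))))) (.node (.node (.node (.node (.leaf ([])) (.leaf ([]))) (.node (.leaf ([])) (.leaf ([])))) (.node (.node (.leaf ([])) (.leaf ([]))) (.node (.leaf ([])) (.leaf ([]))))) (.node (.node (.node (.leaf ([])) (.leaf ([]))) (.node (.leaf ([])) (.leaf ([])))) (.node (.node (.leaf ([])) (.leaf ([]))) (.leaf ([])))))) (.node (.node (.node (.node (.node (.leaf ([])) (.leaf ([]))) (.node (.leaf ([])) (.leaf ([])))) (.node (.node (.leaf ([])) (.leaf ([]))) (.node (.leaf ([])) (.leaf ([]))))) (.node (.node (.node (.leaf ([])) (.leaf ([]))) (.node (.leaf ([])) (.leaf ([])))) (.node (.node (.leaf ([])) (.leaf ([]))) (.leaf ([]))))) (.node (.node (.node (.node (.leaf ([])) (.leaf ([]))) (.node (.leaf ([])) (.leaf ([])))) (.node (.node (.leaf ([])) (.leaf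 ([]))) (.node (.leaf ([])) (.leaf ([]))))) (.node (.node (.node (.leaf ([])) (.leaf ([]))) (.node (.leaf ([])) (.leaf ([])))) (.node (.node (.leaf ([])) (.leaf ([]))) (.leaf ([]))))))))))) (.node (.node (.node (.node (.node (.node (.node (.node (.node (.node (.leaf ([])) (.leaf ([]))) (.node (.leaf ([])) (.leaf ([])))) (.node (.node (.leaf ([])) (.leaf ([]))) (.node (.leaf ([])) (.leaf ([]))))) (.node (.node (.node (.leaf ([])) (.leaf ([]))) (.node (.leaf ([])) (.leaf ([])))) (.node (.node (.leaf ([])) (.leaf ([]))) (.leaf ([]))))) (.node (.node (.node (.node (.leaf ([])) (.leaf ([]))) (.node (.leaf ([])) (.leaf ([])))) (.node (.node (.leaf ([])) (.leaf ([]))) (.node (.leaf ([])) (.leaf ([]))))) (.node (.node (.node (.leaf ([])) (.leaf ([]))) (.node (.leaf ([])) (.leaf ([])))) (.node (.node (.leaf ([])) (.leaf ([]))) (.leaf ([])))))) (.node (.node (.node (.node (.node (.leaf ([])) (.leaf ([]))) (.node (.leaf ([])) (.leaf ([])))) (.node (.node (.leaf ([]))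 (.leaf ([]))) (.node (.leaf ([])) (.leaf ([]))))) (.node (.node (.node (.leaf ([])) (.leaf ([]))) (.node (.leaf ([])) (.leaf ([])))) (.node (.node (.leaf ([])) (.leaf ([]))) (.leaf ([]))))) (.node (.node (.node (.node (.leaf ([])) (.leaf ([]))) (.node (.leaf ([])) (.leaf ([])))) (.node (.node (.leaf ([])) (.leaf ([]))) (.node (.leaf ([])) (.leaf ([]))))) (.node (.node (.node (.leaf ([])) (.leaf ([]))) (.node (.leaf ([])) (.leaf ([])))) (.node (.node (.leaf ([])) (.leaf ([]))) (.leaf ([]))))))) (.node (.node (.node (.node (.node (.node (.leaf ([])) (.leaf ([]))) (.node (.leaf ([])) (.leaf ([])))) (.node (.node (.leaf ([])) (.leaf ([]))) (.node (.leaf ([])) (.leaf ([]))))) (.node (.node (.node (.leaf ([])) (.leaf ([]))) (.node (.leaf ([])) (.leaf ([])))) (.node (.node (.leaf ([])) (.leaf ([]))) (.leaf ([]))))) (.node (.node (.node (.node (.leaf ([])) (.leaf ([]))) (.node (.leaf ([])) (.leaf ([])))) (.node (.node (.leaf ([])) (.leaf ([]))) (.node (.leaf ([]))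 (.leaf ([]))))) (.node (.node (.node (.leaf ([])) (.leaf ([]))) (.node (.leaf ([])) (.leaf ([])))) (.node (.node (.leaf ([])) (.leaf ([]))) (.leaf ([])))))) (.node (.node (.node (.node (.node (.leaf ([])) (.leaf ([]))) (.node (.leaf ([])) (.leaf ([])))) (.node (.node (.leaf ([])) (.leaf ([]))) (.node (.leaf ([])) (.leaf ([]))))) (.node (.node (.node (.leaf ([])) (.leaf ([]))) (.node (.leaf ([])) (.leaf ([])))) (.node (.node (.leaf ([])) (.leaf ([]))) (.leaf ([]))))) (.node (.node (.node (.node (.leaf ([])) (.leaf ([]))) (.node (.leaf ([])) (.leaf ([])))) (.node (.node (.leaf ([])) (.leaf ([]))) (.node (.leaf ([])) (.leaf ([]))))) (.node (.node (.node (.leaf ([])) (.leaf ([]))) (.node (.leaf ([])) (.leaf ([])))) (.node (.node (.leaf ([])) (.leaf ([]))) (.leaf ([])))))))) (.node (.node (.node (.node (.node (.node (.node (.leaf ([])) (.leaf ([]))) (.node (.leaf ([])) (.leaf ([])))) (.node (.node (.leaf ([])) (.leaf ([]))) (.node (.leaf ([])) (.leaf ([])))))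 (.node (.node (.node (.leaf ([])) (.leaf ([]))) (.node (.leaf ([])) (.leaf ([])))) (.node (.node (.leaf ([])) (.leaf ([]))) (.leaf ([]))))) (.node (.node (.node (.node (.leaf ([])) (.leaf ([]))) (.node (.leaf ([])) (.leaf ([])))) (.node (.node (.leaf ([])) (.leaf ([]))) (.node (.leaf ([])) (.leaf ([]))))) (.node (.node (.node (.leaf ([])) (.leaf ([]))) (.node (.leaf ([])) (.leaf ([])))) (.node (.node (.leaf ([])) (.leaf ([]))) (.leaf ([])))))) (.node (.node (.node (.node (.node (.leaf ([])) (.leaf ([]))) (.node (.leaf ([])) (.leaf ([])))) (.node (.node (.leaf ([])) (.leaf ([]))) (.node (.leaf ([])) (.leaf ([]))))) (.node (.node (.node (.leaf ([])) (.leaf ([]))) (.node (.leaf ([])) (.leaf ([])))) (.node (.node (.leaf ([])) (.leaf ([]))) (.leaf ([]))))) (.node (.node (.node (.node (.leaf ([])) (.leaf ([]))) (.node (.leaf ([])) (.leaf ([])))) (.node (.node (.leaf ([])) (.leaf ([]))) (.node (.leaf ([])) (.leaf ([]))))) (.node (.node (.node (.leaf ([])) (.leaf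 ([]))) (.node (.leaf ([])) (.leaf ([])))) (.node (.node (.leaf ([])) (.leaf ([]))) (.leaf ([]))))))) (.node (.node (.node (.node (.node (.node (.leaf ([])) (.leaf ([]))) (.node (.leaf ([])) (.leaf ([])))) (.node (.node (.leaf ([])) (.leaf ([]))) (.node (.leaf ([])) (.leaf ([]))))) (.node (.node (.node (.leaf ([])) (.leaf ([]))) (.node (.leaf ([])) (.leaf ([])))) (.node (.node (.leaf ([])) (.leaf ([]))) (.leaf ([]))))) (.node (.node (.node (.node (.leaf ([])) (.leaf ([]))) (.node (.leaf ([])) (.leaf ([])))) (.node (.node (.leaf ([])) (.leaf ([]))) (.node (.leaf ([])) (.leaf ([]))))) (.node (.node (.node (.leaf ([])) (.leaf ([]))) (.node (.leaf ([])) (.leaf ([])))) (.node (.node (.leaf ([])) (.leaf ([]))) (.leaf ([])))))) (.node (.node (.node (.node (.node (.leaf ([])) (.leaf ([]))) (.node (.leaf ([])) (.leaf ([])))) (.node (.node (.leaf ([])) (.leaf ([]))) (.node (.leaf ([])) (.leaf ([]))))) (.node (.node (.node (.leaf ([])) (.leaf ([]))) (.node (.leaf ([]))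 (.leaf ([])))) (.node (.node (.leaf ([])) (.leaf ([]))) (.leaf ([]))))) (.node (.node (.node (.node (.leaf ([])) (.leaf ([]))) (.node (.leaf ([])) (.leaf ([])))) (.node (.node (.leaf ([])) (.leaf ([]))) (.node (.leaf ([])) (.leaf ([]))))) (.node (.node (.node (.leaf ([])) (.leaf ([]))) (.node (.leaf ([])) (.leaf ([])))) (.node (.node (.leaf ([])) (.leaf ([]))) (.leaf ([]))))))))) (.node (.node (.node (.node (.node (.node (.node (.node (.leaf ([])) (.leaf ([]))) (.node (.leaf ([])) (.leaf ([])))) (.node (.node (.leaf ([])) (.leaf ([]))) (.node (.leaf ([])) (.leaf ([]))))) (.node (.node (.node (.leaf ([])) (.leaf ([]))) (.node (.leaf ([])) (.leaf ([])))) (.node (.node (.leaf ([])) (.leaf ([]))) (.leaf ([]))))) (.node (.node (.node (.node (.leaf ([])) (.leaf ([]))) (.node (.leaf ([])) (.leaf ([])))) (.node (.node (.leaf ([])) (.leaf ([]))) (.node (.leaf ([])) (.leaf ([]))))) (.node (.node (.node (.leaf ([])) (.leaf ([]))) (.node (.leaf ([])) (.leaf ([]))))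 (.node (.node (.leaf ([])) (.leaf ([]))) (.leaf ([])))))) (.node (.node (.node (.node (.node (.leaf ([])) (.leaf ([]))) (.node (.leaf ([])) (.leaf ([])))) (.node (.node (.leaf ([])) (.leaf ([]))) (.node (.leaf ([])) (.leaf ([]))))) (.node (.node (.node (.leaf ([])) (.leaf ([]))) (.node (.leaf ([])) (.leaf ([])))) (.node (.node (.leaf ([])) (.leaf ([]))) (.leaf ([]))))) (.node (.node (.node (.node (.leaf ([])) (.leaf ([]))) (.node (.leaf ([])) (.leaf ([])))) (.node (.node (.leaf ([])) (.leaf ([]))) (.node (.leaf ([])) (.leaf ([]))))) (.node (.node (.node (.leaf ([])) (.leaf ([]))) (.node (.leaf ([])) (.leaf ([])))) (.node (.node (.leaf ([])) (.leaf ([]))) (.leaf ([]))))))) (.node (.node (.node (.node (.node (.node (.leaf ([])) (.leaf ([]))) (.node (.leaf ([])) (.leaf ([])))) (.node (.node (.leaf ([])) (.leaf ([]))) (.node (.leaf ([])) (.leaf ([]))))) (.node (.node (.node (.leaf ([])) (.leaf ([]))) (.node (.leaf ([])) (.leaf ([])))) (.node (.node (.leaf ([]))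 (.leaf ([]))) (.leaf ([]))))) (.node (.node (.node (.node (.leaf ([])) (.leaf ([]))) (.node (.leaf ([])) (.leaf ([])))) (.node (.node (.leaf ([])) (.leaf ([]))) (.node (.leaf ([])) (.leaf ([]))))) (.node (.node (.node (.leaf ([])) (.leaf ([]))) (.node (.leaf ([])) (.leaf ([])))) (.node (.node (.leaf ([])) (.leaf ([]))) (.leaf ([])))))) (.node (.node (.node (.node (.node (.leaf ([])) (.leaf ([]))) (.node (.leaf ([])) (.leaf ([])))) (.node (.node (.leaf ([])) (.leaf ([]))) (.node (.leaf ([])) (.leaf ([]))))) (.node (.node (.node (.leaf ([])) (.leaf ([]))) (.node (.leaf ([])) (.leaf ([])))) (.node (.node (.leaf ([])) (.leaf ([]))) (.leaf ([]))))) (.node (.node (.node (.node (.leaf ([])) (.leaf ([]))) (.node (.leaf ([])) (.leaf ([])))) (.node (.node (.leaf ([])) (.leaf ([]))) (.node (.leaf ([])) (.leaf ([]))))) (.node (.node (.node (.leaf ([])) (.leaf ([]))) (.node (.leaf ([])) (.leaf ([])))) (.node (.node (.leaf ([])) (.leaf ([]))) (.leaf ([])))))))) (.node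 (.node (.node (.node (.node (.node (.node (.leaf ([])) (.leaf ([]))) (.node (.leaf ([])) (.leaf ([])))) (.node (.node (.leaf ([])) (.leaf ([]))) (.node (.leaf ([])) (.leaf ([]))))) (.node (.node (.node (.leaf ([])) (.leaf ([]))) (.node (.leaf ([])) (.leaf ([])))) (.node (.node (.leaf ([])) (.leaf ([]))) (.leaf ([]))))) (.node (.node (.node (.node (.leaf ([])) (.leaf ([]))) (.node (.leaf ([])) (.leaf ([])))) (.node (.node (.leaf ([])) (.leaf ([]))) (.node (.leaf ([])) (.leaf ([]))))) (.node (.node (.node (.leaf ([])) (.leaf ([]))) (.node (.leaf ([])) (.leaf ([])))) (.node (.node (.leaf ([])) (.leaf ([]))) (.leaf ([])))))) (.node (.node (.node (.node (.node (.leaf ([])) (.leaf ([]))) (.node (.leaf ([])) (.leaf ([])))) (.node (.node (.leaf ([])) (.leaf ([]))) (.node (.leaf ([])) (.leaf ([]))))) (.node (.node (.node (.leaf ([])) (.leaf ([]))) (.node (.leaf ([])) (.leaf ([])))) (.node (.node (.leaf ([])) (.leaf ([]))) (.leaf ([]))))) (.node (.node (.node (.node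 (.leaf ([])) (.leaf ([]))) (.node (.leaf ([])) (.leaf ([])))) (.node (.node (.leaf ([])) (.leaf ([]))) (.node (.leaf ([])) (.leaf ([]))))) (.node (.node (.node (.leaf ([])) (.leaf ([]))) (.node (.leaf ([])) (.leaf ([])))) (.node (.node (.leaf ([])) (.leaf ([]))) (.leaf ([]))))))) (.node (.node (.node (.node (.node (.node (.leaf ([])) (.leaf ([]))) (.node (.leaf ([])) (.leaf ([])))) (.node (.node (.leaf ([])) (.leaf ([]))) (.node (.leaf ([])) (.leaf ([]))))) (.node (.node (.node (.leaf ([])) (.leaf ([]))) (.node (.leaf ([])) (.leaf ([])))) (.node (.node (.leaf ([])) (.leaf ([]))) (.leaf ([]))))) (.node (.node (.node (.node (.leaf ([])) (.leaf ([]))) (.node (.leaf ([])) (.leaf ([])))) (.node (.node (.leaf ([])) (.leaf ([]))) (.node (.leaf ([])) (.leaf ([]))))) (.node (.node (.node (.leaf ([])) (.leaf ([]))) (.node (.leaf ([])) (.leaf ([])))) (.node (.node (.leaf ([])) (.leaf ([]))) (.leaf ([])))))) (.node (.node (.node (.node (.node (.leaf ([])) (.leaf ([])))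 (.node (.leaf ([])) (.leaf ([])))) (.node (.node (.leaf ([])) (.leaf ([]))) (.node (.leaf ([])) (.leaf ([]))))) (.node (.node (.node (.leaf ([])) (.leaf ([]))) (.node (.leaf ([])) (.leaf ([])))) (.node (.node (.leaf ([])) (.leaf ([]))) (.leaf ([]))))) (.node (.node (.node (.node (.leaf ([])) (.leaf ([]))) (.node (.leaf ([])) (.leaf ([])))) (.node (.node (.leaf ([])) (.leaf ([]))) (.node (.leaf ([])) (.leaf ([]))))) (.node (.node (.node (.leaf ([])) (.leaf ([]))) (.node (.leaf ([])) (.leaf ([])))) (.node (.node (.leaf ([])) (.leaf ([]))) (.leaf ([])))))))))) (.node (.node (.node (.node (.node (.node (.node (.node (.node (.leaf ([])) (.leaf ([]))) (.node (.leaf ([])) (.leaf ([])))) (.node (.node (.leaf ([])) (.leaf ([]))) (.node (.leaf ([])) (.leaf ([]))))) (.node (.node (.node (.leaf ([])) (.leaf ([]))) (.node (.leaf ([])) (.leaf ([])))) (.node (.node (.leaf ([])) (.leaf ([]))) (.leaf ([]))))) (.node (.node (.node (.node (.leaf ([])) (.leaf ([]))) (.node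 (.leaf ([])) (.leaf ([])))) (.node (.node (.leaf ([])) (.leaf ([]))) (.node (.leaf ([])) (.leaf ([]))))) (.node (.node (.node (.leaf ([])) (.leaf ([]))) (.node (.leaf ([])) (.leaf ([])))) (.node (.node (.leaf ([])) (.leaf ([]))) (.leaf ([])))))) (.node (.node (.node (.node (.node (.leaf ([])) (.leaf ([]))) (.node (.leaf ([])) (.leaf ([])))) (.node (.node (.leaf ([])) (.leaf ([]))) (.node (.leaf ([])) (.leaf ([]))))) (.node (.node (.node (.leaf ([])) (.leaf ([]))) (.node (.leaf ([])) (.leaf ([])))) (.node (.node (.leaf ([])) (.leaf ([]))) (.leaf ([]))))) (.node (.node (.node (.node (.leaf ([])) (.leaf ([]))) (.node (.leaf ([])) (.leaf ([])))) (.node (.node (.leaf ([])) (.leaf ([]))) (.node (.leaf ([])) (.leaf ([]))))) (.node (.node (.node (.leaf ([])) (.leaf ([]))) (.node (.leaf ([])) (.leaf ([])))) (.node (.node (.leaf ([])) (.leaf ([]))) (.leaf ([]))))))) (.node (.node (.node (.node (.node (.node (.leaf ([])) (.leaf ([]))) (.node (.leaf ([])) (.leaf ([]))))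 (.node (.node (.leaf ([])) (.leaf ([]))) (.node (.leaf ([])) (.leaf ([]))))) (.node (.node (.node (.leaf ([])) (.leaf ([]))) (.node (.leaf ([])) (.leaf ([])))) (.node (.node (.leaf ([])) (.leaf ([]))) (.leaf ([]))))) (.node (.node (.node (.node (.leaf ([])) (.leaf ([]))) (.node (.leaf ([])) (.leaf ([])))) (.node (.node (.leaf ([])) (.leaf ([]))) (.node (.leaf ([])) (.leaf ([]))))) (.node (.node (.node (.leaf ([])) (.leaf ([]))) (.node (.leaf ([])) (.leaf ([])))) (.node (.node (.leaf ([])) (.leaf ([]))) (.leaf ([])))))) (.node (.node (.node (.node (.node (.leaf ([])) (.leaf ([]))) (.node (.leaf ([])) (.leaf ([])))) (.node (.node (.leaf ([])) (.leaf ([]))) (.node (.leaf ([])) (.leaf ([]))))) (.node (.node (.node (.leaf ([])) (.leaf ([]))) (.node (.leaf ([])) (.leaf ([])))) (.node (.node (.leaf ([])) (.leaf ([]))) (.leaf ([]))))) (.node (.node (.node (.node (.leaf ([])) (.leaf ([]))) (.node (.leaf ([])) (.leaf ([])))) (.node (.node (.leaf ([])) (.leaf ([])))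 (.node (.leaf ([])) (.leaf ([]))))) (.node (.node (.node (.leaf ([])) (.leaf ([]))) (.node (.leaf ([])) (.leaf ([])))) (.node (.node (.leaf ([])) (.leaf ([]))) (.leaf ([])))))))) (.node (.node (.node (.node (.node (.node (.node (.leaf ([])) (.leaf ([]))) (.node (.leaf ([])) (.leaf ([])))) (.node (.node (.leaf ([])) (.leaf ([]))) (.node (.leaf ([])) (.leaf ([]))))) (.node (.node (.node (.leaf ([])) (.leaf ([]))) (.node (.leaf ([])) (.leaf ([])))) (.node (.node (.leaf ([])) (.leaf ([]))) (.leaf ([]))))) (.node (.node (.node (.node (.leaf ([])) (.leaf ([]))) (.node (.leaf ([])) (.leaf ([])))) (.node (.node (.leaf ([])) (.leaf ([]))) (.node (.leaf ([])) (.leaf ([]))))) (.node (.node (.node (.leaf ([])) (.leaf ([]))) (.node (.leaf ([])) (.leaf ([])))) (.node (.node (.leaf ([])) (.leaf ([]))) (.leaf ([])))))) (.node (.node (.node (.node (.node (.leaf ([])) (.leaf ([]))) (.node (.leaf ([])) (.leaf ([])))) (.node (.node (.leaf ([])) (.leaf ([]))) (.node (.leaf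 ([])) (.leaf ([]))))) (.node (.node (.node (.leaf ([])) (.leaf ([]))) (.node (.leaf ([])) (.leaf ([])))) (.node (.node (.leaf ([])) (.leaf ([]))) (.leaf ([]))))) (.node (.node (.node (.node (.leaf ([])) (.leaf ([]))) (.node (.leaf ([])) (.leaf ([])))) (.node (.node (.leaf ([])) (.leaf ([]))) (.node (.leaf ([])) (.leaf ([]))))) (.node (.node (.node (.leaf ([])) (.leaf ([]))) (.node (.leaf ([])) (.leaf ([])))) (.node (.node (.leaf ([])) (.leaf ([]))) (.leaf ([]))))))) (.node (.node (.node (.node (.node (.node (.leaf ([])) (.leaf ([]))) (.node (.leaf ([])) (.leaf ([])))) (.node (.node (.leaf ([])) (.leaf ([]))) (.node (.leaf ([])) (.leaf ([]))))) (.node (.node (.node (.leaf ([])) (.leaf ([]))) (.node (.leaf ([])) (.leaf ([])))) (.node (.node (.leaf ([])) (.leaf ([]))) (.leaf ([]))))) (.node (.node (.node (.node (.leaf ([])) (.leaf ([]))) (.node (.leaf ([])) (.leaf ([])))) (.node (.node (.leaf ([])) (.leaf ([]))) (.node (.leaf ([])) (.leaf ([]))))) (.node (.node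 (.node (.leaf ([])) (.leaf ([]))) (.node (.leaf ([])) (.leaf ([])))) (.node (.node (.leaf ([])) (.leaf ([]))) (.leaf ([])))))) (.node (.node (.node (.node (.node (.leaf ([])) (.leaf ([]))) (.node (.leaf ([])) (.leaf ([])))) (.node (.node (.leaf ([])) (.leaf ([]))) (.node (.leaf ([])) (.leaf ([]))))) (.node (.node (.node (.leaf ([])) (.leaf ([]))) (.node (.leaf ([])) (.leaf ([])))) (.node (.node (.leaf ([])) (.leaf ([]))) (.leaf ([]))))) (.node (.node (.node (.node (.leaf ([])) (.leaf ([]))) (.node (.leaf ([])) (.leaf ([])))) (.node (.node (.leaf ([])) (.leaf ([]))) (.node (.leaf ([])) (.leaf ([]))))) (.node (.node (.node (.leaf ([])) (.leaf ([]))) (.node (.leaf ([])) (.leaf ([])))) (.node (.node (.leaf ([])) (.leaf ([]))) (.leaf ([]))))))))) (.node (.node (.node (.node (.node (.node (.node (.node (.leaf ([])) (.leaf ([]))) (.node (.leaf ([])) (.leaf ([])))) (.node (.node (.leaf ([])) (.leaf ([]))) (.node (.leaf ([])) (.leaf ([]))))) (.node (.node (.node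 (.leaf ([])) (.leaf ([]))) (.node (.leaf ([])) (.leaf ([])))) (.node (.node (.leaf ([])) (.leaf ([]))) (.leaf ([]))))) (.node (.node (.node (.node (.leaf ([])) (.leaf ([]))) (.node (.leaf ([])) (.leaf ([])))) (.node (.node (.leaf ([])) (.leaf ([]))) (.node (.leaf ([])) (.leaf ([]))))) (.node (.node (.node (.leaf ([])) (.leaf ([]))) (.node (.leaf ([])) (.leaf ([])))) (.node (.node (.leaf ([])) (.leaf ([]))) (.leaf ([])))))) (.node (.node (.node (.node (.node (.leaf ([])) (.leaf ([]))) (.node (.leaf ([])) (.leaf ([])))) (.node (.node (.leaf ([])) (.leaf ([]))) (.node (.leaf ([])) (.leaf ([]))))) (.node (.node (.node (.leaf ([])) (.leaf ([]))) (.node (.leaf ([])) (.leaf ([])))) (.node (.node (.leaf ([])) (.leaf ([]))) (.leaf ([]))))) (.node (.node (.node (.node (.leaf ([])) (.leaf ([]))) (.node (.leaf ([])) (.leaf ([])))) (.node (.node (.leaf ([])) (.leaf ([]))) (.node (.leaf ([])) (.leaf ([]))))) (.node (.node (.node (.leaf ([])) (.leaf ([]))) (.node (.leaf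 ([])) (.leaf ([])))) (.node (.node (.leaf ([])) (.leaf ([]))) (.leaf ([]))))))) (.node (.node (.node (.node (.node (.node (.leaf ([])) (.leaf ([]))) (.node (.leaf ([])) (.leaf ([])))) (.node (.node (.leaf ([])) (.leaf ([]))) (.node (.leaf ([])) (.leaf ([]))))) (.node (.node (.node (.leaf ([])) (.leaf ([]))) (.node (.leaf ([])) (.leaf ([])))) (.node (.node (.leaf ([])) (.leaf ([]))) (.leaf ([]))))) (.node (.node (.node (.node (.leaf ([])) (.leaf ([]))) (.node (.leaf ([])) (.leaf ([])))) (.node (.node (.leaf ([])) (.leaf ([]))) (.node (.leaf ([])) (.leaf ([]))))) (.node (.node (.node (.leaf ([])) (.leaf ([]))) (.node (.leaf ([])) (.leaf ([])))) (.node (.node (.leaf ([])) (.leaf ([]))) (.leaf ([])))))) (.node (.node (.node (.node (.node (.leaf ([])) (.leaf ([]))) (.node (.leaf ([])) (.leaf ([])))) (.node (.node (.leaf ([])) (.leaf ([]))) (.node (.leaf ([])) (.leaf ([]))))) (.node (.node (.node (.leaf ([])) (.leaf ([]))) (.node (.leaf ([])) (.leaf ([])))) (.node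 (.node (.leaf ([])) (.leaf ([]))) (.leaf ([]))))) (.node (.node (.node (.node (.leaf ([])) (.leaf ([]))) (.node (.leaf ([])) (.leaf ([])))) (.node (.node (.leaf ([])) (.leaf ([]))) (.node (.leaf ([])) (.leaf ([]))))) (.node (.node (.node (.leaf ([])) (.leaf ([]))) (.node (.leaf ([])) (.leaf ([])))) (.node (.node (.leaf ([])) (.leaf ([]))) (.leaf ([])))))))) (.node (.node (.node (.node (.node (.node (.node (.leaf ([])) (.leaf ([]))) (.node (.leaf ([])) (.leaf ([])))) (.node (.node (.leaf ([])) (.leaf ([]))) (.node (.leaf ([])) (.leaf ([]))))) (.node (.node (.node (.leaf ([])) (.leaf ([]))) (.node (.leaf ([])) (.leaf ([])))) (.node (.node (.leaf ([])) (.leaf ([]))) (.leaf ([]))))) (.node (.node (.node (.node (.leaf ([])) (.leaf ([]))) (.node (.leaf ([])) (.leaf ([])))) (.node (.node (.leaf ([])) (.leaf ([]))) (.node (.leaf ([])) (.leaf ([]))))) (.node (.node (.node (.leaf ([])) (.leaf ([]))) (.node (.leaf ([])) (.leaf ([])))) (.node (.node (.leaf ([])) (.leaf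 ([]))) (.leaf ([])))))) (.node (.node (.node (.node (.node (.leaf ([])) (.leaf ([]))) (.node (.leaf ([])) (.leaf ([])))) (.node (.node (.leaf ([])) (.leaf ([]))) (.node (.leaf ([])) (.leaf ([]))))) (.node (.node (.node (.leaf ([])) (.leaf ([]))) (.node (.leaf ([])) (.leaf ([])))) (.node (.node (.leaf ([])) (.leaf ([]))) (.leaf ([]))))) (.node (.node (.node (.node (.leaf ([])) (.leaf ([]))) (.node (.leaf ([])) (.leaf ([])))) (.node (.node (.leaf ([])) (.leaf ([]))) (.node (.leaf ([])) (.leaf ([]))))) (.node (.node (.node (.leaf ([])) (.leaf ([]))) (.node (.leaf ([])) (.leaf ([])))) (.node (.node (.leaf ([])) (.leaf ([]))) (.leaf ([]))))))) (.node (.node (.node (.node (.node (.node (.leaf ([])) (.leaf ([]))) (.node (.leaf ([])) (.leaf ([])))) (.node (.node (.leaf ([])) (.leaf ([]))) (.node (.leaf ([])) (.leaf ([]))))) (.node (.node (.node (.leaf ([])) (.leaf ([]))) (.node (.leaf ([])) (.leaf ([])))) (.node (.node (.leaf ([])) (.leaf ([]))) (.leaf ([])))))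 (.node (.node (.node (.node (.leaf ([])) (.leaf ([]))) (.node (.leaf ([])) (.leaf ([])))) (.node (.node (.leaf ([])) (.leaf ([]))) (.node (.leaf ([])) (.leaf ([]))))) (.node (.node (.node (.leaf ([])) (.leaf ([]))) (.node (.leaf ([])) (.leaf ([])))) (.node (.node (.leaf ([])) (.leaf ([]))) (.leaf ([])))))) (.node (.node (.node (.node (.node (.leaf ([])) (.leaf ([]))) (.node (.leaf ([])) (.leaf ([])))) (.node (.node (.leaf ([])) (.leaf ([]))) (.node (.leaf ([])) (.leaf ([]))))) (.node (.node (.node (.leaf ([])) (.leaf ([]))) (.node (.leaf ([])) (.leaf ([])))) (.node (.node (.leaf ([])) (.leaf ([]))) (.leaf ([]))))) (.node (.node (.node (.node (.leaf ([])) (.leaf ([]))) (.node (.leaf ([])) (.leaf ([])))) (.node (.node (.leaf ([])) (.leaf ([]))) (.node (.leaf ([])) (.leaf ([]))))) (.node (.node (.node (.leaf ([])) (.leaf ([]))) (.node (.leaf ([])) (.leaf ([])))) (.node (.node (.leaf ([])) (.leaf ([]))) (.leaf ([])))))))))))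

/-- data -/
def val3 : Trie (Vec) := .node (.node (.node (.node (.node (.node (.node (.node (.node (.node (.node (.leaf ([])) (.leaf ([0, 1, 0, 1, 1]))) (.node (.leaf ([])) (.leaf ([(-7), 4, (-3), 6, (-9)])))) (.node (.node (.leaf ([])) (.leaf ([(-2), 1, 4, 2, (-4)]))) (.node (.leaf ([])) (.leaf ([10, 0, 11, 0, 25]))))) (.node (.node (.node (.leaf ([])) (.leaf ([]))) (.node (.leaf ([])) (.leaf ([1, (-1), (-1), (-1), (-1)])))) (.node (.node (.leaf ([])) (.leaf ([]))) (.leaf ([]))))) (.node (.node (.node (.node (.leaf ([])) (.leaf ([0, 0, (-2)]))) (.node (.leaf ([])) (.leaf ([(-6), 0, (-7), 0, (-15)])))) (.node (.node (.leaf ([])) (.leaf ([0, 1, 0, 2, 2]))) (.node (.leaf ([])) (.leaf ([1, (-1), 6, (-2), (-1)]))))) (.node (.node (.node (.leaf ([])) (.leaf ([1, 0, 1, 0, 2]))) (.node (.leaf ([1, (-1), 3, (-2)])) (.leaf ([(-3), 2, 0, 3, (-4)])))) (.node (.node (.leaf ([])) (.leaf ([]))) (.leaf ([1, 0, 1])))))) (.node (.node (.node (.node (.node (.leaf ([]))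 (.leaf ([]))) (.node (.leaf ([])) (.leaf ([(-1), 0, (-1), 0, (-3)])))) (.node (.node (.leaf ([])) (.leaf ([(-11), 0, (-10), 1, (-28)]))) (.node (.leaf ([])) (.leaf ([0, 0, (-2)]))))) (.node (.node (.node (.leaf ([(-2), 1, 0, 2, (-4)])) (.leaf ([2, 0, 3, 0, 4]))) (.node (.leaf ([])) (.leaf ([(-22), 10, (-9), 17, (-31)])))) (.node (.node (.leaf ([])) (.leaf ([0, 1, 0, 1, 1]))) (.leaf ([(-3), 2, (-4), 3, (-5)]))))) (.node (.node (.node (.node (.leaf ([])) (.leaf ([20, (-10), 10, (-16), 25]))) (.node (.leaf ([])) (.leaf ([4, (-2), 1, (-3), 5])))) (.node (.node (.leaf ([])) (.leaf ([2, (-1), 3, (-1), 2]))) (.node (.leaf ([(-1), 1, 0, 1, (-1)])) (.leaf ([(-9), 2, 0, 4, (-19)]))))) (.node (.node (.node (.leaf ([])) (.leaf ([]))) (.node (.leaf ([])) (.leaf ([(-3), 3, 0, 4, (-2)])))) (.node (.node (.leaf ([])) (.leaf ([5, (-6), 2, (-10), (-3)]))) (.leaf ([(-3), 2, 4, 3, (-5)]))))))) (.node (.node (.node (.node (.node (.node (.leaf ([])) (.leaf ([(-5), 2, 4, 3, (-8)])))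 (.node (.leaf ([])) (.leaf ([])))) (.node (.node (.leaf ([])) (.leaf ([(-1), 1, (-1), 1, (-2)]))) (.node (.leaf ([])) (.leaf ([]))))) (.node (.node (.node (.leaf ([])) (.leaf ([(-1), 1, (-1), 1]))) (.node (.leaf ([(-3), 1, 0, 2, (-5)])) (.leaf ([(-1), 1, (-3), 1, (-2)])))) (.node (.node (.leaf ([])) (.leaf ([0, 0, (-1), 0, (-1)]))) (.leaf ([]))))) (.node (.node (.node (.node (.leaf ([])) (.leaf ([3, (-5), 2, (-8), (-5)]))) (.node (.leaf ([])) (.leaf ([11, (-5), 6, (-8), 15])))) (.node (.node (.leaf ([])) (.leaf ([]))) (.node (.leaf ([])) (.leaf ([(-7), 4, 5, 6, (-9)]))))) (.node (.node (.node (.leaf ([])) (.leaf ([4, (-1), 0, (-2), 5]))) (.node (.leaf ([])) (.leaf ([6, (-4), 2, (-6), 4])))) (.node (.node (.leaf ([])) (.leaf ([(-1), 1, (-1), 2]))) (.leaf ([(-4), 2, 3, 3, (-6)])))))) (.node (.node (.node (.node (.node (.leaf ([])) (.leaf ([]))) (.node (.leaf ([])) (.leaf ([0, (-2), (-5), (-4), (-6)])))) (.node (.node (.leaf ([])) (.leaf ([]))) (.node (.leaf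 ([1, 2, (-2), 4, 7])) (.leaf ([6, (-2), 3, (-4), 8]))))) (.node (.node (.node (.leaf ([])) (.leaf ([5, (-2), (-1), (-3), 7]))) (.node (.leaf ([0, 0, 1])) (.leaf ([0, 1, 0, 1, 1])))) (.node (.node (.leaf ([])) (.leaf ([(-5), 3, 6, 5, (-7)]))) (.leaf ([]))))) (.node (.node (.node (.node (.leaf ([])) (.leaf ([]))) (.node (.leaf ([])) (.leaf ([(-2), (-3), 5, (-4), (-13)])))) (.node (.node (.leaf ([(-3), 2, 0, 3, (-3)])) (.leaf ([2, (-1), 1, (-1), 2]))) (.node (.leaf ([0, 0, (-1)])) (.leaf ([(-2), 3, 4, 6, 1]))))) (.node (.node (.node (.leaf ([])) (.leaf ([(-3), 5, 3, 8, 4]))) (.node (.leaf ([1])) (.leaf ([1, 0, 3, 0, 2])))) (.node (.node (.leaf ([])) (.leaf ([]))) (.leaf ([0, 0, 1])))))))) (.node (.node (.node (.node (.node (.node (.node (.leaf ([])) (.leaf ([(-3), 2, (-1), 3, (-3)]))) (.node (.leaf ([])) (.leaf ([1])))) (.node (.node (.leaf ([0, 0, (-1)])) (.leaf ([4, (-2), 0, (-3), 4]))) (.node (.leaf ([])) (.leaf ([5, 0, 6, 0, 11]))))) (.node (.node (.node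 (.leaf ([])) (.leaf ([1, (-1), (-1), (-2), (-1)]))) (.node (.leaf ([])) (.leaf ([(-4), (-2), 0, (-3), (-16)])))) (.node (.node (.leaf ([])) (.leaf ([0, 0, (-1)]))) (.leaf ([1]))))) (.node (.node (.node (.node (.leaf ([])) (.leaf ([(-1), 0, 0, 0, (-3)]))) (.node (.leaf ([])) (.leaf ([6, (-6), 4, (-10)])))) (.node (.node (.leaf ([])) (.leaf ([0, 0, 1]))) (.node (.leaf ([])) (.leaf ([(-2), 2, 1, 2, (-2)]))))) (.node (.node (.node (.leaf ([])) (.leaf ([0, (-1), 2, (-1), (-3)]))) (.node (.leaf ([])) (.leaf ([])))) (.node (.node (.leaf ([])) (.leaf ([]))) (.leaf ([])))))) (.node (.node (.node (.node (.node (.leaf ([])) (.leaf ([(-3), 1, 3, 2, (-6)]))) (.node (.leaf ([])) (.leaf ([(-1), 0, (-1), 0, (-4)])))) (.node (.node (.leaf ([])) (.leaf ([(-1), 1, (-1), 2]))) (.node (.leaf ([])) (.leaf ([0, 0, (-1), 0, (-2)]))))) (.node (.node (.node (.leaf ([])) (.leaf ([]))) (.node (.leaf ([1, (-1), 0, (-1), (-1)])) (.leaf ([(-3), 5, 2, 8, 4])))) (.node (.node (.leaf ([(-1),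 0, 0, 0, (-3)])) (.leaf ([(-10), 4, (-6), 7, (-15)]))) (.leaf ([]))))) (.node (.node (.node (.node (.leaf ([])) (.leaf ([]))) (.node (.leaf ([0, 0, (-1), 0, (-1)])) (.leaf ([1, 0, 1, 0, 2])))) (.node (.node (.leaf ([1])) (.leaf ([(-5), 3, (-4), 5, (-6)]))) (.node (.leaf ([])) (.leaf ([(-3), 3, (-9), 4, (-1)]))))) (.node (.node (.node (.leaf ([])) (.leaf ([(-6), 2, (-13), 4, (-11)]))) (.node (.leaf ([0, 0, (-1)])) (.leaf ([2, 0, 0, 0, 4])))) (.node (.node (.leaf ([])) (.leaf ([(-13), 7, (-4), 12, (-15)]))) (.leaf ([]))))))) (.node (.node (.node (.node (.node (.node (.leaf ([])) (.leaf ([]))) (.node (.leaf ([])) (.leaf ([1, 1, 5, 1, 4])))) (.node (.node (.leaf ([])) (.leaf ([]))) (.node (.leaf ([1])) (.leaf ([3, (-5), 11, (-9), (-6)]))))) (.node (.node (.node (.leaf ([])) (.leaf ([]))) (.node (.leaf ([])) (.leaf ([5, 0, (-10), 1, 12])))) (.node (.node (.leaf ([])) (.leaf ([7, (-4), (-3), (-6), 7]))) (.leaf ([]))))) (.node (.node (.node (.node (.leaf ([]))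 (.leaf ([4, (-5), (-2), (-8), (-4)]))) (.node (.leaf ([(-1), 0, 0, 0, (-3)])) (.leaf ([1, (-1), (-1), (-2)])))) (.node (.node (.leaf ([])) (.leaf ([0, 1, 0, 1, 1]))) (.node (.leaf ([])) (.leaf ([(-14), 5, (-9), 9, (-24)]))))) (.node (.node (.node (.leaf ([])) (.leaf ([]))) (.node (.leaf ([])) (.leaf ([(-3), 1, (-2), 2, (-7)])))) (.node (.node (.leaf ([])) (.leaf ([(-1), 1, (-1), 1, (-2)]))) (.leaf ([3, (-1), 0, (-2), 5])))))) (.node (.node (.node (.node (.node (.leaf ([])) (.leaf ([(-3), 1, 0, 2, (-5)]))) (.node (.leaf ([])) (.leaf ([0, (-2), (-4), (-3), (-5)])))) (.node (.node (.leaf ([1])) (.leaf ([]))) (.node (.leaf ([])) (.leaf ([4, (-2), 0, (-3), 3]))))) (.node (.node (.node (.leaf ([])) (.leaf ([3, (-2), 3, (-3), 1]))) (.node (.leaf ([])) (.leaf ([(-5), 2, 0, 4, (-9)])))) (.node (.node (.leaf ([])) (.leaf ([(-3), 3, 0, 4, (-2)]))) (.leaf ([1, (-1), 0, (-1), (-1)]))))) (.node (.node (.node (.node (.leaf ([])) (.leaf ([1, (-1), 0, (-1), (-1)]))) (.node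 (.leaf ([0, 0, (-1)])) (.leaf ([4, (-1), (-3), (-2), 6])))) (.node (.node (.leaf ([(-4), 2, (-1), 3, (-6)])) (.leaf ([(-2), 0, 0, 1, (-6)]))) (.node (.leaf ([])) (.leaf ([(-7), 4, 1, 6, (-9)]))))) (.node (.node (.node (.leaf ([])) (.leaf ([]))) (.node (.leaf ([])) (.leaf ([7, 0, 3, 0, 15])))) (.node (.node (.leaf ([])) (.leaf ([(-3), 2, 3, 2, (-4)]))) (.leaf ([]))))))))) (.node (.node (.node (.node (.node (.node (.node (.node (.leaf ([])) (.leaf ([]))) (.node (.leaf ([])) (.leaf ([(-8), 6, (-7), 10, (-5)])))) (.node (.node (.leaf ([])) (.leaf ([(-6), 2, 1, 4, (-11)]))) (.node (.leaf ([])) (.leaf ([4, 0, (-3), 0, 9]))))) (.node (.node (.node (.leaf ([])) (.leaf ([3, (-1), 0, (-2), 5]))) (.node (.leaf ([0, 1, 0, 1, 1])) (.leaf ([(-1), 1, (-1), 1, (-1)])))) (.node (.node (.leaf ([])) (.leaf ([0, 0, (-2)]))) (.leaf ([]))))) (.node (.node (.node (.node (.leaf ([])) (.leaf ([0, 0, (-1)]))) (.node (.leaf ([(-1), 1, 0, 1, (-1)])) (.leaf ([(-1), 1, (-4), 1, (-1)]))))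 (.node (.node (.leaf ([])) (.leaf ([]))) (.node (.leaf ([0, 0, (-2)])) (.leaf ([2, (-1), 0, (-1), 1]))))) (.node (.node (.node (.leaf ([])) (.leaf ([]))) (.node (.leaf ([])) (.leaf ([(-2), 0, 0, 1, (-6)])))) (.node (.node (.leaf ([])) (.leaf ([2, (-1), (-3), (-1), 2]))) (.leaf ([(-1), 1, 3, 2])))))) (.node (.node (.node (.node (.node (.leaf ([])) (.leaf ([]))) (.node (.leaf ([0, 0, (-2)])) (.leaf ([(-8), (-2), (-12), (-3), (-25)])))) (.node (.node (.leaf ([])) (.leaf ([1, 0, 1]))) (.node (.leaf ([])) (.leaf ([2, 0, 0, 0, 4]))))) (.node (.node (.node (.leaf ([])) (.leaf ([5, (-3), 3, (-4), 4]))) (.node (.leaf ([])) (.leaf ([11, (-4), 2, (-7), 15])))) (.node (.node (.leaf ([0, 0, (-1)])) (.leaf ([1]))) (.leaf ([(-1), 1, 3, 1, (-2)]))))) (.node (.node (.node (.node (.leaf ([])) (.leaf ([0, 0, 2]))) (.node (.leaf ([])) (.leaf ([(-1), 2, 0, 2, 2])))) (.node (.node (.leaf ([])) (.leaf ([5, (-2), 1, (-3), 7]))) (.node (.leaf ([])) (.leaf ([(-1), 1, 3, 2])))))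 (.node (.node (.node (.leaf ([])) (.leaf ([(-1), 2, (-1), 3, 2]))) (.node (.leaf ([3, (-1), 0, (-2), 5])) (.leaf ([2, (-1), 1, (-1), 2])))) (.node (.node (.leaf ([])) (.leaf ([]))) (.leaf ([4, (-2), 0, (-3), 5]))))))) (.node (.node (.node (.node (.node (.node (.leaf ([])) (.leaf ([(-6), 4, 0, 6, (-5)]))) (.node (.leaf ([])) (.leaf ([(-2), 6, (-3), 10, 10])))) (.node (.node (.leaf ([])) (.leaf ([]))) (.node (.leaf ([])) (.leaf ([5, (-2), 2, (-3), 6]))))) (.node (.node (.node (.leaf ([])) (.leaf ([(-3), 1, 4, 2, (-5)]))) (.node (.leaf ([])) (.leaf ([])))) (.node (.node (.leaf ([])) (.leaf ([]))) (.leaf ([(-1), 1, (-1), 1, (-1)]))))) (.node (.node (.node (.node (.leaf ([])) (.leaf ([(-1), 1, 1, 1]))) (.node (.leaf ([0, 0, (-1)])) (.leaf ([14, (-4), 2, (-7), 25])))) (.node (.node (.leaf ([1, (-1), 0, (-1), (-1)])) (.leaf ([5, (-2), (-2), (-3), 6]))) (.node (.leaf ([(-1), (-4), 4, (-6), (-13)])) (.leaf ([1, 0, 1]))))) (.node (.node (.node (.leaf ([0, 0, (-1)]))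 (.leaf ([4, (-1), 4, (-1), 7]))) (.node (.leaf ([])) (.leaf ([0, 1, 1, 2, 1])))) (.node (.node (.leaf ([])) (.leaf ([4, (-2), (-4), (-3), 4]))) (.leaf ([(-3), 2, 0, 3, (-4)])))))) (.node (.node (.node (.node (.node (.leaf ([])) (.leaf ([(-6), 3, (-4), 5, (-8)]))) (.node (.leaf ([0, 1, 0, 1, 2])) (.leaf ([])))) (.node (.node (.leaf ([])) (.leaf ([]))) (.node (.leaf ([])) (.leaf ([(-10), 6, 0, 10, (-10)]))))) (.node (.node (.node (.leaf ([])) (.leaf ([]))) (.node (.leaf ([5, (-5), (-3), (-8)])) (.leaf ([(-2), 1, 3, 2, (-5)])))) (.node (.node (.leaf ([])) (.leaf ([3, (-1), 0, (-2), 5]))) (.leaf ([]))))) (.node (.node (.node (.node (.leaf ([])) (.leaf ([(-2), 4, (-2), 7, 5]))) (.node (.leaf ([])) (.leaf ([(-8), 4, (-1), 7, (-11)])))) (.node (.node (.leaf ([])) (.leaf ([(-3), 1, 3, 2, (-6)]))) (.node (.leaf ([(-1), 0, 0, 0, (-3)])) (.leaf ([9, (-9), 0, (-15)]))))) (.node (.node (.node (.leaf ([])) (.leaf ([12, (-6), (-2), (-9), 14]))) (.node (.leaf ([1, 0, (-1)]))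 (.leaf ([(-7), 6, 3, 10, (-5)])))) (.node (.node (.leaf ([1])) (.leaf ([0, 0, (-1)]))) (.leaf ([])))))))) (.node (.node (.node (.node (.node (.node (.node (.leaf ([])) (.leaf ([(-3), 1, (-1), 2, (-5)]))) (.node (.leaf ([1, (-1), 0, (-1), (-1)])) (.leaf ([8, (-6), (-3), (-10), 5])))) (.node (.node (.leaf ([(-2), 1, 0, 2, (-4)])) (.leaf ([]))) (.node (.leaf ([8, (-7), (-5), (-11), 2])) (.leaf ([1, 1, 1, 1, 4]))))) (.node (.node (.node (.leaf ([])) (.leaf ([]))) (.node (.leaf ([4, 2, (-4), 3, 15])) (.leaf ([15, (-6), 18, (-9), 22])))) (.node (.node (.leaf ([])) (.leaf ([13, (-6), (-2), (-10), 17]))) (.leaf ([3, (-2), 1, (-3), 1]))))) (.node (.node (.node (.node (.leaf ([])) (.leaf ([0, 0, (-1), 0, (-1)]))) (.node (.leaf ([])) (.leaf ([1, 5, (-4), 8, 15])))) (.node (.node (.leaf ([])) (.leaf ([]))) (.node (.leaf ([])) (.leaf ([(-4), 0, (-3), 0, (-11)]))))) (.node (.node (.node (.leaf ([])) (.leaf ([]))) (.node (.leaf ([])) (.leaf ([(-2), 0, 0, 0, (-6)]))))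 (.node (.node (.leaf ([])) (.leaf ([(-4), 2, (-1), 3, (-7)]))) (.leaf ([])))))) (.node (.node (.node (.node (.node (.leaf ([])) (.leaf ([(-4), 3, (-1), 4, (-4)]))) (.node (.leaf ([])) (.leaf ([(-19), 7, (-14), 11, (-31)])))) (.node (.node (.leaf ([])) (.leaf ([]))) (.node (.leaf ([0, 1, 0, 1, 2])) (.leaf ([1, 0, (-1), 0, 2]))))) (.node (.node (.node (.leaf ([])) (.leaf ([]))) (.node (.leaf ([])) (.leaf ([5, (-2), (-2), (-3), 6])))) (.node (.node (.leaf ([(-2), 2, 0, 2, (-1)])) (.leaf ([1, (-1), 0, (-1), (-1)]))) (.leaf ([]))))) (.node (.node (.node (.node (.leaf ([])) (.leaf ([]))) (.node (.leaf ([(-3), 1, 0, 2, (-5)])) (.leaf ([(-6), 7, (-7), 12, 1])))) (.node (.node (.leaf ([])) (.leaf ([11, (-6), (-4), (-9), 12]))) (.node (.leaf ([])) (.leaf ([(-11), 2, 4, 3, (-25)]))))) (.node (.node (.node (.leaf ([2, (-1), (-1), (-1), 2])) (.leaf ([(-1), 0, 0, 0, (-3)]))) (.node (.leaf ([0, 0, 1])) (.leaf ([(-1), 1, (-1), 2])))) (.node (.node (.leaf ([])) (.leaf ([(-5),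 11, (-2), 18, 15]))) (.leaf ([0, 0, (-1)]))))))) (.node (.node (.node (.node (.node (.node (.leaf ([])) (.leaf ([]))) (.node (.leaf ([])) (.leaf ([])))) (.node (.node (.leaf ([])) (.leaf ([]))) (.node (.leaf ([])) (.leaf ([11, (-1), 16, (-2), 24]))))) (.node (.node (.node (.leaf ([0, 0, (-1)])) (.leaf ([(-2), (-3), 3, (-4), (-13)]))) (.node (.leaf ([])) (.leaf ([])))) (.node (.node (.leaf ([])) (.leaf ([(-2), (-3), 6, (-5), (-13)]))) (.leaf ([]))))) (.node (.node (.node (.node (.leaf ([1])) (.leaf ([]))) (.node (.leaf ([3, (-1), 0, (-2), 4])) (.leaf ([1])))) (.node (.node (.leaf ([])) (.leaf ([(-1), 0, (-1), 0, (-4)]))) (.node (.leaf ([])) (.leaf ([(-1), 1, (-4), 1, (-1)]))))) (.node (.node (.node (.leaf ([])) (.leaf ([(-2), 1, 0, 2, (-5)]))) (.node (.leaf ([])) (.leaf ([3, 3, (-2), 5, 13])))) (.node (.node (.leaf ([4, (-2), 0, (-3), 3])) (.leaf ([3, (-2), (-2), (-3), 2]))) (.leaf ([])))))) (.node (.node (.node (.node (.node (.leaf ([])) (.leaf ([]))) (.node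 (.leaf ([])) (.leaf ([(-2), 0, 5, 0, (-6)])))) (.node (.node (.leaf ([])) (.leaf ([1, 2, (-10), 4, 7]))) (.node (.leaf ([])) (.leaf ([7, (-7), 5, (-12)]))))) (.node (.node (.node (.leaf ([])) (.leaf ([(-1), 1, (-1), 1, (-2)]))) (.node (.leaf ([])) (.leaf ([10, (-10), 5, (-16), (-1)])))) (.node (.node (.leaf ([])) (.leaf ([(-4), 2, (-1), 3, (-6)]))) (.leaf ([]))))) (.node (.node (.node (.node (.leaf ([])) (.leaf ([4, (-1), 2, (-2), 7]))) (.node (.leaf ([(-2), 1, 0, 2, (-4)])) (.leaf ([])))) (.node (.node (.leaf ([])) (.leaf ([]))) (.node (.leaf ([])) (.leaf ([(-13), 13, 4, 21, (-1)]))))) (.node (.node (.node (.leaf ([])) (.leaf ([1, 2, (-3), 4, 7]))) (.node (.leaf ([])) (.leaf ([1])))) (.node (.node (.leaf ([])) (.leaf ([(-1), 0, 0, 0, (-3)]))) (.leaf ([5, (-2), (-2), (-3), 6])))))))))) (.node (.node (.node (.node (.node (.node (.node (.node (.node (.leaf ([])) (.leaf ([4, (-2), (-4), (-3), 3]))) (.node (.leaf ([])) (.leaf ([1, (-1), 0, (-1), (-1)])))) (.node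 (.node (.leaf ([1])) (.leaf ([(-1), 1, (-1), 1, (-1)]))) (.node (.leaf ([5, (-2), 2, (-3), 6])) (.leaf ([10, (-4), 5, (-7), 14]))))) (.node (.node (.node (.leaf ([])) (.leaf ([2, (-2), 2, (-4)]))) (.node (.leaf ([])) (.leaf ([1, 0, 0, 1, 2])))) (.node (.node (.leaf ([3, (-1), 0, (-2), 5])) (.leaf ([]))) (.leaf ([(-3), 1, 0, 2, (-5)]))))) (.node (.node (.node (.node (.leaf ([])) (.leaf ([]))) (.node (.leaf ([(-3), 1, 0, 2, (-5)])) (.leaf ([(-4), 2, (-3), 3, (-5)])))) (.node (.node (.leaf ([])) (.leaf ([2, 0, 1, 0, 4]))) (.node (.leaf ([])) (.leaf ([2, (-4), 1, (-7), (-7)]))))) (.node (.node (.node (.leaf ([])) (.leaf ([]))) (.node (.leaf ([])) (.leaf ([(-3), 2, (-1), 3, (-5)])))) (.node (.node (.leaf ([1])) (.leaf ([2, (-1), (-1), (-2), 1]))) (.leaf ([])))))) (.node (.node (.node (.node (.node (.leaf ([])) (.leaf ([(-4), 3, 0, 4, (-3)]))) (.node (.leaf ([])) (.leaf ([5, (-2), (-2), (-3), 6])))) (.node (.node (.leaf ([])) (.leaf ([4, 0, 2, 0, 9]))) (.node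 (.leaf ([])) (.leaf ([(-4), (-4), 9, (-6), (-21)]))))) (.node (.node (.node (.leaf ([])) (.leaf ([2, (-1), 0, (-1), 1]))) (.node (.leaf ([4, (-2), (-4), (-3), 5])) (.leaf ([])))) (.node (.node (.leaf ([])) (.leaf ([]))) (.leaf ([(-3), 1, 0, 2, (-5)]))))) (.node (.node (.node (.node (.leaf ([0, 0, (-1)])) (.leaf ([(-4), 0, 11, 0, (-10)]))) (.node (.leaf ([])) (.leaf ([(-9), 3, 1, 5, (-15)])))) (.node (.node (.leaf ([(-1), 1, (-1), 1, (-2)])) (.leaf ([0, 0, (-1), 0, (-1)]))) (.node (.leaf ([])) (.leaf ([(-14), 7, (-5), 12, (-19)]))))) (.node (.node (.node (.leaf ([])) (.leaf ([]))) (.node (.leaf ([2, 0, 0, (-1), 4])) (.leaf ([2, (-1), (-5), (-2), 1])))) (.node (.node (.leaf ([])) (.leaf ([3, (-2), (-1), (-3), 1]))) (.leaf ([0, 1, 0, 2, 2]))))))) (.node (.node (.node (.node (.node (.node (.leaf ([])) (.leaf ([4, 0, 1, 0, 10]))) (.node (.leaf ([])) (.leaf ([0, 1, (-2), 1, 2])))) (.node (.node (.leaf ([])) (.leaf ([1]))) (.node (.leaf ([])) (.leaf ([6, (-1),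 (-12), (-1), 11]))))) (.node (.node (.node (.leaf ([])) (.leaf ([]))) (.node (.leaf ([])) (.leaf ([(-5), 2, 1, 4, (-8)])))) (.node (.node (.leaf ([(-3), 1, 4, 2, (-5)])) (.leaf ([12, (-1), 12, (-1), 27]))) (.leaf ([(-2), 1, 0, 2, (-4)]))))) (.node (.node (.node (.node (.leaf ([])) (.leaf ([]))) (.node (.leaf ([])) (.leaf ([(-4), (-3), (-11), (-5), (-18)])))) (.node (.node (.leaf ([])) (.leaf ([(-1), 0, (-1), 0, (-3)]))) (.node (.leaf ([0, 1, 0, 1, 2])) (.leaf ([1, 7, (-1), 11, 18]))))) (.node (.node (.node (.leaf ([])) (.leaf ([1, 2, (-6), 4, 7]))) (.node (.leaf ([])) (.leaf ([1])))) (.node (.node (.leaf ([])) (.leaf ([0, 1, 0, 1, 2]))) (.leaf ([])))))) (.node (.node (.node (.node (.node (.leaf ([])) (.leaf ([]))) (.node (.leaf ([])) (.leaf ([])))) (.node (.node (.leaf ([])) (.leaf ([(-3), 2, 0, 3, (-4)]))) (.node (.leaf ([])) (.leaf ([(-3), 0, (-2), 0, (-9)]))))) (.node (.node (.node (.leaf ([])) (.leaf ([]))) (.node (.leaf ([])) (.leaf ([2, (-1), 3, (-1),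 2])))) (.node (.node (.leaf ([])) (.leaf ([1, 0, 1, 0, 1]))) (.leaf ([4, (-2), (-4), (-3), 5]))))) (.node (.node (.node (.node (.leaf ([])) (.leaf ([]))) (.node (.leaf ([1])) (.leaf ([(-1), 1, 0, 1, (-1)])))) (.node (.node (.leaf ([])) (.leaf ([(-3), 2, (-4), 3, (-4)]))) (.node (.leaf ([])) (.leaf ([2, (-1), 1, (-2)]))))) (.node (.node (.node (.leaf ([])) (.leaf ([0, 0, (-1), 0, (-1)]))) (.node (.leaf ([])) (.leaf ([(-1), 0, 8, 0, (-3)])))) (.node (.node (.leaf ([])) (.leaf ([(-11), 4, (-1), 7, (-19)]))) (.leaf ([3, (-2), 0, (-3), 2])))))))) (.node (.node (.node (.node (.node (.node (.node (.leaf ([])) (.leaf ([2, (-1), (-1), (-1), 2]))) (.node (.leaf ([0, 1, 0, 1, 2])) (.leaf ([3, (-3), (-3), (-6), (-1)])))) (.node (.node (.leaf ([])) (.leaf ([]))) (.node (.leaf ([])) (.leaf ([11, (-4), 6, (-7), 15]))))) (.node (.node (.node (.leaf ([])) (.leaf ([]))) (.node (.leaf ([])) (.leaf ([(-12), (-7), (-14), (-11), (-49)])))) (.node (.node (.leaf ([])) (.leaf ([])))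 (.leaf ([]))))) (.node (.node (.node (.node (.leaf ([])) (.leaf ([]))) (.node (.leaf ([])) (.leaf ([2, 4, (-3), 6, 14])))) (.node (.node (.leaf ([])) (.leaf ([3, (-2), (-4), (-3), 2]))) (.node (.leaf ([0, (-1), 2, (-1), (-3)])) (.leaf ([3, (-2), (-3), (-3), 1]))))) (.node (.node (.node (.leaf ([])) (.leaf ([0, 1, (-1), 2, 1]))) (.node (.leaf ([])) (.leaf ([4, 0, (-5), 0, 9])))) (.node (.node (.leaf ([])) (.leaf ([]))) (.leaf ([1])))))) (.node (.node (.node (.node (.node (.leaf ([])) (.leaf ([]))) (.node (.leaf ([(-4), 2, (-1), 3, (-6)])) (.leaf ([(-3), 1, 5, 1, (-6)])))) (.node (.node (.leaf ([2, (-1), 1, (-1), 2])) (.leaf ([1]))) (.node (.leaf ([])) (.leaf ([]))))) (.node (.node (.node (.leaf ([])) (.leaf ([(-1), 0, 0, 1, (-4)]))) (.node (.leaf ([])) (.leaf ([3, 0, 1, 0, 6])))) (.node (.node (.leaf ([])) (.leaf ([(-5), 3, 0, 5, (-6)]))) (.leaf ([0, 0, (-1)]))))) (.node (.node (.node (.node (.leaf ([])) (.leaf ([1]))) (.node (.leaf ([])) (.leaf ([8, (-1),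 10, (-1), 17])))) (.node (.node (.leaf ([])) (.leaf ([(-5), 2, (-4), 4, (-9)]))) (.node (.leaf ([1])) (.leaf ([(-6), 5, (-3), 9, (-4)]))))) (.node (.node (.node (.leaf ([])) (.leaf ([]))) (.node (.leaf ([3, (-1), 0, (-2), 5])) (.leaf ([(-2), 0, 1, 0, (-6)])))) (.node (.node (.leaf ([])) (.leaf ([4, (-6), 3, (-10), (-5)]))) (.leaf ([3, (-1), 0, (-2), 5]))))))) (.node (.node (.node (.node (.node (.node (.leaf ([])) (.leaf ([]))) (.node (.leaf ([(-1), 1, (-1), 1, (-2)])) (.leaf ([4, (-2), 0, (-3), 4])))) (.node (.node (.leaf ([])) (.leaf ([4, (-2), 8, (-3), 5]))) (.node (.leaf ([])) (.leaf ([(-11), 7, (-2), 11, (-11)]))))) (.node (.node (.node (.leaf ([])) (.leaf ([1, 0, (-1), 0, 1]))) (.node (.leaf ([0, 0, (-1)])) (.leaf ([1, 0, 1])))) (.node (.node (.leaf ([])) (.leaf ([(-2), 1, 0, 2, (-4)]))) (.leaf ([4, (-2), 0, (-3), 4]))))) (.node (.node (.node (.node (.leaf ([])) (.leaf ([(-8), 3, 8, 5, (-13)]))) (.node (.leaf ([])) (.leaf ([(-8), 2, 4, 3, (-15)]))))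 (.node (.node (.leaf ([])) (.leaf ([4, (-2), 0, (-3), 3]))) (.node (.leaf ([])) (.leaf ([3, 0, 1, 0, 6]))))) (.node (.node (.node (.leaf ([])) (.leaf ([(-2), (-3), 5, (-4), (-13)]))) (.node (.leaf ([4, (-2), 4, (-3), 5])) (.leaf ([(-5), 4, 1, 7, (-3)])))) (.node (.node (.leaf ([0, 1, 0, 1, 1])) (.leaf ([1, 0, (-1), 0, 2]))) (.leaf ([])))))) (.node (.node (.node (.node (.node (.leaf ([])) (.leaf ([(-1), 1, 0, 1, (-1)]))) (.node (.leaf ([])) (.leaf ([])))) (.node (.node (.leaf ([])) (.leaf ([]))) (.node (.leaf ([(-1), 1, (-1), 1, (-2)])) (.leaf ([(-1), 1, 3, 2]))))) (.node (.node (.node (.leaf ([])) (.leaf ([]))) (.node (.leaf ([1])) (.leaf ([(-3), 0, 2, 1, (-8)])))) (.node (.node (.leaf ([])) (.leaf ([2, 0, 0, 0, 3]))) (.leaf ([]))))) (.node (.node (.node (.node (.leaf ([])) (.leaf ([]))) (.node (.leaf ([])) (.leaf ([(-11), 8, 1, 14, (-8)])))) (.node (.node (.leaf ([])) (.leaf ([2, 3, (-4), 5, 12]))) (.node (.leaf ([])) (.leaf ([1, 0, 1]))))) (.node (.node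 (.node (.leaf ([])) (.leaf ([1]))) (.node (.leaf ([3, (-2), 0, (-2), 1])) (.leaf ([3, 3, (-5), 4, 13])))) (.node (.node (.leaf ([])) (.leaf ([]))) (.leaf ([(-1), 0, (-1), 0, (-3)]))))))))) (.node (.node (.node (.node (.node (.node (.node (.node (.leaf ([])) (.leaf ([(-1), 0, (-1), 0, (-4)]))) (.node (.leaf ([])) (.leaf ([3, 3, (-5), 4, 13])))) (.node (.node (.leaf ([])) (.leaf ([]))) (.node (.leaf ([])) (.leaf ([0, 1, (-2), 1, 2]))))) (.node (.node (.node (.leaf ([])) (.leaf ([]))) (.node (.leaf ([])) (.leaf ([(-3), 0, 2, 0, (-9)])))) (.node (.node (.leaf ([])) (.leaf ([]))) (.leaf ([]))))) (.node (.node (.node (.node (.leaf ([])) (.leaf ([]))) (.node (.leaf ([])) (.leaf ([(-1), 2, (-15), 3, 2])))) (.node (.node (.leaf ([])) (.leaf ([(-1), 2, 1, 3, 2]))) (.node (.leaf ([0, 0, 0, 0, (-1)])) (.leaf ([(-1), 1, (-1), 1, (-2)]))))) (.node (.node (.node (.leaf ([])) (.leaf ([]))) (.node (.leaf ([(-4), 2, 3, 3, (-6)])) (.leaf ([(-1), 1, 0, 1, (-1)])))) (.node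 (.node (.leaf ([0, 0, (-1)])) (.leaf ([1]))) (.leaf ([])))))) (.node (.node (.node (.node (.node (.leaf ([])) (.leaf ([0, 0, (-3)]))) (.node (.leaf ([])) (.leaf ([])))) (.node (.node (.leaf ([])) (.leaf ([]))) (.node (.leaf ([])) (.leaf ([1, 1, (-1), 1, 4]))))) (.node (.node (.node (.leaf ([])) (.leaf ([]))) (.node (.leaf ([])) (.leaf ([2, 0, 1, 0, 4])))) (.node (.node (.leaf ([])) (.leaf ([0, 1, 1, 2, 1]))) (.leaf ([1]))))) (.node (.node (.node (.node (.leaf ([])) (.leaf ([]))) (.node (.leaf ([])) (.leaf ([4, (-2), (-3), (-2), 4])))) (.node (.node (.leaf ([])) (.leaf ([(-10), 6, 3, 10, (-10)]))) (.node (.leaf ([])) (.leaf ([(-1), 0, 1, 0, (-5)]))))) (.node (.node (.node (.leaf ([])) (.leaf ([4, (-1), 1, (-2), 6]))) (.node (.leaf ([])) (.leaf ([])))) (.node (.node (.leaf ([2, (-1), 1, (-1), 2])) (.leaf ([0, 0, (-1), 0, (-1)]))) (.leaf ([]))))))) (.node (.node (.node (.node (.node (.node (.leaf ([])) (.leaf ([1, (-1), 0, (-1), (-1)]))) (.node (.leaf ([]))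 (.leaf ([3, (-4), (-2), (-7), (-5)])))) (.node (.node (.leaf ([])) (.leaf ([(-1), 1, 1, 1, (-2)]))) (.node (.leaf ([])) (.leaf ([(-1), 0, (-1), 0, (-4)]))))) (.node (.node (.node (.leaf ([1])) (.leaf ([]))) (.node (.leaf ([1])) (.leaf ([3, 0, (-7), 0, 6])))) (.node (.node (.leaf ([])) (.leaf ([0, 1, 1, 1]))) (.leaf ([]))))) (.node (.node (.node (.node (.leaf ([])) (.leaf ([]))) (.node (.leaf ([])) (.leaf ([0, 0, 2])))) (.node (.node (.leaf ([])) (.leaf ([]))) (.node (.leaf ([])) (.leaf ([4, (-3), (-1), (-4), 1]))))) (.node (.node (.node (.leaf ([])) (.leaf ([]))) (.node (.leaf ([10, (-4), 6, (-7), 15])) (.leaf ([(-2), 4, (-2), 7, 5])))) (.node (.node (.leaf ([(-9), 4, (-8), 7, (-14)])) (.leaf ([2, (-1), 0, (-1), 1]))) (.leaf ([])))))) (.node (.node (.node (.node (.node (.leaf ([])) (.leaf ([]))) (.node (.leaf ([])) (.leaf ([(-4), 3, 3, 4, (-4)])))) (.node (.node (.leaf ([])) (.leaf ([3, (-1), (-4), (-2), 5]))) (.node (.leaf ([3, (-2), (-1), (-3), 1])) (.leaf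 ([5, 3, 4, 5, 20]))))) (.node (.node (.node (.leaf ([])) (.leaf ([]))) (.node (.leaf ([])) (.leaf ([(-2), 0, 0, 0, (-6)])))) (.node (.node (.leaf ([])) (.leaf ([1, (-1), (-1), (-2), (-1)]))) (.leaf ([]))))) (.node (.node (.node (.node (.leaf ([])) (.leaf ([]))) (.node (.leaf ([])) (.leaf ([])))) (.node (.node (.leaf ([])) (.leaf ([(-4), 3, 3, 4, (-4)]))) (.node (.leaf ([])) (.leaf ([3, (-5), 10, (-9), (-7)]))))) (.node (.node (.node (.leaf ([])) (.leaf ([]))) (.node (.leaf ([])) (.leaf ([(-5), 4, 3, 7, (-3)])))) (.node (.node (.leaf ([])) (.leaf ([1, 0, 0, 0, 1]))) (.leaf ([])))))))) (.node (.node (.node (.node (.node (.node (.node (.leaf ([])) (.leaf ([1, (-1), (-1), (-1)]))) (.node (.leaf ([])) (.leaf ([2, (-4), 5, (-7), (-6)])))) (.node (.node (.leaf ([])) (.leaf ([(-3), 2, 0, 3, (-5)]))) (.node (.leaf ([])) (.leaf ([4, (-2), 0, (-3), 4]))))) (.node (.node (.node (.leaf ([])) (.leaf ([(-4), 2, 3, 3, (-6)]))) (.node (.leaf ([])) (.leaf ([1])))) (.node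 (.node (.leaf ([])) (.leaf ([]))) (.leaf ([0, 0, (-1)]))))) (.node (.node (.node (.node (.leaf ([])) (.leaf ([4, (-4), 0, (-6)]))) (.node (.leaf ([1])) (.leaf ([0, 0, (-1), 0, (-1)])))) (.node (.node (.leaf ([])) (.leaf ([(-9), 3, 3, 6, (-16)]))) (.node (.leaf ([])) (.leaf ([17, (-9), 0, (-15), 20]))))) (.node (.node (.node (.leaf ([1])) (.leaf ([]))) (.node (.leaf ([3, (-1), 0, (-2), 5])) (.leaf ([3, 0, 3, 0, 6])))) (.node (.node (.leaf ([])) (.leaf ([(-2), 0, (-3), 0, (-6)]))) (.leaf ([])))))) (.node (.node (.node (.node (.node (.leaf ([])) (.leaf ([]))) (.node (.leaf ([])) (.leaf ([23, (-10), 9, (-17), 31])))) (.node (.node (.leaf ([])) (.leaf ([(-4), 2, 3, 3, (-6)]))) (.node (.leaf ([4, (-2), 0, (-3), 4])) (.leaf ([6, 1, 1, 1, 17]))))) (.node (.node (.node (.leaf ([])) (.leaf ([2, 0, 0, 0, 3]))) (.node (.leaf ([])) (.leaf ([2, (-2), (-3), (-3), (-2)])))) (.node (.node (.leaf ([3, (-1), 0, (-2), 4])) (.leaf ([]))) (.leaf ([(-1), 1, 1, 1, (-2)]))))) (.node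 (.node (.node (.node (.leaf ([])) (.leaf ([]))) (.node (.leaf ([])) (.leaf ([])))) (.node (.node (.leaf ([0, 0, (-2)])) (.leaf ([]))) (.node (.leaf ([])) (.leaf ([(-1), 0, (-1), 0, (-4)]))))) (.node (.node (.node (.leaf ([])) (.leaf ([]))) (.node (.leaf ([(-1), 1, 0, 1, (-1)])) (.leaf ([(-1), 1, (-1), 1, (-2)])))) (.node (.node (.leaf ([])) (.leaf ([1, 0, (-7), 0, 2]))) (.leaf ([3, (-1), 0, (-2), 5]))))))) (.node (.node (.node (.node (.node (.node (.leaf ([1])) (.leaf ([2, (-1), 1, (-1), 2]))) (.node (.leaf ([1, 0, 1, 0, 2])) (.leaf ([1, 1, 6, 2, 5])))) (.node (.node (.leaf ([0, 1, 0, 1, 1])) (.leaf ([]))) (.node (.leaf ([])) (.leaf ([]))))) (.node (.node (.node (.leaf ([])) (.leaf ([]))) (.node (.leaf ([])) (.leaf ([0, 1, (-1), 2])))) (.node (.node (.leaf ([1])) (.leaf ([]))) (.leaf ([]))))) (.node (.node (.node (.node (.leaf ([])) (.leaf ([0, 1, 0, 1, 1]))) (.node (.leaf ([1, 0, (-1), 0, 2])) (.leaf ([(-4), 0, 1, 0, (-10)])))) (.node (.node (.leaf ([]))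 (.leaf ([(-3), 2, (-1), 3, (-3)]))) (.node (.leaf ([0, 0, 0, 0, (-1)])) (.leaf ([12, (-6), (-2), (-10), 14]))))) (.node (.node (.node (.leaf ([])) (.leaf ([(-1), 1, 0, 1, (-1)]))) (.node (.leaf ([])) (.leaf ([1, (-1), 3, (-2), (-1)])))) (.node (.node (.leaf ([])) (.leaf ([0, 0, (-2)]))) (.leaf ([])))))) (.node (.node (.node (.node (.node (.leaf ([])) (.leaf ([]))) (.node (.leaf ([])) (.leaf ([(-6), 3, 4, 5, (-8)])))) (.node (.node (.leaf ([0, 0, (-1)])) (.leaf ([(-3), 2, 0, 3, (-5)]))) (.node (.leaf ([1, 0, 1, 0, 2])) (.leaf ([1, 1, (-2), 1, 3]))))) (.node (.node (.node (.leaf ([])) (.leaf ([(-1), (-4), 4, (-6), (-13)]))) (.node (.leaf ([])) (.leaf ([(-1), 1, 1, 2, (-1)])))) (.node (.node (.leaf ([])) (.leaf ([0, 1, (-1), 1]))) (.leaf ([]))))) (.node (.node (.node (.node (.leaf ([])) (.leaf ([1, (-1), 1, (-1)]))) (.node (.leaf ([(-1), 1, (-1), 1, (-1)])) (.leaf ([1])))) (.node (.node (.leaf ([])) (.leaf ([(-1), 1, 0, 1, (-1)]))) (.node (.leaf ([0, 0, (-1),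 0, (-1)])) (.leaf ([(-1), 2, (-5), 3]))))) (.node (.node (.node (.leaf ([])) (.leaf ([]))) (.node (.leaf ([])) (.leaf ([(-3), 3, 3, 4, (-1)])))) (.node (.node (.leaf ([])) (.leaf ([(-5), 3, (-1), 5, (-5)]))) (.leaf ([]))))))))))) (.node (.node (.node (.node (.node (.node (.node (.node (.node (.node (.leaf ([])) (.leaf ([]))) (.node (.leaf ([])) (.leaf ([(-7), 4, (-4), 5, (-9)])))) (.node (.node (.leaf ([0, 1])) (.leaf ([]))) (.node (.leaf ([])) (.leaf ([(-1), 0, 1, 0, (-3)]))))) (.node (.node (.node (.leaf ([])) (.leaf ([(-8), 8, (-7), 13]))) (.node (.leaf ([])) (.leaf ([4, (-3), 3, (-5), 2])))) (.node (.node (.leaf ([2, 0, 5, (-1), 5])) (.leaf ([]))) (.leaf ([]))))) (.node (.node (.node (.node (.leaf ([])) (.leaf ([]))) (.node (.leaf ([0, 0, 1, 0, (-1)])) (.leaf ([0, 0, 1, 0, (-1)])))) (.node (.node (.leaf ([(-1), 1, 1, 1, (-2)])) (.leaf ([(-1), 2, 0, 2, 2]))) (.node (.leaf ([])) (.leaf ([5, 3, 9, 4, 19]))))) (.node (.node (.node (.leaf ([])) (.leaf ([0,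 1]))) (.node (.leaf ([])) (.leaf ([0, 1])))) (.node (.node (.leaf ([])) (.leaf ([(-1), 2, 0, 1, 1]))) (.leaf ([2, (-2), 0, (-3)])))))) (.node (.node (.node (.node (.node (.leaf ([])) (.leaf ([]))) (.node (.leaf ([])) (.leaf ([(-13), 0, (-12), (-1), (-33)])))) (.node (.node (.leaf ([])) (.leaf ([4, 0, 2, 0, 9]))) (.node (.leaf ([])) (.leaf ([(-5), 4, 1, 6, (-3)]))))) (.node (.node (.node (.leaf ([])) (.leaf ([4, (-2), 0, (-3), 4]))) (.node (.leaf ([])) (.leaf ([(-2), 0, 1, 0, (-6)])))) (.node (.node (.leaf ([])) (.leaf ([4, (-1), (-3), (-3), 7]))) (.leaf ([]))))) (.node (.node (.node (.node (.leaf ([])) (.leaf ([]))) (.node (.leaf ([1, 0, 1, (-1), 2])) (.leaf ([3, (-1), 4, (-3), 3])))) (.node (.node (.leaf ([])) (.leaf ([2, (-2), 1, (-3), (-1)]))) (.node (.leaf ([1, (-1), 1, (-2), (-1)])) (.leaf ([(-11), 6, (-2), 10, (-14)]))))) (.node (.node (.node (.leaf ([])) (.leaf ([(-8), 3, 1, 5, (-13)]))) (.node (.leaf ([])) (.leaf ([1, 0, (-1), (-1), 2])))) (.node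 (.node (.leaf ([])) (.leaf ([20, (-14), 5, (-24), 15]))) (.leaf ([(-5), 3, 3, 4, (-5)]))))))) (.node (.node (.node (.node (.node (.node (.leaf ([])) (.leaf ([]))) (.node (.leaf ([])) (.leaf ([(-4), 3, (-3), 4, (-4)])))) (.node (.node (.leaf ([])) (.leaf ([]))) (.node (.leaf ([(-4), 2, 3, 3, (-6)])) (.leaf ([5, 0, (-12), (-1), 11]))))) (.node (.node (.node (.leaf ([])) (.leaf ([4, (-1), 5, (-3), 6]))) (.node (.leaf ([])) (.leaf ([])))) (.node (.node (.leaf ([(-5), 3, 5, 4, (-5)])) (.leaf ([4, (-2), (-3), (-4), 5]))) (.leaf ([0, 0, 0, 0, (-1)]))))) (.node (.node (.node (.node (.leaf ([])) (.leaf ([]))) (.node (.leaf ([])) (.leaf ([5, (-1), (-1), (-3), 9])))) (.node (.node (.leaf ([])) (.leaf ([(-4), 2, 2, 3, (-6)]))) (.node (.leaf ([(-4), 6, (-5), 9, 5])) (.leaf ([(-7), 4, 4, 5, (-9)]))))) (.node (.node (.node (.leaf ([])) (.leaf ([1, 0, 0, (-1), 1]))) (.node (.leaf ([])) (.leaf ([])))) (.node (.node (.leaf ([(-4), 2, 2, 3, (-6)])) (.leaf ([(-2), 2, (-1),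 2, (-1)]))) (.leaf ([(-3), 1, 2, 1, (-5)])))))) (.node (.node (.node (.node (.node (.leaf ([])) (.leaf ([2, 0, 0, (-1), 4]))) (.node (.leaf ([])) (.leaf ([])))) (.node (.node (.leaf ([])) (.leaf ([(-4), 3, 1, 4, (-4)]))) (.node (.leaf ([])) (.leaf ([5, (-2), 2, (-4), 6]))))) (.node (.node (.node (.leaf ([])) (.leaf ([6, (-3), 6, (-5), 7]))) (.node (.leaf ([2, (-2), 0, (-3)])) (.leaf ([2, 0, 1, (-1), 3])))) (.node (.node (.leaf ([])) (.leaf ([9, (-3), (-1), (-6), 13]))) (.leaf ([]))))) (.node (.node (.node (.node (.leaf ([])) (.leaf ([]))) (.node (.leaf ([0, 1])) (.leaf ([0, 0, 1, 0, (-1)])))) (.node (.node (.leaf ([])) (.leaf ([2, (-1), 1, (-2), 1]))) (.node (.leaf ([])) (.leaf ([(-3), 4, 4, 6]))))) (.node (.node (.node (.leaf ([3, (-1), 4, (-2), 4])) (.leaf ([2, 0, 0, (-1), 4]))) (.node (.leaf ([2, (-1), 0, (-1)])) (.leaf ([0, 1])))) (.node (.node (.leaf ([])) (.leaf ([2, (-1), 1, (-2)]))) (.leaf ([(-2), 2, 1, 2])))))))) (.node (.node (.node (.node (.node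 (.node (.node (.leaf ([])) (.leaf ([]))) (.node (.leaf ([(-2), 2, 0, 2, (-1)])) (.leaf ([(-2), 0, 7, 0, (-5)])))) (.node (.node (.leaf ([])) (.leaf ([]))) (.node (.leaf ([])) (.leaf ([25, (-10), 9, (-17), 37]))))) (.node (.node (.node (.leaf ([])) (.leaf ([]))) (.node (.leaf ([])) (.leaf ([(-3), 0, (-2), 0, (-9)])))) (.node (.node (.leaf ([])) (.leaf ([]))) (.leaf ([1, (-1), 0, (-1)]))))) (.node (.node (.node (.node (.leaf ([])) (.leaf ([]))) (.node (.leaf ([])) (.leaf ([1, 5, 2, 7, 15])))) (.node (.node (.leaf ([])) (.leaf ([2, 0, 1, (-1), 3]))) (.node (.leaf ([])) (.leaf ([0, 1]))))) (.node (.node (.node (.leaf ([])) (.leaf ([]))) (.node (.leaf ([])) (.leaf ([3, 1, 1, 1, 9])))) (.node (.node (.leaf ([])) (.leaf ([0, 0, 2, 0, (-1)]))) (.leaf ([0, 1])))))) (.node (.node (.node (.node (.node (.leaf ([])) (.leaf ([]))) (.node (.leaf ([])) (.leaf ([])))) (.node (.node (.leaf ([])) (.leaf ([(-2), 1, (-1), 2, (-4)]))) (.node (.leaf ([])) (.leaf ([4, (-2), 0,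 (-4), 4]))))) (.node (.node (.node (.leaf ([])) (.leaf ([(-1), 1, 1, 1, (-2)]))) (.node (.leaf ([1, (-1), (-1), (-2)])) (.leaf ([0, 3, 2, 4, 7])))) (.node (.node (.leaf ([])) (.leaf ([]))) (.leaf ([]))))) (.node (.node (.node (.node (.leaf ([])) (.leaf ([]))) (.node (.leaf ([4, (-2), (-3), (-4), 5])) (.leaf ([0, 1])))) (.node (.node (.leaf ([1, (-1), 0, (-1)])) (.leaf ([(-2), 2, 0, 2, (-1)]))) (.node (.leaf ([0, 1])) (.leaf ([0, 1, (-6)]))))) (.node (.node (.node (.leaf ([])) (.leaf ([]))) (.node (.leaf ([])) (.leaf ([1, 0, (-1), (-1), 1])))) (.node (.node (.leaf ([])) (.leaf ([]))) (.leaf ([]))))))) (.node (.node (.node (.node (.node (.node (.leaf ([])) (.leaf ([]))) (.node (.leaf ([])) (.leaf ([1, 1, (-1), 0, 4])))) (.node (.node (.leaf ([])) (.leaf ([]))) (.node (.leaf ([1, (-1), 0, (-1)])) (.leaf ([1, (-5), 6, (-9), (-11)]))))) (.node (.node (.node (.leaf ([])) (.leaf ([2, (-1), 0, (-1), 1]))) (.node (.leaf ([])) (.leaf ([2, (-6), (-4), (-10), (-11)]))))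 (.node (.node (.leaf ([])) (.leaf ([]))) (.leaf ([]))))) (.node (.node (.node (.node (.leaf ([])) (.leaf ([5, (-5), (-6), (-9), (-1)]))) (.node (.leaf ([])) (.leaf ([(-9), 3, (-7), 4, (-15)])))) (.node (.node (.leaf ([])) (.leaf ([2, 0, 1, (-1), 3]))) (.node (.leaf ([])) (.leaf ([(-12), 3, (-7), 4, (-24)]))))) (.node (.node (.node (.leaf ([])) (.leaf ([(-4), 3, 3, 4, (-5)]))) (.node (.leaf ([])) (.leaf ([1, (-2), 1, (-3), (-3)])))) (.node (.node (.leaf ([])) (.leaf ([2, (-1), (-5), (-3), 1]))) (.leaf ([1, 0, 0, (-1), 1])))))) (.node (.node (.node (.node (.node (.leaf ([])) (.leaf ([(-3), 2, 0, 2, (-4)]))) (.node (.leaf ([])) (.leaf ([0, (-2), (-5), (-4), (-5)])))) (.node (.node (.leaf ([1, (-1), 0, (-1)])) (.leaf ([]))) (.node (.leaf ([])) (.leaf ([3, (-2), 1, (-3), 1]))))) (.node (.node (.node (.leaf ([])) (.leaf ([]))) (.node (.leaf ([0, 1])) (.leaf ([(-5), 2, (-1), 3, (-9)])))) (.node (.node (.leaf ([])) (.leaf ([1, 0, (-1), (-1), 2]))) (.leaf ([1, (-1),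 (-1), (-2)]))))) (.node (.node (.node (.node (.leaf ([])) (.leaf ([1, (-1), (-1), (-2)]))) (.node (.leaf ([])) (.leaf ([0, 1])))) (.node (.node (.leaf ([])) (.leaf ([]))) (.node (.leaf ([2, 0, 0, (-1), 4])) (.leaf ([7, (-2), (-2), (-5), 11]))))) (.node (.node (.node (.leaf ([])) (.leaf ([0, 1]))) (.node (.leaf ([])) (.leaf ([8, (-2), 3, (-4), 15])))) (.node (.node (.leaf ([])) (.leaf ([(-2), 0, 3, 0, (-5)]))) (.leaf ([(-4), 2, 2, 3, (-6)]))))))))) (.node (.node (.node (.node (.node (.node (.node (.node (.leaf ([])) (.leaf ([(-2), 1, 0, 1, (-4)]))) (.node (.leaf ([])) (.leaf ([(-6), 4, (-3), 6, (-5)])))) (.node (.node (.leaf ([])) (.leaf ([(-5), 2, 0, 3, (-8)]))) (.node (.leaf ([])) (.leaf ([(-4), 3, 1, 4, (-4)]))))) (.node (.node (.node (.leaf ([])) (.leaf ([0, 1]))) (.node (.leaf ([2, (-1), 0, (-2), 2])) (.leaf ([2, (-1), (-1), (-2)])))) (.node (.node (.leaf ([])) (.leaf ([]))) (.leaf ([]))))) (.node (.node (.node (.node (.leaf ([])) (.leaf ([]))) (.node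 (.leaf ([])) (.leaf ([7, 3, (-9), 4, 25])))) (.node (.node (.leaf ([])) (.leaf ([]))) (.node (.leaf ([])) (.leaf ([0, 0, 1, (-1), (-1)]))))) (.node (.node (.node (.leaf ([])) (.leaf ([(-14), 6, (-4), 10, (-20)]))) (.node (.leaf ([])) (.leaf ([(-2), 1, 0, 2, (-4)])))) (.node (.node (.leaf ([])) (.leaf ([1, (-1), 0, (-2), (-2)]))) (.leaf ([])))))) (.node (.node (.node (.node (.node (.leaf ([])) (.leaf ([(-1), 1, (-3), 1, (-2)]))) (.node (.leaf ([])) (.leaf ([(-1), (-1), (-4), (-3), (-5)])))) (.node (.node (.leaf ([])) (.leaf ([2, (-2), 0, (-3)]))) (.node (.leaf ([])) (.leaf ([3, 0, 0, (-1), 7]))))) (.node (.node (.node (.leaf ([])) (.leaf ([4, (-3), 0, (-4), 2]))) (.node (.leaf ([])) (.leaf ([10, (-4), 1, (-7), 13])))) (.node (.node (.leaf ([])) (.leaf ([2, (-1), (-1), (-2), 2]))) (.leaf ([]))))) (.node (.node (.node (.node (.leaf ([])) (.leaf ([]))) (.node (.leaf ([2, (-2), 0, (-3)])) (.leaf ([1, 1, 1, 0, 4])))) (.node (.node (.leaf ([])) (.leaf ([(-4),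 2, (-3), 3, (-7)]))) (.node (.leaf ([])) (.leaf ([(-2), 2, (-1), 2, (-1)]))))) (.node (.node (.node (.leaf ([])) (.leaf ([(-11), 6, (-7), 9, (-15)]))) (.node (.leaf ([])) (.leaf ([1, (-1), 0, (-2), (-2)])))) (.node (.node (.leaf ([])) (.leaf ([(-3), 2, 0, 3, (-3)]))) (.leaf ([4, (-2), (-2), (-4), 5]))))))) (.node (.node (.node (.node (.node (.node (.leaf ([])) (.leaf ([(-2), 2, 0, 2, (-1)]))) (.node (.leaf ([])) (.leaf ([(-3), 2, 1, 3, (-3)])))) (.node (.node (.leaf ([(-4), 2, (-2), 3, (-6)])) (.leaf ([(-2), 1, 3, 2, (-3)]))) (.node (.leaf ([])) (.leaf ([6, (-2), 1, (-4), 8]))))) (.node (.node (.node (.leaf ([0, 1])) (.leaf ([(-3), 1, 3, 1, (-5)]))) (.node (.leaf ([])) (.leaf ([9, (-5), (-2), (-9), 9])))) (.node (.node (.leaf ([])) (.leaf ([0, 1, 2, 1, 2]))) (.leaf ([1, (-1), (-1), (-2)]))))) (.node (.node (.node (.node (.leaf ([])) (.leaf ([0, 1]))) (.node (.leaf ([])) (.leaf ([13, (-4), 2, (-8), 22])))) (.node (.node (.leaf ([])) (.leaf ([3, (-2), 2,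 (-3), 2]))) (.node (.leaf ([])) (.leaf ([3, (-2), 0, (-3)]))))) (.node (.node (.node (.leaf ([])) (.leaf ([4, (-1), 2, (-2), 7]))) (.node (.leaf ([])) (.leaf ([(-1), 1, 1, 1, (-2)])))) (.node (.node (.leaf ([])) (.leaf ([(-5), 2, (-2), 3, (-8)]))) (.leaf ([(-2), 2, (-1), 2])))))) (.node (.node (.node (.node (.node (.leaf ([])) (.leaf ([]))) (.node (.leaf ([1, 0, 0, (-1), 1])) (.leaf ([(-4), 3, (-4), 4, (-3)])))) (.node (.node (.leaf ([])) (.leaf ([(-6), 4, (-3), 6, (-6)]))) (.node (.leaf ([3, (-2), 0, (-3), 2])) (.leaf ([(-4), 2, 2, 3, (-6)]))))) (.node (.node (.node (.leaf ([])) (.leaf ([(-2), 2, 0, 2, (-1)]))) (.node (.leaf ([])) (.leaf ([(-3), 2, 3, 2, (-3)])))) (.node (.node (.leaf ([])) (.leaf ([0, 1]))) (.leaf ([]))))) (.node (.node (.node (.node (.leaf ([])) (.leaf ([]))) (.node (.leaf ([1, (-1), 1, (-2)])) (.leaf ([(-8), 3, (-3), 5, (-13)])))) (.node (.node (.leaf ([1, 0, (-1), (-1), 2])) (.leaf ([(-3), 2, 3, 2, (-4)]))) (.node (.leaf ([])) (.leaf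 ([(-4), 4, (-3), 5, (-2)]))))) (.node (.node (.node (.leaf ([])) (.leaf ([6, 0, (-1), 0, 14]))) (.node (.leaf ([])) (.leaf ([0, (-1), (-4), (-2), (-3)])))) (.node (.node (.leaf ([1, (-1), 0, (-1)])) (.leaf ([1, 1, 1, 1, 5]))) (.leaf ([1, (-1), 0, (-1)])))))))) (.node (.node (.node (.node (.node (.node (.node (.leaf ([])) (.leaf ([(-3), 2, (-1), 2, (-3)]))) (.node (.leaf ([])) (.leaf ([(-1), 0, 1, 0, (-3)])))) (.node (.node (.leaf ([])) (.leaf ([(-1), 0, 1, 0, (-4)]))) (.node (.leaf ([])) (.leaf ([1, 1, (-1), 0, 4]))))) (.node (.node (.node (.leaf ([])) (.leaf ([]))) (.node (.leaf ([])) (.leaf ([(-1), 0, 5, 0, (-4)])))) (.node (.node (.leaf ([])) (.leaf ([]))) (.leaf ([]))))) (.node (.node (.node (.node (.leaf ([])) (.leaf ([4, (-2), (-3), (-4), 5]))) (.node (.leaf ([0, 1])) (.leaf ([0, 1, (-8), 1, 2])))) (.node (.node (.leaf ([])) (.leaf ([1, (-1), 4, (-1)]))) (.node (.leaf ([(-2), 2, (-1), 2])) (.leaf ([8, (-6), (-5), (-10), 5]))))) (.node (.node (.node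 (.leaf ([0, 1])) (.leaf ([]))) (.node (.leaf ([])) (.leaf ([])))) (.node (.node (.leaf ([])) (.leaf ([(-4), 2, (-2), 2, (-7)]))) (.leaf ([1, 0, (-1), (-1), 2])))))) (.node (.node (.node (.node (.node (.leaf ([])) (.leaf ([(-2), 2, (-1), 2]))) (.node (.leaf ([])) (.leaf ([(-8), 5, (-6), 7, (-8)])))) (.node (.node (.leaf ([])) (.leaf ([(-2), 0, 1, 0, (-6)]))) (.node (.leaf ([])) (.leaf ([3, 0, (-1), (-1), 5]))))) (.node (.node (.node (.leaf ([])) (.leaf ([]))) (.node (.leaf ([])) (.leaf ([2, (-2), (-2), (-3), (-1)])))) (.node (.node (.leaf ([])) (.leaf ([1, (-1), (-1), (-2)]))) (.leaf ([(-1), 1, 1, 1, (-2)]))))) (.node (.node (.node (.node (.leaf ([])) (.leaf ([]))) (.node (.leaf ([])) (.leaf ([(-1), 2, (-1), 2])))) (.node (.node (.leaf ([0, 0, (-2)])) (.leaf ([]))) (.node (.leaf ([])) (.leaf ([3, (-4), (-2), (-8), (-4)]))))) (.node (.node (.node (.leaf ([])) (.leaf ([]))) (.node (.leaf ([(-2), 2, 1, 2])) (.leaf ([(-2), 2, (-1), 2, (-1)])))) (.node (.node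 (.leaf ([(-4), 2, (-1), 3, (-6)])) (.leaf ([]))) (.leaf ([]))))))) (.node (.node (.node (.node (.node (.node (.leaf ([])) (.leaf ([]))) (.node (.leaf ([])) (.leaf ([0, 2, 6, 2, 5])))) (.node (.node (.leaf ([])) (.leaf ([3, 1, 0, 1, 9]))) (.node (.leaf ([])) (.leaf ([0, (-2), 3, (-4), (-5)]))))) (.node (.node (.node (.leaf ([])) (.leaf ([2, (-4), 5, (-7), (-6)]))) (.node (.leaf ([(-1), 1, 1, 1, (-2)])) (.leaf ([(-1), 2, 0, 3])))) (.node (.node (.leaf ([0, 1])) (.leaf ([]))) (.leaf ([]))))) (.node (.node (.node (.node (.leaf ([1, (-1), 0, (-1)])) (.leaf ([3, 0, 4, (-1), 7]))) (.node (.leaf ([])) (.leaf ([2, (-1), 3, (-2), 2])))) (.node (.node (.leaf ([])) (.leaf ([]))) (.node (.leaf ([0, 0, 1, 0, (-1)])) (.leaf ([]))))) (.node (.node (.node (.leaf ([])) (.leaf ([(-3), 2, 0, 2, (-4)]))) (.node (.leaf ([(-5), 3, 1, 4, (-5)])) (.leaf ([3, 3, (-3), 4, 13])))) (.node (.node (.leaf ([])) (.leaf ([]))) (.leaf ([4, (-1), (-2), (-3), 6])))))) (.node (.node (.node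 (.node (.node (.leaf ([0, 1])) (.leaf ([]))) (.node (.leaf ([(-4), 2, (-1), 3, (-6)])) (.leaf ([(-2), 0, 1, (-1), (-5)])))) (.node (.node (.leaf ([])) (.leaf ([(-3), 2, 1, 3, (-3)]))) (.node (.leaf ([])) (.leaf ([1, (-2), 1, (-4), (-3)]))))) (.node (.node (.node (.leaf ([])) (.leaf ([]))) (.node (.leaf ([])) (.leaf ([(-2), 2, (-1), 3, (-1)])))) (.node (.node (.leaf ([])) (.leaf ([(-3), 1, (-2), 1, (-5)]))) (.leaf ([8, (-3), (-2), (-5), 12]))))) (.node (.node (.node (.node (.leaf ([])) (.leaf ([]))) (.node (.leaf ([])) (.leaf ([13, (-4), 3, (-8), 20])))) (.node (.node (.leaf ([(-2), 2, (-1), 2])) (.leaf ([0, 0, 1, 0, (-1)]))) (.node (.leaf ([(-3), 2, 4, 3, (-3)])) (.leaf ([(-9), 9, (-4), 14, (-1)]))))) (.node (.node (.node (.leaf ([])) (.leaf ([4, (-3), (-1), (-5), 2]))) (.node (.leaf ([2, (-4), 4, (-7), (-6)])) (.leaf ([2, (-2), 15, (-3), (-1)])))) (.node (.node (.leaf ([])) (.leaf ([]))) (.leaf ([])))))))))) (.node (.node (.node (.node (.node (.node (.node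 (.node (.node (.leaf ([])) (.leaf ([]))) (.node (.leaf ([])) (.leaf ([(-3), 1, 0, 1, (-6)])))) (.node (.node (.leaf ([1, (-1), 0, (-1)])) (.leaf ([1, (-1), (-1), (-2)]))) (.node (.leaf ([])) (.leaf ([(-13), 7, 1, 11, (-15)]))))) (.node (.node (.node (.leaf ([])) (.leaf ([]))) (.node (.leaf ([])) (.leaf ([0, 0, 0, 0, (-1)])))) (.node (.node (.leaf ([1, 0, 0, (-1), 1])) (.leaf ([(-1), 2, (-1), 2, 1]))) (.leaf ([]))))) (.node (.node (.node (.node (.leaf ([])) (.leaf ([]))) (.node (.leaf ([(-3), 2, 0, 2, (-4)])) (.leaf ([(-3), 2, (-4), 2, (-4)])))) (.node (.node (.leaf ([])) (.leaf ([(-2), 4, 0, 6, 5]))) (.node (.leaf ([0, 0, 2])) (.leaf ([2, (-4), (-1), (-8), (-7)]))))) (.node (.node (.node (.leaf ([(-3), 2, 0, 2, (-4)])) (.leaf ([]))) (.node (.leaf ([1, 0, (-1), (-1), 2])) (.leaf ([1, 0, 0, (-1), 1])))) (.node (.node (.leaf ([4, (-2), 0, (-3), 4])) (.leaf ([]))) (.leaf ([4, (-4), 2, (-7)])))))) (.node (.node (.node (.node (.node (.leaf ([])) (.leaf ([0, 1])))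 (.node (.leaf ([0, 0, 6])) (.leaf ([])))) (.node (.node (.leaf ([])) (.leaf ([9, (-3), 1, (-5), 14]))) (.node (.leaf ([])) (.leaf ([(-28), 13, (-12), 21, (-38)]))))) (.node (.node (.node (.leaf ([])) (.leaf ([0, 1]))) (.node (.leaf ([])) (.leaf ([(-18), 9, (-5), 14, (-24)])))) (.node (.node (.leaf ([])) (.leaf ([]))) (.leaf ([]))))) (.node (.node (.node (.node (.leaf ([])) (.leaf ([]))) (.node (.leaf ([2, 0, 0, (-1), 4])) (.leaf ([1, (-3), 8, (-6), (-5)])))) (.node (.node (.leaf ([])) (.leaf ([(-3), 2, (-1), 2, (-3)]))) (.node (.leaf ([])) (.leaf ([(-1), 1, (-7), 1, (-2)]))))) (.node (.node (.node (.leaf ([])) (.leaf ([(-15), 8, (-3), 13, (-18)]))) (.node (.leaf ([0, 1])) (.leaf ([(-1), 1, (-1), 1, (-1)])))) (.node (.node (.leaf ([])) (.leaf ([2, (-2), 0, (-3)]))) (.leaf ([]))))))) (.node (.node (.node (.node (.node (.node (.leaf ([])) (.leaf ([]))) (.node (.leaf ([])) (.leaf ([4, (-1), (-2), (-3), 6])))) (.node (.node (.leaf ([])) (.leaf ([2, (-1), (-1),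 (-2), 2]))) (.node (.leaf ([])) (.leaf ([1, (-1), 0, (-1)]))))) (.node (.node (.node (.leaf ([])) (.leaf ([]))) (.node (.leaf ([])) (.leaf ([(-2), 0, (-1), 0, (-6)])))) (.node (.node (.leaf ([(-3), 2, 4, 2, (-4)])) (.leaf ([12, (-4), (-1), (-7), 20]))) (.leaf ([]))))) (.node (.node (.node (.node (.leaf ([])) (.leaf ([]))) (.node (.leaf ([])) (.leaf ([(-13), 7, (-19), 11, (-15)])))) (.node (.node (.leaf ([])) (.leaf ([]))) (.node (.leaf ([1, 0, 0, (-1), 1])) (.leaf ([]))))) (.node (.node (.node (.leaf ([])) (.leaf ([]))) (.node (.leaf ([4, (-1), 2, (-3), 6])) (.leaf ([2, (-2), 1, (-3), (-1)])))) (.node (.node (.leaf ([])) (.leaf ([2, 0, (-3), (-1), 4]))) (.leaf ([(-4), 3, 1, 4, (-4)])))))) (.node (.node (.node (.node (.node (.leaf ([])) (.leaf ([]))) (.node (.leaf ([2, 0, 5, (-1), 5])) (.leaf ([])))) (.node (.node (.leaf ([])) (.leaf ([(-2), 2, (-1), 2]))) (.node (.leaf ([])) (.leaf ([15, (-9), 3, (-15), 15]))))) (.node (.node (.node (.leaf ([])) (.leaf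 ([(-1), 0, 4, 0, (-3)]))) (.node (.leaf ([4, (-4), (-2), (-7)])) (.leaf ([2, (-2), 1, (-3), (-1)])))) (.node (.node (.leaf ([1, 0, 1, (-1), 2])) (.leaf ([4, (-2), 9, (-4), 5]))) (.leaf ([]))))) (.node (.node (.node (.node (.leaf ([])) (.leaf ([(-1), 2, 1, 2, 1]))) (.node (.leaf ([1, (-1), 0, (-1)])) (.leaf ([1, (-1), 1, (-2), (-1)])))) (.node (.node (.leaf ([])) (.leaf ([0, 1]))) (.node (.leaf ([(-1), 1, 1, 1, (-1)])) (.leaf ([1, (-1), 1, (-3), (-1)]))))) (.node (.node (.node (.leaf ([1, (-1), 0, (-1), (-1)])) (.leaf ([5, (-2), 1, (-4), 5]))) (.node (.leaf ([2, (-1), (-1), (-1), 2])) (.leaf ([10, 4, 11, 6, 35])))) (.node (.node (.leaf ([0, 1])) (.leaf ([(-18), 6, (-2), 10, (-30)]))) (.leaf ([])))))))) (.node (.node (.node (.node (.node (.node (.node (.leaf ([])) (.leaf ([1, (-1), 0, (-1)]))) (.node (.leaf ([])) (.leaf ([1, 0, (-1), (-1), 2])))) (.node (.node (.leaf ([])) (.leaf ([]))) (.node (.leaf ([])) (.leaf ([11, (-4), 6, (-8), 16]))))) (.node (.node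 (.node (.leaf ([])) (.leaf ([1, 0, 3, (-1), 2]))) (.node (.leaf ([])) (.leaf ([10, (-7), (-10), (-11), 7])))) (.node (.node (.leaf ([(-5), 3, (-1), 4, (-5)])) (.leaf ([(-1), 1, 1, 1, (-1)]))) (.leaf ([2, (-1), 1, (-2)]))))) (.node (.node (.node (.node (.leaf ([])) (.leaf ([(-3), 2, 0, 3, (-3)]))) (.node (.leaf ([2, 0, (-1), (-1), 5])) (.leaf ([2, 4, (-8), 5, 14])))) (.node (.node (.leaf ([])) (.leaf ([]))) (.node (.leaf ([])) (.leaf ([(-5), 1, (-1), 1, (-11)]))))) (.node (.node (.node (.leaf ([])) (.leaf ([(-2), 2, (-1), 2]))) (.node (.leaf ([(-2), 2, (-1), 2])) (.leaf ([(-1), 2, (-1), 2, 1])))) (.node (.node (.leaf ([])) (.leaf ([1, 0, (-1), (-1), 1]))) (.leaf ([1, (-1), 0, (-1)])))))) (.node (.node (.node (.node (.node (.leaf ([])) (.leaf ([(-4), 3, 0, 4, (-3)]))) (.node (.leaf ([])) (.leaf ([(-5), 1, 4, 1, (-11)])))) (.node (.node (.leaf ([])) (.leaf ([(-3), 1, (-2), 2, (-6)]))) (.node (.leaf ([(-2), 2, 0, 2, (-1)])) (.leaf ([(-4), 4, 0, 6]))))) (.node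 (.node (.node (.leaf ([])) (.leaf ([]))) (.node (.leaf ([])) (.leaf ([0, 1, 1, 1, 1])))) (.node (.node (.leaf ([(-2), 2, 1, 2])) (.leaf ([(-11), 6, (-2), 9, (-13)]))) (.leaf ([(-3), 1, (-1), 1, (-5)]))))) (.node (.node (.node (.node (.leaf ([])) (.leaf ([2, (-1), (-1), (-2), 2]))) (.node (.leaf ([])) (.leaf ([])))) (.node (.node (.leaf ([])) (.leaf ([(-5), 2, (-5), 3, (-9)]))) (.node (.leaf ([1, (-1), 0, (-1)])) (.leaf ([(-6), 5, (-4), 8, (-4)]))))) (.node (.node (.node (.leaf ([])) (.leaf ([(-1), 1, 1, 1, (-1)]))) (.node (.leaf ([1, (-1), 1, (-2)])) (.leaf ([])))) (.node (.node (.leaf ([(-1), 0, 0, 0, (-3)])) (.leaf ([(-2), 0, (-17), (-1), (-5)]))) (.leaf ([]))))))) (.node (.node (.node (.node (.node (.node (.leaf ([])) (.leaf ([]))) (.node (.leaf ([])) (.leaf ([4, (-2), (-2), (-4), 5])))) (.node (.node (.leaf ([])) (.leaf ([(-2), 0, (-5), 0, (-6)]))) (.node (.leaf ([])) (.leaf ([(-10), 9, 0, 14, (-4)]))))) (.node (.node (.node (.leaf ([])) (.leaf ([])))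 (.node (.leaf ([(-3), 1, (-1), 1, (-5)])) (.leaf ([(-12), 4, (-2), 7, (-20)])))) (.node (.node (.leaf ([2, 0, (-1), (-1), 5])) (.leaf ([(-1), 1, 0, 1, (-1)]))) (.leaf ([]))))) (.node (.node (.node (.node (.leaf ([0, 1])) (.leaf ([]))) (.node (.leaf ([(-2), 2, 1, 2])) (.leaf ([(-8), 2, 2, 2, (-15)])))) (.node (.node (.leaf ([])) (.leaf ([3, (-2), 1, (-3), 1]))) (.node (.leaf ([(-4), 2, (-1), 3, (-6)])) (.leaf ([0, 1, 5, 1, 1]))))) (.node (.node (.node (.leaf ([])) (.leaf ([0, 0, 1, 0, (-1)]))) (.node (.leaf ([4, (-2), 2, (-4), 5])) (.leaf ([(-6), 4, (-4), 6, (-7)])))) (.node (.node (.leaf ([])) (.leaf ([0, 1]))) (.leaf ([])))))) (.node (.node (.node (.node (.node (.leaf ([])) (.leaf ([]))) (.node (.leaf ([])) (.leaf ([(-6), 0, 8, (-1), (-16)])))) (.node (.node (.leaf ([])) (.leaf ([(-2), 5, (-4), 7, 6]))) (.node (.leaf ([])) (.leaf ([(-3), 1, 0, 1, (-6)]))))) (.node (.node (.node (.leaf ([])) (.leaf ([1, 0, 0, 0, 1]))) (.node (.leaf ([1, (-1), 0, (-1)]))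 (.leaf ([])))) (.node (.node (.leaf ([])) (.leaf ([]))) (.leaf ([]))))) (.node (.node (.node (.node (.leaf ([])) (.leaf ([]))) (.node (.leaf ([0, 0, 0, 0, (-1)])) (.leaf ([0, 0, 1, 0, (-2)])))) (.node (.node (.leaf ([])) (.leaf ([]))) (.node (.leaf ([2, (-2), 0, (-3)])) (.leaf ([11, (-2), 0, (-4), 21]))))) (.node (.node (.node (.leaf ([])) (.leaf ([1, (-1), 0, (-1)]))) (.node (.leaf ([])) (.leaf ([5, (-2), (-1), (-4), 7])))) (.node (.node (.leaf ([(-1), 1, 1, 1, (-2)])) (.leaf ([(-1), 1, 1, 1, (-2)]))) (.leaf ([]))))))))) (.node (.node (.node (.node (.node (.node (.node (.node (.leaf ([])) (.leaf ([]))) (.node (.leaf ([])) (.leaf ([(-1), 4, (-3), 6, 7])))) (.node (.node (.leaf ([])) (.leaf ([(-6), 4, (-1), 6, (-6)]))) (.node (.leaf ([])) (.leaf ([4, (-1), (-2), (-3), 6]))))) (.node (.node (.node (.leaf ([])) (.leaf ([0, 0, 2]))) (.node (.leaf ([])) (.leaf ([0, (-2), (-3), (-4), (-6)])))) (.node (.node (.leaf ([])) (.leaf ([]))) (.leaf ([0, 1]))))) (.node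 (.node (.node (.node (.leaf ([])) (.leaf ([(-1), 1, 1, 1, (-1)]))) (.node (.leaf ([])) (.leaf ([3, 0, 1, (-1), 7])))) (.node (.node (.leaf ([])) (.leaf ([0, 1, 1, 1, 1]))) (.node (.leaf ([])) (.leaf ([2, (-1), (-5), (-3), 1]))))) (.node (.node (.node (.leaf ([])) (.leaf ([(-3), 2, (-8), 3, (-4)]))) (.node (.leaf ([(-3), 1, 2, 1, (-5)])) (.leaf ([])))) (.node (.node (.leaf ([])) (.leaf ([5, (-3), (-3), (-5), 5]))) (.leaf ([])))))) (.node (.node (.node (.node (.node (.leaf ([])) (.leaf ([(-1), 1, 0, 1]))) (.node (.leaf ([])) (.leaf ([(-2), 1, 0, 1, (-4)])))) (.node (.node (.leaf ([])) (.leaf ([(-2), 2, (-4), 3]))) (.node (.leaf ([6, (-3), 2, (-5), 7])) (.leaf ([1, 1, 1, 0, 4]))))) (.node (.node (.node (.leaf ([])) (.leaf ([(-10), 2, 3, 3, (-21)]))) (.node (.leaf ([])) (.leaf ([(-1), 4, 4, 6, 5])))) (.node (.node (.leaf ([])) (.leaf ([(-1), 1, 1, 1, (-2)]))) (.leaf ([2, (-1), (-1), (-2), 2]))))) (.node (.node (.node (.node (.leaf ([])) (.leaf ([]))) (.node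 (.leaf ([(-3), 2, 4, 3, (-3)])) (.leaf ([1, (-1), 0, (-1), (-2)])))) (.node (.node (.leaf ([0, 1])) (.leaf ([]))) (.node (.leaf ([2, 0, (-1), (-1), 5])) (.leaf ([(-1), 0, (-1), (-1), (-5)]))))) (.node (.node (.node (.leaf ([])) (.leaf ([0, 1]))) (.node (.leaf ([])) (.leaf ([0, 0, 2, 0, (-1)])))) (.node (.node (.leaf ([])) (.leaf ([6, (-4), 2, (-7), 5]))) (.leaf ([]))))))) (.node (.node (.node (.node (.node (.node (.leaf ([])) (.leaf ([]))) (.node (.leaf ([])) (.leaf ([(-5), 3, (-1), 4, (-5)])))) (.node (.node (.leaf ([])) (.leaf ([]))) (.node (.leaf ([0, 1])) (.leaf ([10, (-6), 1, (-10), 9]))))) (.node (.node (.node (.leaf ([1, (-1), 0, (-1)])) (.leaf ([(-1), 2, 0, 1, 1]))) (.node (.leaf ([2, (-1), (-1), (-2), 2])) (.leaf ([7, (-2), (-11), (-4), 11])))) (.node (.node (.leaf ([])) (.leaf ([0, 1]))) (.leaf ([(-5), 2, (-4), 3, (-8)]))))) (.node (.node (.node (.node (.leaf ([])) (.leaf ([]))) (.node (.leaf ([(-1), 1, 1, 1, (-1)])) (.leaf ([2, (-1), 1, (-3),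 1])))) (.node (.node (.leaf ([])) (.leaf ([]))) (.node (.leaf ([4, (-1), 2, (-2), 7])) (.leaf ([5, (-4), (-2), (-7)]))))) (.node (.node (.node (.leaf ([])) (.leaf ([]))) (.node (.leaf ([9, (-3), 5, (-6), 15])) (.leaf ([(-4), 4, (-2), 6, (-1)])))) (.node (.node (.leaf ([])) (.leaf ([0, (-1), 0, (-1), (-3)]))) (.leaf ([])))))) (.node (.node (.node (.node (.node (.leaf ([])) (.leaf ([0, 0, 1, 0, (-1)]))) (.node (.leaf ([])) (.leaf ([(-2), 2, (-1), 2])))) (.node (.node (.leaf ([0, 1])) (.leaf ([1, 0, 0, (-1), 1]))) (.node (.leaf ([])) (.leaf ([4, 4, 1, 5, 18]))))) (.node (.node (.node (.leaf ([])) (.leaf ([1, (-1), 0, (-1), (-2)]))) (.node (.leaf ([])) (.leaf ([(-6), (-3), 8, (-5), (-23)])))) (.node (.node (.leaf ([1, (-1), 0, (-1), (-1)])) (.leaf ([(-3), 3, 1, 4, (-1)]))) (.leaf ([]))))) (.node (.node (.node (.node (.leaf ([])) (.leaf ([3, 0, 0, (-1), 7]))) (.node (.leaf ([])) (.leaf ([3, (-10), 7, (-17), (-18)])))) (.node (.node (.leaf ([])) (.leaf ([(-5),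 6, 6, 9, 1]))) (.node (.leaf ([(-1), 2, 1, 2])) (.leaf ([6, (-7), 10, (-13), (-4)]))))) (.node (.node (.node (.leaf ([(-3), 2, 4, 3, (-3)])) (.leaf ([]))) (.node (.leaf ([])) (.leaf ([])))) (.node (.node (.leaf ([])) (.leaf ([(-1), 0, (-3), 0, (-4)]))) (.leaf ([(-3), 4, 2, 6, 2])))))))) (.node (.node (.node (.node (.node (.node (.node (.leaf ([])) (.leaf ([]))) (.node (.leaf ([])) (.leaf ([1, 1, 3, 1, 5])))) (.node (.node (.leaf ([])) (.leaf ([]))) (.node (.leaf ([(-10), 2, 1, 3, (-21)])) (.leaf ([4, (-2), (-2), (-4), 5]))))) (.node (.node (.node (.leaf ([])) (.leaf ([(-3), 1, (-2), 1, (-5)]))) (.node (.leaf ([])) (.leaf ([2, (-1), (-1), (-2), 2])))) (.node (.node (.leaf ([])) (.leaf ([(-3), 2, (-4), 3, (-3)]))) (.leaf ([]))))) (.node (.node (.node (.node (.leaf ([])) (.leaf ([4, (-4), (-1), (-7)]))) (.node (.leaf ([1, (-1), 0, (-1)])) (.leaf ([2, 0, (-2), (-1), 5])))) (.node (.node (.leaf ([(-2), 2, 0, 2, (-1)])) (.leaf ([(-1), 3, 5, 5, 4]))) (.node (.leaf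 ([])) (.leaf ([(-1), 1, 1, 1, (-2)]))))) (.node (.node (.node (.leaf ([1, (-1), 0, (-1)])) (.leaf ([3, 0, 1, (-1), 5]))) (.node (.leaf ([1, 0, 0, (-1), 1])) (.leaf ([(-1), 1, 1, 1, (-1)])))) (.node (.node (.leaf ([])) (.leaf ([]))) (.leaf ([(-1), 0, 1, 0, (-3)])))))) (.node (.node (.node (.node (.node (.leaf ([])) (.leaf ([]))) (.node (.leaf ([(-2), 2, (-1), 2])) (.leaf ([(-4), 0, 2, 0, (-10)])))) (.node (.node (.leaf ([(-1), 0, 0, 0, (-3)])) (.leaf ([(-3), 1, 2, 1, (-5)]))) (.node (.leaf ([])) (.leaf ([9, (-1), (-3), (-3), 19]))))) (.node (.node (.node (.leaf ([])) (.leaf ([]))) (.node (.leaf ([])) (.leaf ([])))) (.node (.node (.leaf ([])) (.leaf ([(-20), 10, (-11), 16, (-26)]))) (.leaf ([]))))) (.node (.node (.node (.node (.leaf ([])) (.leaf ([(-1), 1, (-3), 1, (-2)]))) (.node (.leaf ([])) (.leaf ([])))) (.node (.node (.leaf ([])) (.leaf ([(-3), 2, (-4), 3, (-3)]))) (.node (.leaf ([])) (.leaf ([10, (-6), 1, (-10), 9]))))) (.node (.node (.node (.leaf ([]))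 (.leaf ([(-1), 2, 1, 2]))) (.node (.leaf ([(-2), 2, 0, 1])) (.leaf ([(-2), 4, 4, 6, 3])))) (.node (.node (.leaf ([])) (.leaf ([0, 1]))) (.leaf ([1, (-1), 1, (-2)]))))))) (.node (.node (.node (.node (.node (.node (.leaf ([])) (.leaf ([]))) (.node (.leaf ([0, 1])) (.leaf ([1, (-1), 0, (-1)])))) (.node (.node (.leaf ([])) (.leaf ([7, (-2), 1, (-4), 11]))) (.node (.leaf ([(-1), 1, 1, 1, (-2)])) (.leaf ([(-12), 6, (-6), 9, (-16)]))))) (.node (.node (.node (.leaf ([])) (.leaf ([]))) (.node (.leaf ([])) (.leaf ([(-2), 1, 3, 2, (-4)])))) (.node (.node (.leaf ([1, (-1), 0, (-1)])) (.leaf ([3, 0, 0, (-1), 7]))) (.leaf ([(-1), 0, 1, 0, (-4)]))))) (.node (.node (.node (.node (.leaf ([])) (.leaf ([4, (-1), 1, (-3), 7]))) (.node (.leaf ([])) (.leaf ([(-5), 0, 0, (-1), (-13)])))) (.node (.node (.leaf ([])) (.leaf ([]))) (.node (.leaf ([(-3), 2, 0, 2, (-4)])) (.leaf ([27, (-10), (-1), (-17), 41]))))) (.node (.node (.node (.leaf ([])) (.leaf ([1, (-1), 1, (-2), (-1)])))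 (.node (.leaf ([])) (.leaf ([(-3), 3, 1, 4, (-1)])))) (.node (.node (.leaf ([])) (.leaf ([(-2), (-3), 4, (-6), (-13)]))) (.leaf ([(-3), 2, 5, 3, (-3)])))))) (.node (.node (.node (.node (.node (.leaf ([])) (.leaf ([(-1), 2, (-1), 2, 1]))) (.node (.leaf ([])) (.leaf ([(-9), 5, 3, 7, (-11)])))) (.node (.node (.leaf ([])) (.leaf ([(-2), 1, (-1), 1, (-3)]))) (.node (.leaf ([0, 1])) (.leaf ([(-1), 1, (-7), 1, (-2)]))))) (.node (.node (.node (.leaf ([])) (.leaf ([]))) (.node (.leaf ([0, 0, 6])) (.leaf ([2, (-1), 1, (-2), 1])))) (.node (.node (.leaf ([])) (.leaf ([4, (-1), 1, (-3), 6]))) (.leaf ([]))))) (.node (.node (.node (.node (.leaf ([])) (.leaf ([4, (-2), 1, (-4), 5]))) (.node (.leaf ([1, (-1), (-1), (-2)])) (.leaf ([2, (-2), 0, (-2), (-1)])))) (.node (.node (.leaf ([])) (.leaf ([]))) (.node (.leaf ([(-2), 4, (-5), 6, 5])) (.leaf ([0, 1, (-10)]))))) (.node (.node (.node (.leaf ([])) (.leaf ([0, 0, 4, 0, (-1)]))) (.node (.leaf ([])) (.leaf ([0, 1, 2])))) (.node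 (.node (.leaf ([])) (.leaf ([(-8), 5, (-2), 7, (-8)]))) (.leaf ([])))))))))))

/-- data -/
def rank3 : Trie (ℕ) := .node (.node (.node (.node (.node (.node (.node (.node (.node (.node (.node (.leaf 0) (.leaf 120)) (.node (.leaf 0) (.leaf 452))) (.node (.node (.leaf 0) (.leaf 752)) (.node (.leaf 0) (.leaf 958)))) (.node (.node (.node (.leaf 0) (.leaf 0)) (.node (.leaf 0) (.leaf 191))) (.node (.node (.leaf 0) (.leaf 0)) (.leaf 0)))) (.node (.node (.node (.node (.leaf 0) (.leaf 447)) (.node (.leaf 0) (.leaf 707))) (.node (.node (.leaf 0) (.leaf 367)) (.node (.leaf 0) (.leaf 713)))) (.node (.node (.node (.leaf 0) (.leaf 798)) (.node (.leaf 604) (.leaf 374))) (.node (.node (.leaf 0) (.leaf 0)) (.leaf 160))))) (.node (.node (.node (.node (.node (.leaf 0) (.leaf 0)) (.node (.leaf 0) (.leaf 671))) (.node (.node (.leaf 0) (.leaf 889)) (.node (.leaf 0) (.leaf 792)))) (.node (.node (.node (.leaf 459) (.leaf 855)) (.node (.leaf 0) (.leaf 938))) (.node (.node (.leaf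 0) (.leaf 127)) (.leaf 502)))) (.node (.node (.node (.node (.leaf 0) (.leaf 882)) (.node (.leaf 0) (.leaf 605))) (.node (.node (.leaf 0) (.leaf 769)) (.node (.leaf 250) (.leaf 797)))) (.node (.node (.node (.leaf 0) (.leaf 0)) (.node (.leaf 0) (.leaf 311))) (.node (.node (.leaf 0) (.leaf 738)) (.leaf 461)))))) (.node (.node (.node (.node (.node (.node (.leaf 0) (.leaf 731)) (.node (.leaf 0) (.leaf 0))) (.node (.node (.leaf 0) (.leaf 505)) (.node (.leaf 0) (.leaf 0)))) (.node (.node (.node (.leaf 0) (.leaf 184)) (.node (.leaf 402) (.leaf 683))) (.node (.node (.leaf 0) (.leaf 302)) (.leaf 0)))) (.node (.node (.node (.node (.leaf 0) (.leaf 569)) (.node (.leaf 0) (.leaf 723))) (.node (.node (.leaf 0) (.leaf 0)) (.node (.leaf 0) (.leaf 674)))) (.node (.node (.node (.leaf 0) (.leaf 538)) (.node (.leaf 0) (.leaf 589))) (.node (.node (.leaf 0) (.leaf 266)) (.leaf 390))))) (.node (.node (.node (.node (.node (.leaf 0) (.leaf 0)) (.node (.leaf 0) (.leaf 741))) (.node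 (.node (.leaf 0) (.leaf 0)) (.node (.leaf 529) (.leaf 742)))) (.node (.node (.node (.leaf 0) (.leaf 736)) (.node (.leaf 161) (.leaf 132))) (.node (.node (.leaf 0) (.leaf 689)) (.leaf 0)))) (.node (.node (.node (.node (.leaf 0) (.leaf 0)) (.node (.leaf 0) (.leaf 789))) (.node (.node (.leaf 467) (.leaf 438)) (.node (.leaf 87) (.leaf 484)))) (.node (.node (.node (.leaf 0) (.leaf 816)) (.node (.leaf 15) (.leaf 685))) (.node (.node (.leaf 0) (.leaf 0)) (.leaf 70))))))) (.node (.node (.node (.node (.node (.node (.node (.leaf 0) (.leaf 355)) (.node (.leaf 0) (.leaf 27))) (.node (.node (.leaf 75) (.leaf 352)) (.node (.leaf 0) (.leaf 928)))) (.node (.node (.node (.leaf 0) (.leaf 340)) (.node (.leaf 0) (.leaf 702))) (.node (.node (.leaf 0) (.leaf 93)) (.leaf 18)))) (.node (.node (.node (.node (.leaf 0) (.leaf 568)) (.node (.leaf 0) (.leaf 716))) (.node (.node (.leaf 0) (.leaf 72)) (.node (.leaf 0) (.leaf 321)))) (.node (.node (.node (.leaf 0) (.leaf 729)) (.node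 (.leaf 0) (.leaf 0))) (.node (.node (.leaf 0) (.leaf 0)) (.leaf 0))))) (.node (.node (.node (.node (.node (.leaf 0) (.leaf 510)) (.node (.leaf 0) (.leaf 333))) (.node (.node (.leaf 0) (.leaf 572)) (.node (.leaf 0) (.leaf 193)))) (.node (.node (.node (.leaf 0) (.leaf 0)) (.node (.leaf 144) (.leaf 836))) (.node (.node (.leaf 218) (.leaf 898)) (.leaf 0)))) (.node (.node (.node (.node (.leaf 0) (.leaf 0)) (.node (.leaf 179) (.leaf 254))) (.node (.node (.leaf 7) (.leaf 526)) (.node (.leaf 0) (.leaf 809)))) (.node (.node (.node (.leaf 0) (.leaf 750)) (.node (.leaf 84) (.leaf 326))) (.node (.node (.leaf 0) (.leaf 895)) (.leaf 0)))))) (.node (.node (.node (.node (.node (.node (.leaf 0) (.leaf 0)) (.node (.leaf 0) (.leaf 815))) (.node (.node (.leaf 0) (.leaf 0)) (.node (.leaf 16) (.leaf 860)))) (.node (.node (.node (.leaf 0) (.leaf 0)) (.node (.leaf 0) (.leaf 906))) (.node (.node (.leaf 0) (.leaf 582)) (.leaf 0)))) (.node (.node (.node (.node (.leaf 0) (.leaf 858))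 (.node (.leaf 221) (.leaf 354))) (.node (.node (.leaf 0) (.leaf 125)) (.node (.leaf 0) (.leaf 796)))) (.node (.node (.node (.leaf 0) (.leaf 0)) (.node (.leaf 0) (.leaf 598))) (.node (.node (.leaf 0) (.leaf 392)) (.leaf 282))))) (.node (.node (.node (.node (.node (.leaf 0) (.leaf 319)) (.node (.leaf 0) (.leaf 774))) (.node (.node (.leaf 6) (.leaf 0)) (.node (.leaf 0) (.leaf 373)))) (.node (.node (.node (.leaf 0) (.leaf 406)) (.node (.leaf 0) (.leaf 450))) (.node (.node (.leaf 0) (.leaf 256)) (.leaf 149)))) (.node (.node (.node (.node (.leaf 0) (.leaf 155)) (.node (.leaf 82) (.leaf 581))) (.node (.node (.leaf 669) (.leaf 570)) (.node (.leaf 0) (.leaf 688)))) (.node (.node (.node (.leaf 0) (.leaf 0)) (.node (.leaf 0) (.leaf 739))) (.node (.node (.leaf 0) (.leaf 435)) (.leaf 0)))))))) (.node (.node (.node (.node (.node (.node (.node (.node (.leaf 0) (.leaf 0)) (.node (.leaf 0) (.leaf 842))) (.node (.node (.leaf 0) (.leaf 493)) (.node (.leaf 0) (.leaf 915))))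 (.node (.node (.node (.leaf 0) (.leaf 531)) (.node (.leaf 118) (.leaf 262))) (.node (.node (.leaf 0) (.leaf 349)) (.leaf 0)))) (.node (.node (.node (.node (.leaf 0) (.leaf 92)) (.node (.leaf 247) (.leaf 859))) (.node (.node (.leaf 0) (.leaf 0)) (.node (.leaf 86) (.leaf 290)))) (.node (.node (.node (.leaf 0) (.leaf 0)) (.node (.leaf 0) (.leaf 366))) (.node (.node (.leaf 0) (.leaf 525)) (.leaf 827))))) (.node (.node (.node (.node (.node (.leaf 0) (.leaf 0)) (.node (.leaf 80) (.leaf 772))) (.node (.node (.leaf 0) (.leaf 162)) (.node (.leaf 0) (.leaf 278)))) (.node (.node (.node (.leaf 0) (.leaf 613)) (.node (.leaf 0) (.leaf 801))) (.node (.node (.leaf 78) (.leaf 25)) (.leaf 652)))) (.node (.node (.node (.node (.leaf 0) (.leaf 283)) (.node (.leaf 0) (.leaf 216))) (.node (.node (.leaf 0) (.leaf 368)) (.node (.leaf 0) (.leaf 890)))) (.node (.node (.node (.leaf 0) (.leaf 610)) (.node (.leaf 522) (.leaf 607))) (.node (.node (.leaf 0) (.leaf 0)) (.leaf 513))))))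 (.node (.node (.node (.node (.node (.node (.leaf 0) (.leaf 527)) (.node (.leaf 0) (.leaf 840))) (.node (.node (.leaf 0) (.leaf 0)) (.node (.leaf 0) (.leaf 485)))) (.node (.node (.node (.leaf 0) (.leaf 500)) (.node (.leaf 0) (.leaf 0))) (.node (.node (.leaf 0) (.leaf 0)) (.leaf 264)))) (.node (.node (.node (.node (.leaf 0) (.leaf 112)) (.node (.leaf 81) (.leaf 825))) (.node (.node (.leaf 137) (.leaf 547)) (.node (.leaf 875) (.leaf 164)))) (.node (.node (.node (.leaf 74) (.leaf 690)) (.node (.leaf 0) (.leaf 323))) (.node (.node (.leaf 0) (.leaf 451)) (.leaf 347))))) (.node (.node (.node (.node (.node (.leaf 0) (.leaf 653)) (.node (.leaf 128) (.leaf 0))) (.node (.node (.leaf 0) (.leaf 0)) (.node (.leaf 0) (.leaf 835)))) (.node (.node (.node (.leaf 0) (.leaf 0)) (.node (.leaf 701) (.leaf 806))) (.node (.node (.leaf 0) (.leaf 341)) (.leaf 0)))) (.node (.node (.node (.node (.leaf 0) (.leaf 698)) (.node (.leaf 0) (.leaf 833))) (.node (.node (.leaf 0) (.leaf 407))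 (.node (.leaf 223) (.leaf 913)))) (.node (.node (.node (.leaf 0) (.leaf 710)) (.node (.leaf 85) (.leaf 937))) (.node (.node (.leaf 10) (.leaf 95)) (.leaf 0))))))) (.node (.node (.node (.node (.node (.node (.node (.leaf 0) (.leaf 327)) (.node (.leaf 141) (.leaf 933))) (.node (.node (.leaf 332) (.leaf 0)) (.node (.leaf 848) (.leaf 782)))) (.node (.node (.node (.leaf 0) (.leaf 0)) (.node (.leaf 682) (.leaf 891))) (.node (.node (.leaf 0) (.leaf 757)) (.leaf 720)))) (.node (.node (.node (.node (.leaf 0) (.leaf 183)) (.node (.leaf 0) (.leaf 872))) (.node (.node (.leaf 0) (.leaf 0)) (.node (.leaf 0) (.leaf 912)))) (.node (.node (.node (.leaf 0) (.leaf 0)) (.node (.leaf 0) (.leaf 785))) (.node (.node (.leaf 0) (.leaf 316)) (.leaf 0))))) (.node (.node (.node (.node (.node (.leaf 0) (.leaf 411)) (.node (.leaf 0) (.leaf 901))) (.node (.node (.leaf 0) (.leaf 0)) (.node (.leaf 135) (.leaf 281)))) (.node (.node (.node (.leaf 0) (.leaf 0)) (.node (.leaf 0) (.leaf 611)))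 (.node (.node (.leaf 198) (.leaf 159)) (.leaf 0)))) (.node (.node (.node (.node (.leaf 0) (.leaf 0)) (.node (.leaf 303) (.leaf 903))) (.node (.node (.leaf 0) (.leaf 918)) (.node (.leaf 0) (.leaf 864)))) (.node (.node (.node (.leaf 288) (.leaf 721)) (.node (.leaf 69) (.leaf 648))) (.node (.node (.leaf 0) (.leaf 843)) (.leaf 90)))))) (.node (.node (.node (.node (.node (.node (.leaf 0) (.leaf 0)) (.node (.leaf 0) (.leaf 0))) (.node (.node (.leaf 0) (.leaf 0)) (.node (.leaf 0) (.leaf 922)))) (.node (.node (.node (.leaf 73) (.leaf 817)) (.node (.leaf 0) (.leaf 0))) (.node (.node (.leaf 0) (.leaf 767)) (.leaf 0)))) (.node (.node (.node (.node (.leaf 2) (.leaf 0)) (.node (.leaf 334) (.leaf 28))) (.node (.node (.leaf 0) (.leaf 511)) (.node (.leaf 0) (.leaf 873)))) (.node (.node (.node (.leaf 0) (.leaf 440)) (.node (.leaf 0) (.leaf 724))) (.node (.node (.leaf 398) (.leaf 545)) (.leaf 0))))) (.node (.node (.node (.node (.node (.leaf 0) (.leaf 0)) (.node (.leaf 0)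 (.leaf 592))) (.node (.node (.leaf 0) (.leaf 754)) (.node (.leaf 0) (.leaf 885)))) (.node (.node (.node (.leaf 0) (.leaf 260)) (.node (.leaf 0) (.leaf 722))) (.node (.node (.leaf 0) (.leaf 436)) (.leaf 0)))) (.node (.node (.node (.node (.leaf 0) (.leaf 519)) (.node (.leaf 299) (.leaf 0))) (.node (.node (.leaf 0) (.leaf 0)) (.node (.leaf 0) (.leaf 935)))) (.node (.node (.node (.leaf 0) (.leaf 660)) (.node (.leaf 0) (.leaf 32))) (.node (.node (.leaf 0) (.leaf 362)) (.leaf 532))))))))) (.node (.node (.node (.node (.node (.node (.node (.node (.node (.leaf 0) (.leaf 530)) (.node (.leaf 0) (.leaf 224))) (.node (.node (.leaf 5) (.leaf 851)) (.node (.leaf 602) (.leaf 725)))) (.node (.node (.node (.leaf 0) (.leaf 714)) (.node (.leaf 0) (.leaf 495))) (.node (.node (.leaf 342) (.leaf 0)) (.leaf 308)))) (.node (.node (.node (.node (.leaf 0) (.leaf 0)) (.node (.leaf 348) (.leaf 595))) (.node (.node (.leaf 0) (.leaf 520)) (.node (.leaf 0) (.leaf 693)))) (.node (.node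 (.node (.leaf 0) (.leaf 0)) (.node (.leaf 0) (.leaf 400))) (.node (.node (.leaf 9) (.leaf 330)) (.leaf 0))))) (.node (.node (.node (.node (.node (.leaf 0) (.leaf 460)) (.node (.leaf 0) (.leaf 608))) (.node (.node (.leaf 0) (.leaf 528)) (.node (.leaf 0) (.leaf 953)))) (.node (.node (.node (.leaf 0) (.leaf 138)) (.node (.leaf 508) (.leaf 0))) (.node (.node (.leaf 0) (.leaf 0)) (.leaf 561)))) (.node (.node (.node (.node (.leaf 71) (.leaf 831)) (.node (.leaf 0) (.leaf 950))) (.node (.node (.leaf 257) (.leaf 503)) (.node (.leaf 0) (.leaf 896)))) (.node (.node (.node (.leaf 0) (.leaf 0)) (.node (.leaf 421) (.leaf 691))) (.node (.node (.leaf 0) (.leaf 230)) (.leaf 360)))))) (.node (.node (.node (.node (.node (.node (.leaf 0) (.leaf 893)) (.node (.leaf 0) (.leaf 393))) (.node (.node (.leaf 0) (.leaf 23)) (.node (.leaf 0) (.leaf 791)))) (.node (.node (.node (.leaf 0) (.leaf 0)) (.node (.leaf 0) (.leaf 830))) (.node (.node (.leaf 601) (.leaf 759)) (.leaf 275))))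 (.node (.node (.node (.node (.leaf 0) (.leaf 0)) (.node (.leaf 0) (.leaf 959))) (.node (.node (.leaf 0) (.leaf 364)) (.node (.leaf 134) (.leaf 934)))) (.node (.node (.node (.leaf 0) (.leaf 869)) (.node (.leaf 0) (.leaf 31))) (.node (.node (.leaf 0) (.leaf 142)) (.leaf 0))))) (.node (.node (.node (.node (.node (.leaf 0) (.leaf 0)) (.node (.leaf 0) (.leaf 0))) (.node (.node (.leaf 0) (.leaf 343)) (.node (.leaf 0) (.leaf 555)))) (.node (.node (.node (.leaf 0) (.leaf 0)) (.node (.leaf 0) (.leaf 923))) (.node (.node (.leaf 0) (.leaf 228)) (.leaf 553)))) (.node (.node (.node (.node (.leaf 0) (.leaf 0)) (.node (.leaf 12) (.leaf 267))) (.node (.node (.leaf 0) (.leaf 517)) (.node (.leaf 0) (.leaf 694)))) (.node (.node (.node (.leaf 0) (.leaf 659)) (.node (.leaf 0) (.leaf 960))) (.node (.node (.leaf 0) (.leaf 765)) (.leaf 279))))))) (.node (.node (.node (.node (.node (.node (.node (.leaf 0) (.leaf 287)) (.node (.leaf 129) (.leaf 559))) (.node (.node (.leaf 0) (.leaf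 0)) (.node (.leaf 0) (.leaf 802)))) (.node (.node (.node (.leaf 0) (.leaf 0)) (.node (.leaf 0) (.leaf 880))) (.node (.node (.leaf 0) (.leaf 0)) (.leaf 0)))) (.node (.node (.node (.node (.leaf 0) (.leaf 0)) (.node (.leaf 0) (.leaf 609))) (.node (.node (.leaf 0) (.leaf 747)) (.node (.leaf 566) (.leaf 457)))) (.node (.node (.node (.leaf 0) (.leaf 766)) (.node (.leaf 0) (.leaf 814))) (.node (.node (.leaf 0) (.leaf 0)) (.leaf 20))))) (.node (.node (.node (.node (.node (.leaf 0) (.leaf 0)) (.node (.leaf 534) (.leaf 850))) (.node (.node (.leaf 273) (.leaf 24)) (.node (.leaf 0) (.leaf 0)))) (.node (.node (.node (.leaf 0) (.leaf 543)) (.node (.leaf 0) (.leaf 291))) (.node (.node (.leaf 0) (.leaf 677)) (.leaf 89)))) (.node (.node (.node (.node (.leaf 0) (.leaf 21)) (.node (.leaf 0) (.leaf 907))) (.node (.node (.leaf 0) (.leaf 437)) (.node (.leaf 17) (.leaf 787)))) (.node (.node (.node (.leaf 0) (.leaf 0)) (.node (.leaf 552) (.leaf 662))) (.node (.node (.leaf 0) (.leaf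 930)) (.leaf 338)))))) (.node (.node (.node (.node (.node (.node (.leaf 0) (.leaf 0)) (.node (.leaf 258) (.leaf 370))) (.node (.node (.leaf 0) (.leaf 818)) (.node (.leaf 0) (.leaf 863)))) (.node (.node (.node (.leaf 0) (.leaf 130)) (.node (.leaf 83) (.leaf 163))) (.node (.node (.leaf 0) (.leaf 417)) (.leaf 309)))) (.node (.node (.node (.node (.leaf 0) (.leaf 775)) (.node (.leaf 0) (.leaf 594))) (.node (.node (.leaf 0) (.leaf 312)) (.node (.leaf 0) (.leaf 781)))) (.node (.node (.node (.leaf 0) (.leaf 768)) (.node (.leaf 509) (.leaf 730))) (.node (.node (.leaf 116) (.leaf 276)) (.leaf 0))))) (.node (.node (.node (.node (.node (.leaf 0) (.leaf 251)) (.node (.leaf 0) (.leaf 0))) (.node (.node (.leaf 0) (.leaf 0)) (.node (.leaf 647) (.leaf 777)))) (.node (.node (.node (.leaf 0) (.leaf 0)) (.node (.leaf 14) (.leaf 932))) (.node (.node (.leaf 0) (.leaf 229)) (.leaf 0)))) (.node (.node (.node (.node (.leaf 0) (.leaf 0)) (.node (.leaf 0) (.leaf 726))) (.node (.node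 (.leaf 0) (.leaf 666)) (.node (.leaf 0) (.leaf 165)))) (.node (.node (.node (.leaf 0) (.leaf 22)) (.node (.leaf 226) (.leaf 678))) (.node (.node (.leaf 0) (.leaf 0)) (.leaf 285)))))))) (.node (.node (.node (.node (.node (.node (.node (.node (.leaf 0) (.leaf 507)) (.node (.leaf 0) (.leaf 711))) (.node (.node (.leaf 0) (.leaf 0)) (.node (.leaf 0) (.leaf 304)))) (.node (.node (.node (.leaf 0) (.leaf 0)) (.node (.leaf 0) (.leaf 819))) (.node (.node (.leaf 0) (.leaf 0)) (.leaf 0)))) (.node (.node (.node (.node (.leaf 0) (.leaf 0)) (.node (.leaf 0) (.leaf 773))) (.node (.node (.leaf 0) (.leaf 203)) (.node (.leaf 346) (.leaf 307)))) (.node (.node (.node (.leaf 0) (.leaf 0)) (.node (.leaf 387) (.leaf 684))) (.node (.node (.leaf 79) (.leaf 26)) (.leaf 0))))) (.node (.node (.node (.node (.node (.leaf 0) (.leaf 91)) (.node (.leaf 0) (.leaf 0))) (.node (.node (.leaf 0) (.leaf 0)) (.node (.leaf 0) (.leaf 329)))) (.node (.node (.node (.leaf 0) (.leaf 0)) (.node (.leaf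 0) (.leaf 537))) (.node (.node (.leaf 0) (.leaf 318)) (.leaf 19)))) (.node (.node (.node (.node (.leaf 0) (.leaf 0)) (.node (.leaf 0) (.leaf 587))) (.node (.node (.leaf 0) (.leaf 939)) (.node (.leaf 0) (.leaf 949)))) (.node (.node (.node (.leaf 0) (.leaf 536)) (.node (.leaf 0) (.leaf 0))) (.node (.node (.leaf 286) (.leaf 188)) (.leaf 0)))))) (.node (.node (.node (.node (.node (.node (.leaf 0) (.leaf 153)) (.node (.leaf 0) (.leaf 770))) (.node (.node (.leaf 0) (.leaf 663)) (.node (.leaf 0) (.leaf 853)))) (.node (.node (.node (.leaf 3) (.leaf 0)) (.node (.leaf 13) (.leaf 857))) (.node (.node (.leaf 0) (.leaf 114)) (.leaf 0)))) (.node (.node (.node (.node (.leaf 0) (.leaf 0)) (.node (.leaf 0) (.leaf 231))) (.node (.node (.leaf 0) (.leaf 0)) (.node (.leaf 0) (.leaf 718)))) (.node (.node (.node (.leaf 0) (.leaf 0)) (.node (.leaf 654) (.leaf 839))) (.node (.node (.leaf 681) (.leaf 289)) (.leaf 0))))) (.node (.node (.node (.node (.node (.leaf 0) (.leaf 0)) (.node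 (.leaf 0) (.leaf 673))) (.node (.node (.leaf 0) (.leaf 794)) (.node (.leaf 546) (.leaf 808)))) (.node (.node (.node (.leaf 0) (.leaf 0)) (.node (.leaf 0) (.leaf 909))) (.node (.node (.leaf 0) (.leaf 351)) (.leaf 0)))) (.node (.node (.node (.node (.leaf 0) (.leaf 0)) (.node (.leaf 0) (.leaf 0))) (.node (.node (.leaf 0) (.leaf 665)) (.node (.leaf 0) (.leaf 744)))) (.node (.node (.node (.leaf 0) (.leaf 0)) (.node (.leaf 0) (.leaf 846))) (.node (.node (.leaf 0) (.leaf 540)) (.leaf 0))))))) (.node (.node (.node (.node (.node (.node (.node (.leaf 0) (.leaf 152)) (.node (.leaf 0) (.leaf 697))) (.node (.node (.leaf 0) (.leaf 414)) (.node (.leaf 0) (.leaf 372)))) (.node (.node (.node (.leaf 0) (.leaf 431)) (.node (.leaf 0) (.leaf 30))) (.node (.node (.leaf 0) (.leaf 0)) (.leaf 88)))) (.node (.node (.node (.node (.leaf 0) (.leaf 371)) (.node (.leaf 11) (.leaf 190))) (.node (.node (.leaf 0) (.leaf 563)) (.node (.leaf 0) (.leaf 795)))) (.node (.node (.node (.leaf 4)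 (.leaf 0)) (.node (.leaf 315) (.leaf 491))) (.node (.node (.leaf 0) (.leaf 612)) (.leaf 0))))) (.node (.node (.node (.node (.node (.leaf 0) (.leaf 0)) (.node (.leaf 0) (.leaf 911))) (.node (.node (.leaf 0) (.leaf 401)) (.node (.leaf 514) (.leaf 786)))) (.node (.node (.node (.leaf 0) (.leaf 369)) (.node (.leaf 0) (.leaf 778))) (.node (.node (.leaf 512) (.leaf 0)) (.leaf 274)))) (.node (.node (.node (.node (.leaf 0) (.leaf 0)) (.node (.leaf 0) (.leaf 0))) (.node (.node (.leaf 77) (.leaf 0)) (.node (.leaf 0) (.leaf 862)))) (.node (.node (.node (.leaf 0) (.leaf 0)) (.node (.leaf 201) (.leaf 403))) (.node (.node (.leaf 0) (.leaf 732)) (.leaf 603)))))) (.node (.node (.node (.node (.node (.node (.leaf 1) (.leaf 788)) (.node (.leaf 246) (.leaf 844))) (.node (.node (.leaf 115) (.leaf 0)) (.node (.leaf 0) (.leaf 0)))) (.node (.node (.node (.leaf 0) (.leaf 0)) (.node (.leaf 0) (.leaf 562))) (.node (.node (.leaf 8) (.leaf 0)) (.leaf 0)))) (.node (.node (.node (.node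 (.leaf 0) (.leaf 122)) (.node (.leaf 185) (.leaf 363))) (.node (.node (.leaf 0) (.leaf 365)) (.node (.leaf 410) (.leaf 929)))) (.node (.node (.node (.leaf 0) (.leaf 712)) (.node (.leaf 0) (.leaf 905))) (.node (.node (.leaf 0) (.leaf 94)) (.leaf 0))))) (.node (.node (.node (.node (.node (.leaf 0) (.leaf 0)) (.node (.leaf 0) (.leaf 391))) (.node (.node (.leaf 76) (.leaf 523)) (.node (.leaf 249) (.leaf 606)))) (.node (.node (.node (.leaf 0) (.leaf 593)) (.node (.leaf 0) (.leaf 328))) (.node (.node (.leaf 0) (.leaf 187)) (.leaf 0)))) (.node (.node (.node (.node (.leaf 0) (.leaf 227)) (.node (.leaf 261) (.leaf 29))) (.node (.node (.leaf 0) (.leaf 252)) (.node (.leaf 181) (.leaf 916)))) (.node (.node (.node (.leaf 0) (.leaf 0)) (.node (.leaf 0) (.leaf 804))) (.node (.node (.leaf 0) (.leaf 497)) (.leaf 0)))))))))) (.node (.node (.node (.node (.node (.node (.node (.node (.node (.node (.leaf 0) (.leaf 0)) (.node (.leaf 0) (.leaf 473))) (.node (.node (.leaf 37) (.leaf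 0)) (.node (.leaf 0) (.leaf 359)))) (.node (.node (.node (.leaf 0) (.leaf 943)) (.node (.leaf 0) (.leaf 841))) (.node (.node (.leaf 422) (.leaf 0)) (.leaf 0)))) (.node (.node (.node (.node (.leaf 0) (.leaf 0)) (.node (.leaf 136) (.leaf 154))) (.node (.node (.leaf 210) (.leaf 172)) (.node (.leaf 0) (.leaf 914)))) (.node (.node (.node (.leaf 0) (.leaf 56)) (.node (.leaf 0) (.leaf 66))) (.node (.node (.leaf 0) (.leaf 173)) (.leaf 219))))) (.node (.node (.node (.node (.node (.leaf 0) (.leaf 0)) (.node (.leaf 0) (.leaf 852))) (.node (.node (.leaf 0) (.leaf 877)) (.node (.leaf 0) (.leaf 728)))) (.node (.node (.node (.leaf 0) (.leaf 854)) (.node (.leaf 0) (.leaf 575))) (.node (.node (.leaf 0) (.leaf 779)) (.leaf 0)))) (.node (.node (.node (.node (.leaf 0) (.leaf 0)) (.node (.leaf 576) (.leaf 571))) (.node (.node (.leaf 0) (.leaf 560)) (.node (.leaf 477) (.leaf 838)))) (.node (.node (.node (.leaf 0) (.leaf 884)) (.node (.leaf 0) (.leaf 324))) (.node (.node (.leaf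 0) (.leaf 832)) (.leaf 430)))))) (.node (.node (.node (.node (.node (.node (.leaf 0) (.leaf 0)) (.node (.leaf 0) (.leaf 556))) (.node (.node (.leaf 0) (.leaf 0)) (.node (.leaf 646) (.leaf 821)))) (.node (.node (.node (.leaf 0) (.leaf 664)) (.node (.leaf 0) (.leaf 0))) (.node (.node (.leaf 656) (.leaf 384)) (.leaf 245)))) (.node (.node (.node (.node (.leaf 0) (.leaf 0)) (.node (.leaf 0) (.leaf 638))) (.node (.node (.leaf 0) (.leaf 490)) (.node (.leaf 763) (.leaf 760)))) (.node (.node (.node (.leaf 0) (.leaf 551)) (.node (.leaf 0) (.leaf 0))) (.node (.node (.leaf 397) (.leaf 242)) (.leaf 476))))) (.node (.node (.node (.node (.node (.leaf 0) (.leaf 524)) (.node (.leaf 0) (.leaf 0))) (.node (.node (.leaf 0) (.leaf 310)) (.node (.leaf 0) (.leaf 640)))) (.node (.node (.node (.leaf 0) (.leaf 687)) (.node (.leaf 215) (.leaf 269))) (.node (.node (.leaf 0) (.leaf 680)) (.leaf 0)))) (.node (.node (.node (.node (.leaf 0) (.leaf 0)) (.node (.leaf 44) (.leaf 157))) (.node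 (.node (.leaf 0) (.leaf 280)) (.node (.leaf 0) (.leaf 456)))) (.node (.node (.node (.leaf 558) (.leaf 331)) (.node (.leaf 107) (.leaf 67))) (.node (.node (.leaf 0) (.leaf 361)) (.leaf 641))))))) (.node (.node (.node (.node (.node (.node (.node (.leaf 0) (.leaf 0)) (.node (.leaf 168) (.leaf 749))) (.node (.node (.leaf 0) (.leaf 0)) (.node (.leaf 0) (.leaf 957)))) (.node (.node (.node (.leaf 0) (.leaf 0)) (.node (.leaf 0) (.leaf 573))) (.node (.node (.leaf 0) (.leaf 0)) (.leaf 110)))) (.node (.node (.node (.node (.leaf 0) (.leaf 0)) (.node (.leaf 0) (.leaf 642))) (.node (.node (.leaf 0) (.leaf 353)) (.node (.leaf 0) (.leaf 68)))) (.node (.node (.node (.leaf 0) (.leaf 0)) (.node (.leaf 0) (.leaf 897))) (.node (.node (.leaf 0) (.leaf 253)) (.leaf 51))))) (.node (.node (.node (.node (.node (.leaf 0) (.leaf 0)) (.node (.leaf 0) (.leaf 0))) (.node (.node (.leaf 0) (.leaf 506)) (.node (.leaf 0) (.leaf 478)))) (.node (.node (.node (.leaf 0) (.leaf 418)) (.node (.leaf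 189) (.leaf 762))) (.node (.node (.leaf 0) (.leaf 0)) (.leaf 0)))) (.node (.node (.node (.node (.leaf 0) (.leaf 0)) (.node (.leaf 469) (.leaf 64))) (.node (.node (.leaf 101) (.leaf 241)) (.node (.leaf 49) (.leaf 628)))) (.node (.node (.node (.leaf 0) (.leaf 0)) (.node (.leaf 0) (.leaf 240))) (.node (.node (.leaf 0) (.leaf 0)) (.leaf 0)))))) (.node (.node (.node (.node (.node (.node (.leaf 0) (.leaf 0)) (.node (.leaf 0) (.leaf 619))) (.node (.node (.leaf 0) (.leaf 0)) (.node (.leaf 108) (.leaf 868)))) (.node (.node (.node (.leaf 0) (.leaf 586)) (.node (.leaf 0) (.leaf 899))) (.node (.node (.leaf 0) (.leaf 0)) (.leaf 0)))) (.node (.node (.node (.node (.leaf 0) (.leaf 878)) (.node (.leaf 0) (.leaf 904))) (.node (.node (.leaf 0) (.leaf 268)) (.node (.leaf 0) (.leaf 826)))) (.node (.node (.node (.leaf 0) (.leaf 412)) (.node (.leaf 0) (.leaf 578))) (.node (.node (.leaf 0) (.leaf 803)) (.leaf 126))))) (.node (.node (.node (.node (.node (.leaf 0) (.leaf 294)) (.node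 (.leaf 0) (.leaf 845))) (.node (.node (.leaf 100) (.leaf 0)) (.node (.leaf 0) (.leaf 481)))) (.node (.node (.node (.leaf 0) (.leaf 0)) (.node (.leaf 45) (.leaf 425))) (.node (.node (.leaf 0) (.leaf 320)) (.leaf 202)))) (.node (.node (.node (.node (.leaf 0) (.leaf 204)) (.node (.leaf 0) (.leaf 65))) (.node (.node (.leaf 0) (.leaf 0)) (.node (.leaf 325) (.leaf 734)))) (.node (.node (.node (.leaf 0) (.leaf 58)) (.node (.leaf 0) (.leaf 805))) (.node (.node (.leaf 0) (.leaf 472)) (.leaf 482)))))))) (.node (.node (.node (.node (.node (.node (.node (.node (.leaf 0) (.leaf 345)) (.node (.leaf 0) (.leaf 695))) (.node (.node (.leaf 0) (.leaf 424)) (.node (.leaf 0) (.leaf 888)))) (.node (.node (.node (.leaf 0) (.leaf 54)) (.node (.leaf 199) (.leaf 239))) (.node (.node (.leaf 0) (.leaf 0)) (.leaf 0)))) (.node (.node (.node (.node (.leaf 0) (.leaf 0)) (.node (.leaf 0) (.leaf 942))) (.node (.node (.leaf 0) (.leaf 0)) (.node (.leaf 0) (.leaf 225)))) (.node (.node (.node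 (.leaf 0) (.leaf 871)) (.node (.leaf 0) (.leaf 443))) (.node (.node (.leaf 0) (.leaf 150)) (.leaf 0))))) (.node (.node (.node (.node (.node (.leaf 0) (.leaf 449)) (.node (.leaf 0) (.leaf 699))) (.node (.node (.leaf 0) (.leaf 259)) (.node (.leaf 0) (.leaf 703)))) (.node (.node (.node (.leaf 0) (.leaf 313)) (.node (.leaf 0) (.leaf 771))) (.node (.node (.leaf 0) (.leaf 222)) (.leaf 0)))) (.node (.node (.node (.node (.leaf 0) (.leaf 0)) (.node (.leaf 140) (.leaf 847))) (.node (.node (.leaf 0) (.leaf 516)) (.node (.leaf 0) (.leaf 454)))) (.node (.node (.node (.leaf 0) (.leaf 672)) (.node (.leaf 0) (.leaf 158))) (.node (.node (.leaf 0) (.leaf 650)) (.leaf 518)))))) (.node (.node (.node (.node (.node (.node (.leaf 0) (.leaf 238)) (.node (.leaf 0) (.leaf 567))) (.node (.node (.leaf 395) (.leaf 597)) (.node (.leaf 0) (.leaf 445)))) (.node (.node (.node (.leaf 35) (.leaf 439)) (.node (.leaf 0) (.leaf 948))) (.node (.node (.leaf 0) (.leaf 212)) (.leaf 235)))) (.node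 (.node (.node (.node (.leaf 0) (.leaf 53)) (.node (.leaf 0) (.leaf 758))) (.node (.node (.leaf 0) (.leaf 428)) (.node (.leaf 0) (.leaf 263)))) (.node (.node (.node (.leaf 0) (.leaf 625)) (.node (.leaf 0) (.leaf 301))) (.node (.node (.leaf 0) (.leaf 416)) (.leaf 292))))) (.node (.node (.node (.node (.node (.leaf 0) (.leaf 0)) (.node (.leaf 119) (.leaf 870))) (.node (.node (.leaf 0) (.leaf 448)) (.node (.leaf 539) (.leaf 733)))) (.node (.node (.node (.leaf 0) (.leaf 623)) (.node (.leaf 0) (.leaf 755))) (.node (.node (.leaf 0) (.leaf 61)) (.leaf 0)))) (.node (.node (.node (.node (.leaf 0) (.leaf 0)) (.node (.leaf 813) (.leaf 743))) (.node (.node (.leaf 232) (.leaf 480)) (.node (.leaf 0) (.leaf 783)))) (.node (.node (.node (.leaf 0) (.leaf 635)) (.node (.leaf 0) (.leaf 955))) (.node (.node (.leaf 103) (.leaf 925)) (.leaf 358))))))) (.node (.node (.node (.node (.node (.node (.node (.leaf 0) (.leaf 293)) (.node (.leaf 0) (.leaf 565))) (.node (.node (.leaf 0)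 (.leaf 350)) (.node (.leaf 0) (.leaf 383)))) (.node (.node (.node (.leaf 0) (.leaf 0)) (.node (.leaf 0) (.leaf 886))) (.node (.node (.leaf 0) (.leaf 0)) (.leaf 0)))) (.node (.node (.node (.node (.leaf 0) (.leaf 381)) (.node (.leaf 43) (.leaf 737))) (.node (.node (.leaf 0) (.leaf 548)) (.node (.leaf 171) (.leaf 793)))) (.node (.node (.node (.leaf 36) (.leaf 0)) (.node (.leaf 0) (.leaf 0))) (.node (.node (.leaf 0) (.leaf 305)) (.leaf 236))))) (.node (.node (.node (.node (.node (.leaf 0) (.leaf 380)) (.node (.leaf 0) (.leaf 881))) (.node (.node (.leaf 0) (.leaf 494)) (.node (.leaf 0) (.leaf 322)))) (.node (.node (.node (.leaf 0) (.leaf 0)) (.node (.leaf 0) (.leaf 577))) (.node (.node (.leaf 0) (.leaf 206)) (.leaf 217)))) (.node (.node (.node (.node (.leaf 0) (.leaf 0)) (.node (.leaf 0) (.leaf 940))) (.node (.node (.leaf 295) (.leaf 0)) (.node (.leaf 0) (.leaf 879)))) (.node (.node (.node (.leaf 0) (.leaf 0)) (.node (.leaf 205) (.leaf 298))) (.node (.node (.leaf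 388) (.leaf 0)) (.leaf 0)))))) (.node (.node (.node (.node (.node (.node (.leaf 0) (.leaf 0)) (.node (.leaf 0) (.leaf 631))) (.node (.node (.leaf 0) (.leaf 926)) (.node (.leaf 0) (.leaf 735)))) (.node (.node (.node (.leaf 0) (.leaf 657)) (.node (.leaf 213) (.leaf 620))) (.node (.node (.leaf 40) (.leaf 0)) (.leaf 0)))) (.node (.node (.node (.node (.leaf 96) (.leaf 632)) (.node (.leaf 0) (.leaf 585))) (.node (.node (.leaf 0) (.leaf 0)) (.node (.leaf 139) (.leaf 0)))) (.node (.node (.node (.leaf 0) (.leaf 465)) (.node (.leaf 382) (.leaf 706))) (.node (.node (.leaf 0) (.leaf 0)) (.leaf 616))))) (.node (.node (.node (.node (.node (.leaf 33) (.leaf 0)) (.node (.leaf 649) (.leaf 883))) (.node (.node (.leaf 0) (.leaf 426)) (.node (.leaf 0) (.leaf 596)))) (.node (.node (.node (.leaf 0) (.leaf 0)) (.node (.leaf 0) (.leaf 627))) (.node (.node (.leaf 0) (.leaf 413)) (.leaf 600)))) (.node (.node (.node (.node (.leaf 0) (.leaf 0)) (.node (.leaf 0) (.leaf 800))) (.node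 (.node (.leaf 376) (.leaf 148)) (.node (.leaf 446) (.leaf 919)))) (.node (.node (.node (.leaf 0) (.leaf 834)) (.node (.leaf 475) (.leaf 865))) (.node (.node (.leaf 0) (.leaf 0)) (.leaf 0))))))))) (.node (.node (.node (.node (.node (.node (.node (.node (.node (.leaf 0) (.leaf 0)) (.node (.leaf 0) (.leaf 564))) (.node (.node (.leaf 99) (.leaf 861)) (.node (.leaf 0) (.leaf 956)))) (.node (.node (.node (.leaf 0) (.leaf 0)) (.node (.leaf 0) (.leaf 248))) (.node (.node (.leaf 117) (.leaf 441)) (.leaf 0)))) (.node (.node (.node (.node (.leaf 0) (.leaf 0)) (.node (.leaf 335) (.leaf 633))) (.node (.node (.leaf 0) (.leaf 535)) (.node (.leaf 667) (.leaf 727)))) (.node (.node (.node (.leaf 501) (.leaf 0)) (.node (.leaf 234) (.leaf 637))) (.node (.node (.leaf 504) (.leaf 0)) (.leaf 900))))) (.node (.node (.node (.node (.node (.leaf 0) (.leaf 52)) (.node (.leaf 521) (.leaf 0))) (.node (.node (.leaf 0) (.leaf 549)) (.node (.leaf 0) (.leaf 961)))) (.node (.node (.node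 (.leaf 0) (.leaf 55)) (.node (.leaf 0) (.leaf 894))) (.node (.node (.leaf 0) (.leaf 0)) (.leaf 0)))) (.node (.node (.node (.node (.leaf 0) (.leaf 0)) (.node (.leaf 670) (.leaf 920))) (.node (.node (.leaf 0) (.leaf 297)) (.node (.leaf 0) (.leaf 924)))) (.node (.node (.node (.leaf 0) (.leaf 748)) (.node (.leaf 46) (.leaf 194))) (.node (.node (.leaf 0) (.leaf 265)) (.leaf 0)))))) (.node (.node (.node (.node (.node (.node (.leaf 0) (.leaf 0)) (.node (.leaf 0) (.leaf 479))) (.node (.node (.leaf 0) (.leaf 462)) (.node (.leaf 0) (.leaf 408)))) (.node (.node (.node (.leaf 0) (.leaf 0)) (.node (.leaf 0) (.leaf 745))) (.node (.node (.leaf 643) (.leaf 927)) (.leaf 0)))) (.node (.node (.node (.node (.leaf 0) (.leaf 0)) (.node (.leaf 0) (.leaf 947))) (.node (.node (.leaf 0) (.leaf 0)) (.node (.leaf 124) (.leaf 0)))) (.node (.node (.node (.leaf 0) (.leaf 0)) (.node (.leaf 442) (.leaf 468))) (.node (.node (.leaf 0) (.leaf 630)) (.leaf 306))))) (.node (.node (.node (.node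 (.node (.leaf 0) (.leaf 0)) (.node (.leaf 740) (.leaf 0))) (.node (.node (.leaf 0) (.leaf 296)) (.node (.leaf 0) (.leaf 908)))) (.node (.node (.node (.leaf 0) (.leaf 655)) (.node (.leaf 488) (.leaf 892))) (.node (.node (.leaf 147) (.leaf 810)) (.leaf 0)))) (.node (.node (.node (.node (.leaf 0) (.leaf 849)) (.node (.leaf 105) (.leaf 243))) (.node (.node (.leaf 0) (.leaf 59)) (.node (.leaf 175) (.leaf 756)))) (.node (.node (.node (.leaf 123) (.leaf 651)) (.node (.leaf 272) (.leaf 945))) (.node (.node (.leaf 41) (.leaf 812)) (.leaf 0))))))) (.node (.node (.node (.node (.node (.node (.node (.leaf 0) (.leaf 277)) (.node (.leaf 0) (.leaf 618))) (.node (.node (.leaf 0) (.leaf 0)) (.node (.leaf 0) (.leaf 790)))) (.node (.node (.node (.leaf 0) (.leaf 615)) (.node (.leaf 0) (.leaf 776))) (.node (.node (.leaf 644) (.leaf 178)) (.leaf 336)))) (.node (.node (.node (.node (.leaf 0) (.leaf 420)) (.node (.leaf 432) (.leaf 676))) (.node (.node (.leaf 0) (.leaf 0)) (.node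 (.leaf 0) (.leaf 591)))) (.node (.node (.node (.leaf 0) (.leaf 624)) (.node (.leaf 377) (.leaf 196))) (.node (.node (.leaf 0) (.leaf 237)) (.leaf 111))))) (.node (.node (.node (.node (.node (.leaf 0) (.leaf 542)) (.node (.leaf 0) (.leaf 887))) (.node (.node (.leaf 0) (.leaf 463)) (.node (.leaf 170) (.leaf 584)))) (.node (.node (.node (.leaf 0) (.leaf 0)) (.node (.leaf 0) (.leaf 192))) (.node (.node (.leaf 211) (.leaf 820)) (.leaf 823)))) (.node (.node (.node (.node (.leaf 0) (.leaf 220)) (.node (.leaf 0) (.leaf 0))) (.node (.node (.leaf 0) (.leaf 405)) (.node (.leaf 109) (.leaf 837)))) (.node (.node (.node (.leaf 0) (.leaf 177)) (.node (.leaf 554) (.leaf 0))) (.node (.node (.leaf 429) (.leaf 931)) (.leaf 0)))))) (.node (.node (.node (.node (.node (.node (.leaf 0) (.leaf 0)) (.node (.leaf 0) (.leaf 458))) (.node (.node (.leaf 0) (.leaf 753)) (.node (.leaf 0) (.leaf 876)))) (.node (.node (.node (.leaf 0) (.leaf 0)) (.node (.leaf 486) (.leaf 746))) (.node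 (.node (.leaf 356) (.leaf 409)) (.leaf 0)))) (.node (.node (.node (.node (.leaf 34) (.leaf 0)) (.node (.leaf 207) (.leaf 704))) (.node (.node (.leaf 0) (.leaf 317)) (.node (.leaf 389) (.leaf 668)))) (.node (.node (.node (.leaf 0) (.leaf 146)) (.node (.leaf 533) (.leaf 717))) (.node (.node (.leaf 0) (.leaf 62)) (.leaf 0))))) (.node (.node (.node (.node (.node (.leaf 0) (.leaf 0)) (.node (.leaf 0) (.leaf 921))) (.node (.node (.leaf 0) (.leaf 622)) (.node (.leaf 0) (.leaf 588)))) (.node (.node (.node (.leaf 0) (.leaf 574)) (.node (.leaf 106) (.leaf 0))) (.node (.node (.leaf 0) (.leaf 0)) (.leaf 0)))) (.node (.node (.node (.node (.leaf 0) (.leaf 0)) (.node (.leaf 244) (.leaf 645))) (.node (.node (.leaf 0) (.leaf 0)) (.node (.leaf 661) (.leaf 811)))) (.node (.node (.node (.leaf 0) (.leaf 113)) (.node (.leaf 0) (.leaf 807))) (.node (.node (.leaf 197) (.leaf 423)) (.leaf 0)))))))) (.node (.node (.node (.node (.node (.node (.node (.node (.leaf 0) (.leaf 0)) (.node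 (.leaf 0) (.leaf 799))) (.node (.node (.leaf 0) (.leaf 636)) (.node (.leaf 0) (.leaf 489)))) (.node (.node (.node (.leaf 0) (.leaf 705)) (.node (.leaf 0) (.leaf 708))) (.node (.node (.leaf 0) (.leaf 0)) (.leaf 50)))) (.node (.node (.node (.node (.leaf 0) (.leaf 176)) (.node (.leaf 0) (.leaf 675))) (.node (.node (.leaf 0) (.leaf 186)) (.node (.leaf 0) (.leaf 483)))) (.node (.node (.node (.leaf 0) (.leaf 709)) (.node (.leaf 470) (.leaf 0))) (.node (.node (.leaf 0) (.leaf 464)) (.leaf 0))))) (.node (.node (.node (.node (.node (.leaf 0) (.leaf 580)) (.node (.leaf 0) (.leaf 344))) (.node (.node (.leaf 0) (.leaf 784)) (.node (.leaf 692) (.leaf 270)))) (.node (.node (.node (.leaf 0) (.leaf 579)) (.node (.leaf 0) (.leaf 599))) (.node (.node (.leaf 0) (.leaf 300)) (.leaf 195)))) (.node (.node (.node (.node (.leaf 0) (.leaf 0)) (.node (.leaf 434) (.leaf 156))) (.node (.node (.leaf 39) (.leaf 0)) (.node (.leaf 824) (.leaf 941)))) (.node (.node (.node (.leaf 0) (.leaf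 57)) (.node (.leaf 0) (.leaf 255))) (.node (.node (.leaf 0) (.leaf 492)) (.leaf 0)))))) (.node (.node (.node (.node (.node (.node (.leaf 0) (.leaf 0)) (.node (.leaf 0) (.leaf 696))) (.node (.node (.leaf 0) (.leaf 0)) (.node (.leaf 47) (.leaf 946)))) (.node (.node (.node (.leaf 97) (.leaf 169)) (.node (.leaf 214) (.leaf 866))) (.node (.node (.leaf 0) (.leaf 60)) (.leaf 404)))) (.node (.node (.node (.node (.leaf 0) (.leaf 0)) (.node (.leaf 174) (.leaf 474))) (.node (.node (.leaf 0) (.leaf 0)) (.node (.leaf 379) (.leaf 629)))) (.node (.node (.node (.leaf 0) (.leaf 0)) (.node (.leaf 621) (.leaf 444))) (.node (.node (.leaf 0) (.leaf 151)) (.leaf 0))))) (.node (.node (.node (.node (.node (.leaf 0) (.leaf 143)) (.node (.leaf 0) (.leaf 634))) (.node (.node (.leaf 38) (.leaf 133)) (.node (.leaf 0) (.leaf 751)))) (.node (.node (.node (.leaf 0) (.leaf 145)) (.node (.leaf 0) (.leaf 936))) (.node (.node (.leaf 131) (.leaf 433)) (.leaf 0)))) (.node (.node (.node (.node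 (.leaf 0) (.leaf 541)) (.node (.leaf 0) (.leaf 910))) (.node (.node (.leaf 0) (.leaf 715)) (.node (.leaf 208) (.leaf 822)))) (.node (.node (.node (.leaf 679) (.leaf 0)) (.node (.leaf 0) (.leaf 0))) (.node (.node (.leaf 0) (.leaf 544)) (.leaf 761))))))) (.node (.node (.node (.node (.node (.node (.node (.leaf 0) (.leaf 0)) (.node (.leaf 0) (.leaf 867))) (.node (.node (.leaf 0) (.leaf 0)) (.node (.leaf 658) (.leaf 499)))) (.node (.node (.node (.leaf 0) (.leaf 396)) (.node (.leaf 0) (.leaf 466))) (.node (.node (.leaf 0) (.leaf 902)) (.leaf 0)))) (.node (.node (.node (.node (.leaf 0) (.leaf 455)) (.node (.leaf 104) (.leaf 357))) (.node (.node (.leaf 166) (.leaf 780)) (.node (.leaf 0) (.leaf 764)))) (.node (.node (.node (.leaf 98) (.leaf 614)) (.node (.leaf 121) (.leaf 180))) (.node (.node (.leaf 0) (.leaf 0)) (.leaf 339))))) (.node (.node (.node (.node (.node (.leaf 0) (.leaf 0)) (.node (.leaf 314) (.leaf 952))) (.node (.node (.leaf 375) (.leaf 487)) (.node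 (.leaf 0) (.leaf 828)))) (.node (.node (.node (.leaf 0) (.leaf 0)) (.node (.leaf 0) (.leaf 0))) (.node (.node (.leaf 0) (.leaf 951)) (.leaf 0)))) (.node (.node (.node (.node (.leaf 0) (.leaf 550)) (.node (.leaf 0) (.leaf 0))) (.node (.node (.leaf 0) (.leaf 617)) (.node (.leaf 0) (.leaf 856)))) (.node (.node (.node (.leaf 0) (.leaf 209)) (.node (.leaf 167) (.leaf 700))) (.node (.node (.leaf 0) (.leaf 63)) (.leaf 182)))))) (.node (.node (.node (.node (.node (.node (.leaf 0) (.leaf 0)) (.node (.leaf 42) (.leaf 394))) (.node (.node (.leaf 0) (.leaf 583)) (.node (.leaf 337) (.leaf 944)))) (.node (.node (.node (.leaf 0) (.leaf 0)) (.node (.leaf 0) (.leaf 385))) (.node (.node (.leaf 102) (.leaf 639)) (.leaf 471)))) (.node (.node (.node (.node (.leaf 0) (.leaf 386)) (.node (.leaf 0) (.leaf 496))) (.node (.node (.leaf 0) (.leaf 0)) (.node (.leaf 378) (.leaf 954)))) (.node (.node (.node (.leaf 0) (.leaf 626)) (.node (.leaf 0) (.leaf 686))) (.node (.node (.leaf 0)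 (.leaf 829)) (.leaf 515))))) (.node (.node (.node (.node (.node (.leaf 0) (.leaf 427)) (.node (.leaf 0) (.leaf 415))) (.node (.node (.leaf 0) (.leaf 557)) (.node (.leaf 48) (.leaf 590)))) (.node (.node (.node (.leaf 0) (.leaf 0)) (.node (.leaf 719) (.leaf 284))) (.node (.node (.leaf 0) (.leaf 399)) (.leaf 0)))) (.node (.node (.node (.node (.leaf 0) (.leaf 498)) (.node (.leaf 233) (.leaf 200))) (.node (.node (.leaf 0) (.leaf 0)) (.node (.leaf 453) (.leaf 917)))) (.node (.node (.node (.leaf 0) (.leaf 874)) (.node (.leaf 0) (.leaf 271))) (.node (.node (.leaf 0) (.leaf 419)) (.leaf 0))))))))))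

/-- data -/
def tree3 : Trie (ℕ × ℕ) := .node (.node (.node (.node (.node (.node (.node (.node (.node (.node (.leaf (0, 0)) (.leaf (312, 0))) (.node (.leaf (140, 1)) (.leaf (536, 0)))) (.node (.node (.leaf (66, 1)) (.leaf (412, 1))) (.node (.leaf (223, 1)) (.leaf (704, 0))))) (.node (.node (.node (.leaf (32, 1)) (.leaf (362, 1))) (.node (.leaf (178, 0)) (.leaf (604, 1)))) (.node (.node (.leaf (101, 1)) (.leaf (472, 0))) (.leaf (264, 0))))) (.node (.node (.node (.node (.leaf (16, 0)) (.leaf (337, 1))) (.node (.leaf (160, 0)) (.leaf (567, 0)))) (.node (.node (.leaf (85, 0)) (.leaf (440, 1))) (.node (.leaf (243, 1)) (.leaf (782, 0))))) (.node (.node (.node (.leaf (50, 1)) (.leaf (389, 1))) (.node (.leaf (202, 0)) (.leaf (647, 1)))) (.node (.node (.leaf (120, 0)) (.leaf (502, 1))) (.leaf (285, 0)))))) (.node (.node (.node (.node (.node (.leaf (7, 1)) (.leaf (325, 1))) (.node (.leaf (149, 1)) (.leaf (552, 1)))) (.node (.node (.leaf (76, 0)) (.leaf (426, 1)))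 (.node (.leaf (233, 1)) (.leaf (724, 1))))) (.node (.node (.node (.leaf (40, 1)) (.leaf (380, 0))) (.node (.leaf (190, 0)) (.leaf (624, 0)))) (.node (.node (.leaf (111, 1)) (.leaf (484, 0))) (.leaf (274, 1))))) (.node (.node (.node (.node (.leaf (24, 0)) (.leaf (350, 0))) (.node (.leaf (169, 0)) (.leaf (585, 0)))) (.node (.node (.leaf (93, 0)) (.leaf (456, 0))) (.node (.leaf (254, 1)) (.leaf (846, 0))))) (.node (.node (.node (.leaf (58, 1)) (.leaf (401, 0))) (.node (.leaf (213, 0)) (.leaf (674, 1)))) (.node (.node (.leaf (131, 0)) (.leaf (521, 1))) (.leaf (297, 1))))))) (.node (.node (.node (.node (.node (.node (.leaf (3, 1)) (.leaf (320, 1))) (.node (.leaf (145, 0)) (.leaf (543, 0)))) (.node (.node (.leaf (70, 1)) (.leaf (419, 1))) (.node (.leaf (229, 0)) (.leaf (710, 1))))) (.node (.node (.node (.leaf (36, 1)) (.leaf (370, 1))) (.node (.leaf (185, 0)) (.leaf (612, 1)))) (.node (.node (.leaf (107, 1)) (.leaf (477, 1))) (.leaf (268, 0))))) (.node (.node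 (.node (.node (.leaf (20, 0)) (.leaf (342, 1))) (.node (.leaf (164, 1)) (.leaf (574, 1)))) (.node (.node (.leaf (89, 0)) (.leaf (448, 1))) (.node (.leaf (248, 1)) (.leaf (797, 0))))) (.node (.node (.node (.leaf (54, 1)) (.leaf (395, 0))) (.node (.leaf (208, 0)) (.leaf (659, 0)))) (.node (.node (.leaf (125, 1)) (.leaf (511, 1))) (.leaf (291, 1)))))) (.node (.node (.node (.node (.node (.leaf (11, 1)) (.leaf (330, 1))) (.node (.leaf (154, 0)) (.leaf (561, 1)))) (.node (.node (.leaf (81, 0)) (.leaf (434, 0))) (.node (.leaf (239, 0)) (.leaf (750, 1))))) (.node (.node (.node (.leaf (44, 1)) (.leaf (385, 1))) (.node (.leaf (196, 0)) (.leaf (636, 0)))) (.node (.node (.leaf (115, 1)) (.leaf (494, 0))) (.leaf (279, 0))))) (.node (.node (.node (.node (.leaf (28, 0)) (.leaf (356, 1))) (.node (.leaf (173, 1)) (.leaf (596, 0)))) (.node (.node (.leaf (97, 0)) (.leaf (463, 0))) (.node (.leaf (258, 1)) (.leaf (883, 0))))) (.node (.node (.node (.leaf (62, 1)) (.leaf (406,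 1))) (.node (.leaf (219, 0)) (.leaf (687, 1)))) (.node (.node (.leaf (136, 0)) (.leaf (527, 1))) (.leaf (305, 0)))))))) (.node (.node (.node (.node (.node (.node (.node (.leaf (1, 1)) (.leaf (316, 1))) (.node (.leaf (142, 1)) (.leaf (539, 0)))) (.node (.node (.leaf (68, 1)) (.leaf (416, 0))) (.node (.leaf (226, 1)) (.leaf (707, 0))))) (.node (.node (.node (.leaf (34, 1)) (.leaf (367, 0))) (.node (.leaf (181, 1)) (.leaf (609, 0)))) (.node (.node (.leaf (105, 0)) (.leaf (474, 1))) (.leaf (266, 0))))) (.node (.node (.node (.node (.leaf (18, 0)) (.leaf (339, 1))) (.node (.leaf (162, 1)) (.leaf (570, 1)))) (.node (.node (.leaf (87, 0)) (.leaf (444, 0))) (.node (.leaf (246, 0)) (.leaf (792, 1))))) (.node (.node (.node (.leaf (52, 1)) (.leaf (393, 0))) (.node (.leaf (204, 0)) (.leaf (652, 0)))) (.node (.node (.leaf (123, 0)) (.leaf (508, 0))) (.leaf (287, 1)))))) (.node (.node (.node (.node (.node (.leaf (9, 1)) (.leaf (328, 1))) (.node (.leaf (152, 0)) (.leaf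 (555, 1)))) (.node (.node (.leaf (78, 1)) (.leaf (429, 0))) (.node (.leaf (236, 0)) (.leaf (737, 1))))) (.node (.node (.node (.leaf (42, 1)) (.leaf (383, 0))) (.node (.leaf (194, 0)) (.leaf (630, 1)))) (.node (.node (.leaf (113, 1)) (.leaf (491, 0))) (.leaf (276, 1))))) (.node (.node (.node (.node (.leaf (26, 0)) (.leaf (353, 0))) (.node (.leaf (171, 1)) (.leaf (589, 1)))) (.node (.node (.leaf (95, 0)) (.leaf (460, 1))) (.node (.leaf (256, 1)) (.leaf (867, 1))))) (.node (.node (.node (.leaf (60, 1)) (.leaf (403, 0))) (.node (.leaf (216, 1)) (.leaf (681, 1)))) (.node (.node (.leaf (133, 1)) (.leaf (525, 0))) (.leaf (301, 0))))))) (.node (.node (.node (.node (.node (.node (.leaf (5, 1)) (.leaf (323, 1))) (.node (.leaf (147, 0)) (.leaf (546, 1)))) (.node (.node (.leaf (72, 1)) (.leaf (422, 0))) (.node (.leaf (231, 0)) (.leaf (718, 1))))) (.node (.node (.node (.leaf (38, 1)) (.leaf (377, 0))) (.node (.leaf (187, 1)) (.leaf (617, 1)))) (.node (.node (.leaf (109,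 1)) (.leaf (481, 0))) (.leaf (270, 1))))) (.node (.node (.node (.node (.leaf (22, 0)) (.leaf (346, 1))) (.node (.leaf (166, 1)) (.leaf (580, 1)))) (.node (.node (.leaf (91, 0)) (.leaf (451, 0))) (.node (.leaf (252, 0)) (.leaf (827, 0))))) (.node (.node (.node (.leaf (56, 1)) (.leaf (398, 1))) (.node (.leaf (210, 1)) (.leaf (668, 0)))) (.node (.node (.leaf (127, 1)) (.leaf (515, 1))) (.leaf (294, 0)))))) (.node (.node (.node (.node (.node (.leaf (13, 1)) (.leaf (335, 0))) (.node (.leaf (157, 1)) (.leaf (564, 0)))) (.node (.node (.leaf (83, 0)) (.leaf (438, 0))) (.node (.leaf (241, 0)) (.leaf (760, 0))))) (.node (.node (.node (.leaf (48, 0)) (.leaf (387, 1))) (.node (.leaf (198, 1)) (.leaf (644, 1)))) (.node (.node (.leaf (117, 1)) (.leaf (499, 1))) (.leaf (283, 0))))) (.node (.node (.node (.node (.leaf (30, 0)) (.leaf (360, 0))) (.node (.leaf (175, 1)) (.leaf (599, 1)))) (.node (.node (.leaf (99, 1)) (.leaf (468, 0))) (.node (.leaf (261, 1)) (.leaf (911,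 0))))) (.node (.node (.node (.leaf (64, 1)) (.leaf (409, 1))) (.node (.leaf (221, 1)) (.leaf (700, 1)))) (.node (.node (.leaf (138, 0)) (.leaf (532, 1))) (.leaf (309, 1))))))))) (.node (.node (.node (.node (.node (.node (.node (.node (.leaf (0, 1)) (.leaf (315, 0))) (.node (.leaf (141, 1)) (.leaf (537, 1)))) (.node (.node (.leaf (67, 1)) (.leaf (414, 0))) (.node (.leaf (224, 1)) (.leaf (705, 0))))) (.node (.node (.node (.leaf (33, 1)) (.leaf (364, 1))) (.node (.leaf (179, 0)) (.leaf (606, 1)))) (.node (.node (.leaf (104, 0)) (.leaf (473, 1))) (.leaf (265, 0))))) (.node (.node (.node (.node (.leaf (17, 0)) (.leaf (338, 1))) (.node (.leaf (161, 1)) (.leaf (568, 1)))) (.node (.node (.leaf (86, 0)) (.leaf (442, 1))) (.node (.leaf (244, 1)) (.leaf (787, 0))))) (.node (.node (.node (.leaf (51, 1)) (.leaf (391, 0))) (.node (.leaf (203, 0)) (.leaf (650, 0)))) (.node (.node (.leaf (122, 0)) (.leaf (506, 0))) (.leaf (286, 0)))))) (.node (.node (.node (.node (.node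 (.leaf (8, 1)) (.leaf (327, 0))) (.node (.leaf (150, 1)) (.leaf (553, 1)))) (.node (.node (.leaf (77, 0)) (.leaf (428, 0))) (.node (.leaf (234, 1)) (.leaf (733, 1))))) (.node (.node (.node (.leaf (41, 1)) (.leaf (381, 1))) (.node (.leaf (191, 1)) (.leaf (628, 1)))) (.node (.node (.leaf (112, 1)) (.leaf (487, 0))) (.leaf (275, 1))))) (.node (.node (.node (.node (.leaf (25, 0)) (.leaf (351, 0))) (.node (.leaf (170, 1)) (.leaf (587, 0)))) (.node (.node (.leaf (94, 0)) (.leaf (459, 0))) (.node (.leaf (255, 1)) (.leaf (855, 1))))) (.node (.node (.node (.leaf (59, 1)) (.leaf (402, 0))) (.node (.leaf (215, 1)) (.leaf (678, 0)))) (.node (.node (.leaf (132, 1)) (.leaf (524, 0))) (.leaf (299, 0))))))) (.node (.node (.node (.node (.node (.node (.leaf (4, 1)) (.leaf (321, 1))) (.node (.leaf (146, 0)) (.leaf (545, 0)))) (.node (.node (.leaf (71, 1)) (.leaf (420, 1))) (.node (.leaf (230, 0)) (.leaf (714, 0))))) (.node (.node (.node (.leaf (37, 1)) (.leaf (371, 1))) (.node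 (.leaf (186, 0)) (.leaf (614, 1)))) (.node (.node (.leaf (108, 1)) (.leaf (479, 0))) (.leaf (269, 1))))) (.node (.node (.node (.node (.leaf (21, 0)) (.leaf (343, 1))) (.node (.leaf (165, 1)) (.leaf (577, 1)))) (.node (.node (.leaf (90, 0)) (.leaf (450, 0))) (.node (.leaf (251, 0)) (.leaf (823, 0))))) (.node (.node (.node (.leaf (55, 1)) (.leaf (397, 1))) (.node (.leaf (209, 0)) (.leaf (664, 0)))) (.node (.node (.leaf (126, 1)) (.leaf (513, 1))) (.leaf (292, 1)))))) (.node (.node (.node (.node (.node (.leaf (12, 1)) (.leaf (332, 1))) (.node (.leaf (155, 0)) (.leaf (563, 0)))) (.node (.node (.leaf (82, 0)) (.leaf (435, 0))) (.node (.leaf (240, 0)) (.leaf (756, 1))))) (.node (.node (.node (.leaf (47, 0)) (.leaf (386, 1))) (.node (.leaf (197, 0)) (.leaf (640, 1)))) (.node (.node (.leaf (116, 1)) (.leaf (497, 1))) (.leaf (280, 1))))) (.node (.node (.node (.node (.leaf (29, 0)) (.leaf (358, 0))) (.node (.leaf (174, 1)) (.leaf (598, 0)))) (.node (.node (.leaf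 (98, 1)) (.leaf (465, 1))) (.node (.leaf (259, 1)) (.leaf (891, 1))))) (.node (.node (.node (.leaf (63, 1)) (.leaf (408, 1))) (.node (.leaf (220, 1)) (.leaf (694, 1)))) (.node (.node (.leaf (137, 0)) (.leaf (528, 1))) (.leaf (307, 0)))))))) (.node (.node (.node (.node (.node (.node (.node (.leaf (2, 1)) (.leaf (318, 1))) (.node (.leaf (144, 0)) (.leaf (542, 0)))) (.node (.node (.leaf (69, 1)) (.leaf (417, 0))) (.node (.leaf (228, 0)) (.leaf (708, 1))))) (.node (.node (.node (.leaf (35, 1)) (.leaf (368, 0))) (.node (.leaf (183, 1)) (.leaf (610, 0)))) (.node (.node (.leaf (106, 1)) (.leaf (475, 1))) (.leaf (267, 0))))) (.node (.node (.node (.node (.leaf (19, 0)) (.leaf (341, 1))) (.node (.leaf (163, 1)) (.leaf (573, 0)))) (.node (.node (.leaf (88, 0)) (.leaf (446, 0))) (.node (.leaf (247, 1)) (.leaf (793, 1))))) (.node (.node (.node (.leaf (53, 1)) (.leaf (394, 0))) (.node (.leaf (205, 0)) (.leaf (654, 0)))) (.node (.node (.leaf (124, 1)) (.leaf (510, 1)))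 (.leaf (290, 1)))))) (.node (.node (.node (.node (.node (.leaf (10, 1)) (.leaf (329, 1))) (.node (.leaf (153, 0)) (.leaf (558, 0)))) (.node (.node (.leaf (79, 1)) (.leaf (433, 0))) (.node (.leaf (237, 1)) (.leaf (741, 0))))) (.node (.node (.node (.leaf (43, 1)) (.leaf (384, 0))) (.node (.leaf (195, 0)) (.leaf (635, 0)))) (.node (.node (.leaf (114, 1)) (.leaf (493, 0))) (.leaf (278, 0))))) (.node (.node (.node (.node (.leaf (27, 0)) (.leaf (354, 1))) (.node (.leaf (172, 1)) (.leaf (591, 1)))) (.node (.node (.leaf (96, 0)) (.leaf (462, 0))) (.node (.leaf (257, 1)) (.leaf (870, 1))))) (.node (.node (.node (.leaf (61, 1)) (.leaf (404, 1))) (.node (.leaf (218, 0)) (.leaf (683, 1)))) (.node (.node (.leaf (135, 0)) (.leaf (526, 0))) (.leaf (303, 1))))))) (.node (.node (.node (.node (.node (.node (.leaf (6, 1)) (.leaf (324, 1))) (.node (.leaf (148, 0)) (.leaf (548, 1)))) (.node (.node (.leaf (73, 1)) (.leaf (423, 1))) (.node (.leaf (232, 0)) (.leaf (721, 0)))))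 (.node (.node (.node (.leaf (39, 1)) (.leaf (379, 0))) (.node (.leaf (189, 0)) (.leaf (619, 1)))) (.node (.node (.leaf (110, 1)) (.leaf (483, 0))) (.leaf (272, 1))))) (.node (.node (.node (.node (.leaf (23, 0)) (.leaf (347, 1))) (.node (.leaf (168, 0)) (.leaf (582, 0)))) (.node (.node (.leaf (92, 0)) (.leaf (454, 1))) (.node (.leaf (253, 0)) (.leaf (840, 1))))) (.node (.node (.node (.leaf (57, 1)) (.leaf (400, 0))) (.node (.leaf (211, 1)) (.leaf (669, 0)))) (.node (.node (.leaf (130, 0)) (.leaf (519, 1))) (.leaf (296, 1)))))) (.node (.node (.node (.node (.node (.leaf (14, 1)) (.leaf (336, 0))) (.node (.leaf (158, 1)) (.leaf (566, 0)))) (.node (.node (.leaf (84, 0)) (.leaf (439, 0))) (.node (.leaf (242, 0)) (.leaf (766, 1))))) (.node (.node (.node (.leaf (49, 1)) (.leaf (388, 1))) (.node (.leaf (199, 1)) (.leaf (645, 1)))) (.node (.node (.leaf (119, 0)) (.leaf (500, 1))) (.leaf (284, 0))))) (.node (.node (.node (.node (.leaf (31, 1)) (.leaf (361, 0))) (.node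 (.leaf (176, 1)) (.leaf (602, 0)))) (.node (.node (.leaf (100, 1)) (.leaf (470, 0))) (.node (.leaf (263, 0)) (.leaf (937, 1))))) (.node (.node (.node (.leaf (65, 1)) (.leaf (411, 1))) (.node (.leaf (222, 1)) (.leaf (702, 0)))) (.node (.node (.leaf (139, 1)) (.leaf (535, 0))) (.leaf (311, 0)))))))))) (.node (.node (.node (.node (.node (.node (.node (.node (.node (.leaf (0, 0)) (.leaf (314, 0))) (.node (.leaf (141, 0)) (.leaf (537, 0)))) (.node (.node (.leaf (67, 0)) (.leaf (413, 1))) (.node (.leaf (224, 0)) (.leaf (704, 1))))) (.node (.node (.node (.leaf (33, 0)) (.leaf (364, 0))) (.node (.leaf (178, 1)) (.leaf (605, 0)))) (.node (.node (.leaf (102, 0)) (.leaf (472, 1))) (.leaf (264, 1))))) (.node (.node (.node (.node (.leaf (16, 1)) (.leaf (338, 0))) (.node (.leaf (161, 0)) (.leaf (568, 0)))) (.node (.node (.leaf (85, 1)) (.leaf (441, 0))) (.node (.leaf (244, 0)) (.leaf (785, 1))))) (.node (.node (.node (.leaf (51, 0)) (.leaf (390, 1))) (.node (.leaf (202,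 1)) (.leaf (648, 1)))) (.node (.node (.leaf (121, 0)) (.leaf (505, 1))) (.leaf (285, 1)))))) (.node (.node (.node (.node (.node (.leaf (8, 0)) (.leaf (326, 1))) (.node (.leaf (150, 0)) (.leaf (553, 0)))) (.node (.node (.leaf (76, 1)) (.leaf (427, 0))) (.node (.leaf (234, 0)) (.leaf (727, 0))))) (.node (.node (.node (.leaf (41, 0)) (.leaf (380, 1))) (.node (.leaf (191, 0)) (.leaf (625, 0)))) (.node (.node (.leaf (112, 0)) (.leaf (486, 0))) (.leaf (275, 0))))) (.node (.node (.node (.node (.leaf (24, 1)) (.leaf (350, 1))) (.node (.leaf (169, 1)) (.leaf (585, 1)))) (.node (.node (.leaf (93, 1)) (.leaf (457, 1))) (.node (.leaf (255, 0)) (.leaf (849, 0))))) (.node (.node (.node (.leaf (59, 0)) (.leaf (401, 1))) (.node (.leaf (214, 1)) (.leaf (677, 1)))) (.node (.node (.leaf (131, 1)) (.leaf (523, 1))) (.leaf (298, 1))))))) (.node (.node (.node (.node (.node (.node (.leaf (4, 0)) (.leaf (321, 0))) (.node (.leaf (145, 1)) (.leaf (544, 1)))) (.node (.node (.leaf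 (71, 0)) (.leaf (420, 0))) (.node (.leaf (229, 1)) (.leaf (711, 0))))) (.node (.node (.node (.leaf (37, 0)) (.leaf (371, 0))) (.node (.leaf (185, 1)) (.leaf (614, 0)))) (.node (.node (.leaf (108, 0)) (.leaf (478, 0))) (.leaf (268, 1))))) (.node (.node (.node (.node (.leaf (20, 1)) (.leaf (343, 0))) (.node (.leaf (165, 0)) (.leaf (576, 0)))) (.node (.node (.leaf (89, 1)) (.leaf (449, 1))) (.node (.leaf (249, 0)) (.leaf (821, 1))))) (.node (.node (.node (.leaf (55, 0)) (.leaf (397, 0))) (.node (.leaf (208, 1)) (.leaf (662, 0)))) (.node (.node (.leaf (126, 0)) (.leaf (512, 1))) (.leaf (292, 0)))))) (.node (.node (.node (.node (.node (.leaf (12, 0)) (.leaf (332, 0))) (.node (.leaf (154, 1)) (.leaf (562, 1)))) (.node (.node (.leaf (81, 1)) (.leaf (434, 1))) (.node (.leaf (239, 1)) (.leaf (754, 0))))) (.node (.node (.node (.leaf (45, 0)) (.leaf (386, 0))) (.node (.leaf (196, 1)) (.leaf (639, 0)))) (.node (.node (.leaf (116, 0)) (.leaf (495, 0))) (.leaf (280,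 0))))) (.node (.node (.node (.node (.leaf (28, 1)) (.leaf (357, 0))) (.node (.leaf (174, 0)) (.leaf (597, 1)))) (.node (.node (.leaf (98, 0)) (.leaf (464, 1))) (.node (.leaf (259, 0)) (.leaf (885, 1))))) (.node (.node (.node (.leaf (63, 0)) (.leaf (407, 1))) (.node (.leaf (220, 0)) (.leaf (691, 1)))) (.node (.node (.leaf (136, 1)) (.leaf (528, 0))) (.leaf (306, 0)))))))) (.node (.node (.node (.node (.node (.node (.node (.leaf (2, 0)) (.leaf (317, 0))) (.node (.leaf (143, 1)) (.leaf (541, 1)))) (.node (.node (.leaf (69, 0)) (.leaf (416, 1))) (.node (.leaf (227, 1)) (.leaf (707, 1))))) (.node (.node (.node (.leaf (35, 0)) (.leaf (367, 1))) (.node (.leaf (182, 0)) (.leaf (609, 1)))) (.node (.node (.leaf (105, 1)) (.leaf (475, 0))) (.leaf (266, 1))))) (.node (.node (.node (.node (.leaf (18, 1)) (.leaf (341, 0))) (.node (.leaf (163, 0)) (.leaf (571, 0)))) (.node (.node (.leaf (87, 1)) (.leaf (445, 0))) (.node (.leaf (247, 0)) (.leaf (793, 0))))) (.node (.node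 (.node (.leaf (53, 0)) (.leaf (393, 1))) (.node (.leaf (204, 1)) (.leaf (652, 1)))) (.node (.node (.leaf (124, 0)) (.leaf (509, 1))) (.leaf (288, 0)))))) (.node (.node (.node (.node (.node (.leaf (10, 0)) (.leaf (329, 0))) (.node (.leaf (152, 1)) (.leaf (557, 1)))) (.node (.node (.leaf (79, 0)) (.leaf (430, 0))) (.node (.leaf (236, 1)) (.leaf (740, 0))))) (.node (.node (.node (.leaf (43, 0)) (.leaf (383, 1))) (.node (.leaf (194, 1)) (.leaf (631, 0)))) (.node (.node (.leaf (114, 0)) (.leaf (491, 1))) (.leaf (277, 1))))) (.node (.node (.node (.node (.leaf (26, 1)) (.leaf (354, 0))) (.node (.leaf (172, 0)) (.leaf (591, 0)))) (.node (.node (.leaf (95, 1)) (.leaf (461, 1))) (.node (.leaf (257, 0)) (.leaf (868, 0))))) (.node (.node (.node (.leaf (61, 0)) (.leaf (404, 0))) (.node (.leaf (217, 0)) (.leaf (683, 0)))) (.node (.node (.leaf (134, 1)) (.leaf (525, 1))) (.leaf (302, 1))))))) (.node (.node (.node (.node (.node (.node (.leaf (6, 0)) (.leaf (324, 0))) (.node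 (.leaf (147, 1)) (.leaf (547, 0)))) (.node (.node (.leaf (73, 0)) (.leaf (423, 0))) (.node (.leaf (231, 1)) (.leaf (719, 0))))) (.node (.node (.node (.leaf (39, 0)) (.leaf (378, 1))) (.node (.leaf (188, 1)) (.leaf (619, 0)))) (.node (.node (.leaf (110, 0)) (.leaf (482, 1))) (.leaf (272, 0))))) (.node (.node (.node (.node (.leaf (22, 1)) (.leaf (347, 0))) (.node (.leaf (167, 0)) (.leaf (581, 0)))) (.node (.node (.leaf (91, 1)) (.leaf (453, 0))) (.node (.leaf (252, 1)) (.leaf (830, 0))))) (.node (.node (.node (.leaf (57, 0)) (.leaf (399, 0))) (.node (.leaf (211, 0)) (.leaf (668, 1)))) (.node (.node (.leaf (128, 0)) (.leaf (516, 1))) (.leaf (296, 0)))))) (.node (.node (.node (.node (.node (.leaf (14, 0)) (.leaf (335, 1))) (.node (.leaf (158, 0)) (.leaf (564, 1)))) (.node (.node (.leaf (83, 1)) (.leaf (438, 1))) (.node (.leaf (241, 1)) (.leaf (765, 0))))) (.node (.node (.node (.leaf (48, 1)) (.leaf (388, 0))) (.node (.leaf (199, 0)) (.leaf (645, 0)))) (.node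 (.node (.leaf (118, 1)) (.leaf (500, 0))) (.leaf (283, 1))))) (.node (.node (.node (.node (.leaf (31, 0)) (.leaf (360, 1))) (.node (.leaf (176, 0)) (.leaf (601, 0)))) (.node (.node (.leaf (100, 0)) (.leaf (468, 1))) (.node (.leaf (262, 1)) (.leaf (917, 0))))) (.node (.node (.node (.leaf (65, 0)) (.leaf (410, 0))) (.node (.leaf (222, 0)) (.leaf (701, 1)))) (.node (.node (.leaf (139, 0)) (.leaf (533, 0))) (.leaf (310, 1))))))))) (.node (.node (.node (.node (.node (.node (.node (.node (.leaf (1, 0)) (.leaf (315, 1))) (.node (.leaf (142, 0)) (.leaf (538, 1)))) (.node (.node (.leaf (68, 0)) (.leaf (414, 1))) (.node (.leaf (226, 0)) (.leaf (706, 1))))) (.node (.node (.node (.leaf (34, 0)) (.leaf (366, 0))) (.node (.leaf (181, 0)) (.leaf (607, 1)))) (.node (.node (.leaf (104, 1)) (.leaf (474, 0))) (.leaf (265, 1))))) (.node (.node (.node (.node (.leaf (17, 1)) (.leaf (339, 0))) (.node (.leaf (162, 0)) (.leaf (569, 0)))) (.node (.node (.leaf (86, 1)) (.leaf (443,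 0))) (.node (.leaf (245, 0)) (.leaf (788, 1))))) (.node (.node (.node (.leaf (52, 0)) (.leaf (392, 0))) (.node (.leaf (203, 1)) (.leaf (651, 1)))) (.node (.node (.leaf (122, 1)) (.leaf (507, 0))) (.leaf (287, 0)))))) (.node (.node (.node (.node (.node (.leaf (9, 0)) (.leaf (327, 1))) (.node (.leaf (151, 0)) (.leaf (555, 0)))) (.node (.node (.leaf (77, 1)) (.leaf (428, 1))) (.node (.leaf (235, 1)) (.leaf (736, 0))))) (.node (.node (.node (.leaf (42, 0)) (.leaf (382, 0))) (.node (.leaf (192, 0)) (.leaf (629, 0)))) (.node (.node (.leaf (113, 0)) (.leaf (489, 0))) (.leaf (276, 0))))) (.node (.node (.node (.node (.leaf (25, 1)) (.leaf (352, 1))) (.node (.leaf (171, 0)) (.leaf (588, 0)))) (.node (.node (.leaf (94, 1)) (.leaf (460, 0))) (.node (.leaf (256, 0)) (.leaf (861, 1))))) (.node (.node (.node (.leaf (60, 0)) (.leaf (402, 1))) (.node (.leaf (216, 0)) (.leaf (680, 0)))) (.node (.node (.leaf (133, 0)) (.leaf (524, 1))) (.leaf (300, 1))))))) (.node (.node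 (.node (.node (.node (.node (.leaf (5, 0)) (.leaf (323, 0))) (.node (.leaf (146, 1)) (.leaf (545, 1)))) (.node (.node (.leaf (72, 0)) (.leaf (421, 1))) (.node (.leaf (230, 1)) (.leaf (716, 1))))) (.node (.node (.node (.leaf (38, 0)) (.leaf (372, 1))) (.node (.leaf (187, 0)) (.leaf (615, 0)))) (.node (.node (.leaf (109, 0)) (.leaf (479, 1))) (.leaf (270, 0))))) (.node (.node (.node (.node (.leaf (21, 1)) (.leaf (345, 0))) (.node (.leaf (166, 0)) (.leaf (579, 0)))) (.node (.node (.leaf (90, 1)) (.leaf (450, 1))) (.node (.leaf (251, 1)) (.leaf (823, 1))))) (.node (.node (.node (.leaf (56, 0)) (.leaf (398, 0))) (.node (.leaf (209, 1)) (.leaf (666, 0)))) (.node (.node (.leaf (127, 0)) (.leaf (514, 0))) (.leaf (293, 0)))))) (.node (.node (.node (.node (.node (.leaf (13, 0)) (.leaf (334, 0))) (.node (.leaf (157, 0)) (.leaf (563, 1)))) (.node (.node (.leaf (82, 1)) (.leaf (436, 0))) (.node (.leaf (240, 1)) (.leaf (758, 1))))) (.node (.node (.node (.leaf (47, 1))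 (.leaf (387, 0))) (.node (.leaf (198, 0)) (.leaf (643, 0)))) (.node (.node (.leaf (117, 0)) (.leaf (499, 0))) (.leaf (281, 0))))) (.node (.node (.node (.node (.leaf (29, 1)) (.leaf (358, 1))) (.node (.leaf (175, 0)) (.leaf (598, 1)))) (.node (.node (.leaf (99, 0)) (.leaf (466, 1))) (.node (.leaf (260, 0)) (.leaf (904, 0))))) (.node (.node (.node (.leaf (64, 0)) (.leaf (409, 0))) (.node (.leaf (221, 0)) (.leaf (695, 0)))) (.node (.node (.leaf (137, 1)) (.leaf (530, 0))) (.leaf (309, 0)))))))) (.node (.node (.node (.node (.node (.node (.node (.leaf (3, 0)) (.leaf (320, 0))) (.node (.leaf (144, 1)) (.leaf (542, 1)))) (.node (.node (.leaf (70, 0)) (.leaf (418, 1))) (.node (.leaf (228, 1)) (.leaf (709, 0))))) (.node (.node (.node (.leaf (36, 0)) (.leaf (368, 1))) (.node (.leaf (184, 1)) (.leaf (611, 0)))) (.node (.node (.leaf (107, 0)) (.leaf (477, 0))) (.leaf (267, 1))))) (.node (.node (.node (.node (.leaf (19, 1)) (.leaf (342, 0))) (.node (.leaf (164, 0))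 (.leaf (573, 1)))) (.node (.node (.leaf (88, 1)) (.leaf (448, 0))) (.node (.leaf (248, 0)) (.leaf (794, 0))))) (.node (.node (.node (.leaf (54, 0)) (.leaf (394, 1))) (.node (.leaf (206, 0)) (.leaf (655, 0)))) (.node (.node (.leaf (125, 0)) (.leaf (511, 0))) (.leaf (291, 0)))))) (.node (.node (.node (.node (.node (.leaf (11, 0)) (.leaf (330, 0))) (.node (.leaf (153, 1)) (.leaf (560, 1)))) (.node (.node (.leaf (80, 1)) (.leaf (433, 1))) (.node (.leaf (238, 1)) (.leaf (743, 1))))) (.node (.node (.node (.leaf (44, 0)) (.leaf (384, 1))) (.node (.leaf (195, 1)) (.leaf (635, 1)))) (.node (.node (.leaf (115, 0)) (.leaf (493, 1))) (.leaf (278, 1))))) (.node (.node (.node (.node (.leaf (27, 1)) (.leaf (356, 0))) (.node (.leaf (173, 0)) (.leaf (595, 0)))) (.node (.node (.leaf (96, 1)) (.leaf (462, 1))) (.node (.leaf (258, 0)) (.leaf (872, 1))))) (.node (.node (.node (.leaf (62, 0)) (.leaf (405, 0))) (.node (.leaf (218, 1)) (.leaf (686, 1)))) (.node (.node (.leaf (135,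 1)) (.leaf (526, 1))) (.leaf (304, 0))))))) (.node (.node (.node (.node (.node (.node (.leaf (7, 0)) (.leaf (325, 0))) (.node (.leaf (148, 1)) (.leaf (549, 0)))) (.node (.node (.leaf (74, 0)) (.leaf (424, 0))) (.node (.leaf (233, 0)) (.leaf (721, 1))))) (.node (.node (.node (.leaf (40, 0)) (.leaf (379, 1))) (.node (.leaf (189, 1)) (.leaf (620, 0)))) (.node (.node (.leaf (111, 0)) (.leaf (483, 1))) (.leaf (273, 0))))) (.node (.node (.node (.node (.leaf (23, 1)) (.leaf (348, 0))) (.node (.leaf (168, 1)) (.leaf (582, 1)))) (.node (.node (.leaf (92, 1)) (.leaf (455, 1))) (.node (.leaf (254, 0)) (.leaf (842, 0))))) (.node (.node (.node (.leaf (58, 0)) (.leaf (400, 1))) (.node (.leaf (212, 1)) (.leaf (674, 0)))) (.node (.node (.leaf (130, 1)) (.leaf (520, 1))) (.leaf (297, 0)))))) (.node (.node (.node (.node (.node (.leaf (15, 1)) (.leaf (336, 1))) (.node (.leaf (159, 1)) (.leaf (566, 1)))) (.node (.node (.leaf (84, 1)) (.leaf (439, 1))) (.node (.leaf (242, 1))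 (.leaf (776, 0))))) (.node (.node (.node (.leaf (50, 0)) (.leaf (389, 0))) (.node (.leaf (200, 0)) (.leaf (646, 0)))) (.node (.node (.leaf (119, 1)) (.leaf (501, 1))) (.leaf (284, 1))))) (.node (.node (.node (.node (.leaf (32, 0)) (.leaf (362, 0))) (.node (.leaf (177, 1)) (.leaf (603, 0)))) (.node (.node (.leaf (101, 0)) (.leaf (471, 1))) (.node (.leaf (263, 1)) (.leaf (942, 1))))) (.node (.node (.node (.leaf (66, 0)) (.leaf (412, 0))) (.node (.leaf (223, 0)) (.leaf (703, 1)))) (.node (.node (.leaf (140, 0)) (.leaf (535, 1))) (.leaf (311, 1))))))))))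

/-- data -/
def cert3 : Trie (ℕ × ℕ × ℕ) := .node (.node (.node (.node (.node (.node (.node (.node (.node (.node (.leaf (0, 0, 4)) (.leaf (4, 88, 1))) (.node (.leaf (3, 9, 4)) (.leaf (2, 773, 6)))) (.node (.node (.leaf (4, 92, 7)) (.leaf (1, 504, 0))) (.node (.leaf (2, 45, 7)) (.leaf (4, 687, 6))))) (.node (.node (.node (.leaf (1, 119, 4)) (.leaf (4, 635, 8))) (.node (.leaf (3, 107, 2)) (.leaf (3, 524, 4)))) (.node (.node (.leaf (2, 306, 8)) (.leaf (2, 377, 7))) (.node (.leaf (2, 717, 3)) (.leaf (2, 707, 9)))))) (.node (.node (.node (.node (.leaf (1, 0, 4)) (.leaf (4, 281, 7))) (.node (.leaf (0, 175, 3)) (.leaf (3, 70, 4)))) (.node (.node (.leaf (0, 55, 3)) (.leaf (2, 202, 8))) (.node (.leaf (2, 318, 2)) (.leaf (4, 907, 0))))) (.node (.node (.node (.leaf (3, 1, 3)) (.leaf (0, 389, 4))) (.node (.leaf (4, 453, 4)) (.leaf (4, 280, 6)))) (.node (.node (.leaf (4, 787, 8)) (.leaf (2, 545, 9))) (.leaf (3, 189, 3)))))) (.node (.node (.node (.node (.node (.leaf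 (0, 37, 4)) (.leaf (4, 195, 7))) (.node (.leaf (4, 149, 9)) (.leaf (2, 870, 11)))) (.node (.node (.leaf (4, 387, 8)) (.leaf (2, 119, 7))) (.node (.leaf (2, 259, 6)) (.leaf (4, 780, 5))))) (.node (.node (.node (.leaf (2, 44, 8)) (.leaf (4, 807, 0))) (.node (.leaf (4, 243, 2)) (.leaf (4, 96, 4)))) (.node (.node (.leaf (4, 36, 4)) (.leaf (2, 450, 6))) (.leaf (3, 60, 3))))) (.node (.node (.node (.node (.leaf (1, 36, 4)) (.leaf (4, 465, 9))) (.node (.leaf (2, 311, 9)) (.leaf (3, 257, 2)))) (.node (.node (.leaf (2, 34, 7)) (.leaf (2, 297, 6))) (.node (.leaf (2, 499, 10)) (.leaf (1, 617, 3))))) (.node (.node (.node (.leaf (3, 34, 3)) (.leaf (1, 231, 2))) (.node (.leaf (0, 186, 4)) (.leaf (4, 558, 8)))) (.node (.node (.leaf (1, 270, 2)) (.leaf (2, 668, 7))) (.leaf (3, 416, 2))))))) (.node (.node (.node (.node (.node (.node (.leaf (0, 16, 4)) (.leaf (4, 150, 8))) (.node (.leaf (3, 166, 3)) (.leaf (2, 819, 6)))) (.node (.node (.leaf (4, 170, 9)) (.leaf (2, 80, 1)))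 (.node (.leaf (2, 191, 8)) (.leaf (4, 746, 5))))) (.node (.node (.node (.leaf (2, 9, 8)) (.leaf (4, 741, 4))) (.node (.leaf (3, 388, 2)) (.leaf (3, 585, 3)))) (.node (.node (.leaf (3, 89, 4)) (.leaf (2, 420, 6))) (.leaf (2, 933, 11))))) (.node (.node (.node (.node (.leaf (1, 17, 4)) (.leaf (4, 409, 5))) (.node (.leaf (1, 268, 2)) (.leaf (3, 150, 2)))) (.node (.node (.leaf (1, 115, 3)) (.leaf (2, 235, 11))) (.node (.leaf (2, 416, 9)) (.leaf (0, 190, 4))))) (.node (.node (.node (.leaf (3, 11, 3)) (.leaf (1, 149, 3))) (.node (.leaf (4, 745, 8)) (.leaf (4, 398, 7)))) (.node (.node (.leaf (1, 48, 3)) (.leaf (2, 614, 10))) (.leaf (3, 264, 1)))))) (.node (.node (.node (.node (.node (.leaf (0, 86, 4)) (.leaf (4, 236, 1))) (.node (.leaf (4, 500, 7)) (.leaf (2, 915, 9)))) (.node (.node (.leaf (4, 523, 9)) (.leaf (2, 151, 8))) (.node (.leaf (2, 286, 9)) (.leaf (4, 835, 2))))) (.node (.node (.node (.leaf (2, 81, 8)) (.leaf (0, 108, 1))) (.node (.leaf (4, 315, 8)) (.leaf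 (4, 191, 7)))) (.node (.node (.leaf (4, 278, 8)) (.leaf (2, 504, 6))) (.leaf (3, 125, 1))))) (.node (.node (.node (.node (.leaf (1, 65, 4)) (.leaf (4, 552, 9))) (.node (.leaf (2, 733, 7)) (.leaf (3, 386, 2)))) (.node (.node (.leaf (2, 117, 8)) (.leaf (2, 339, 6))) (.node (.leaf (2, 637, 4)) (.leaf (2, 399, 6))))) (.node (.node (.node (.leaf (4, 54, 4)) (.leaf (1, 349, 4))) (.node (.leaf (1, 109, 2)) (.leaf (4, 628, 7)))) (.node (.node (.leaf (2, 67, 2)) (.leaf (2, 740, 3))) (.leaf (4, 40, 7)))))))) (.node (.node (.node (.node (.node (.node (.node (.leaf (0, 8, 4)) (.leaf (4, 115, 7))) (.node (.leaf (3, 83, 4)) (.leaf (2, 792, 2)))) (.node (.node (.leaf (4, 137, 4)) (.leaf (2, 63, 7))) (.node (.leaf (2, 138, 9)) (.leaf (4, 713, 5))))) (.node (.node (.node (.leaf (2, 1, 6)) (.leaf (4, 698, 1))) (.node (.leaf (3, 161, 1)) (.leaf (3, 542, 1)))) (.node (.node (.leaf (3, 20, 1)) (.leaf (2, 392, 10))) (.leaf (2, 823, 1))))) (.node (.node (.node (.node (.leaf (1,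 7, 4)) (.leaf (4, 355, 4))) (.node (.leaf (1, 176, 2)) (.leaf (3, 109, 3)))) (.node (.node (.leaf (0, 316, 4)) (.leaf (2, 217, 8))) (.node (.leaf (2, 349, 6)) (.leaf (4, 934, 5))))) (.node (.node (.node (.leaf (3, 5, 3)) (.leaf (0, 568, 4))) (.node (.leaf (4, 661, 6)) (.leaf (4, 370, 7)))) (.node (.node (.leaf (0, 167, 3)) (.leaf (2, 589, 8))) (.leaf (3, 211, 2)))))) (.node (.node (.node (.node (.node (.leaf (0, 57, 4)) (.leaf (4, 211, 8))) (.node (.leaf (4, 317, 8)) (.leaf (2, 893, 0)))) (.node (.node (.leaf (4, 476, 9)) (.leaf (2, 144, 9))) (.node (.leaf (2, 272, 9)) (.leaf (4, 796, 6))))) (.node (.node (.node (.leaf (2, 61, 8)) (.leaf (4, 834, 2))) (.node (.leaf (4, 295, 3)) (.leaf (4, 148, 7)))) (.node (.node (.leaf (4, 189, 8)) (.leaf (2, 475, 6))) (.leaf (3, 87, 3))))) (.node (.node (.node (.node (.leaf (1, 54, 4)) (.leaf (4, 542, 8))) (.node (.leaf (2, 461, 11)) (.leaf (3, 347, 1)))) (.node (.node (.leaf (2, 76, 8)) (.leaf (2, 326, 0))) (.node (.leaf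 (2, 565, 2)) (.leaf (2, 279, 0))))) (.node (.node (.node (.leaf (4, 23, 4)) (.leaf (1, 291, 4))) (.node (.leaf (0, 335, 4)) (.leaf (4, 591, 7)))) (.node (.node (.leaf (2, 18, 7)) (.leaf (2, 692, 0))) (.leaf (4, 1, 2))))))) (.node (.node (.node (.node (.node (.node (.leaf (0, 26, 4)) (.leaf (4, 171, 1))) (.node (.leaf (4, 8, 4)) (.leaf (2, 854, 2)))) (.node (.node (.leaf (4, 262, 9)) (.leaf (2, 99, 8))) (.node (.leaf (2, 233, 4)) (.leaf (4, 762, 0))))) (.node (.node (.node (.leaf (2, 25, 8)) (.leaf (4, 767, 0))) (.node (.leaf (4, 104, 5)) (.leaf (3, 704, 1)))) (.node (.node (.leaf (3, 256, 3)) (.leaf (2, 438, 9))) (.leaf (3, 26, 4))))) (.node (.node (.node (.node (.leaf (1, 27, 4)) (.leaf (4, 431, 2))) (.node (.leaf (2, 155, 7)) (.leaf (3, 221, 1)))) (.node (.node (.leaf (1, 168, 3)) (.leaf (2, 265, 6))) (.node (.leaf (2, 485, 7)) (.leaf (1, 325, 4))))) (.node (.node (.node (.leaf (3, 18, 3)) (.leaf (1, 209, 1))) (.node (.leaf (4, 856, 7)) (.leaf (4, 529,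 4)))) (.node (.node (.leaf (1, 172, 3)) (.leaf (2, 627, 7))) (.leaf (3, 330, 4)))))) (.node (.node (.node (.node (.node (.leaf (0, 122, 4)) (.leaf (4, 255, 4))) (.node (.leaf (4, 675, 5)) (.leaf (2, 944, 11)))) (.node (.node (.leaf (4, 596, 8)) (.leaf (2, 188, 11))) (.node (.leaf (2, 301, 9)) (.leaf (4, 859, 8))))) (.node (.node (.node (.leaf (2, 154, 8)) (.leaf (0, 216, 3))) (.node (.leaf (4, 416, 5)) (.leaf (4, 225, 4)))) (.node (.node (.leaf (4, 443, 1)) (.leaf (2, 525, 9))) (.leaf (3, 146, 3))))) (.node (.node (.node (.node (.leaf (1, 87, 4)) (.leaf (4, 609, 8))) (.node (.leaf (3, 85, 3)) (.leaf (3, 438, 1)))) (.node (.node (.leaf (2, 194, 10)) (.leaf (2, 346, 11))) (.node (.leaf (2, 675, 7)) (.leaf (2, 487, 4))))) (.node (.node (.node (.leaf (4, 79, 7)) (.leaf (1, 419, 2))) (.node (.leaf (1, 194, 2)) (.leaf (4, 654, 0)))) (.node (.node (.leaf (2, 176, 7)) (.leaf (2, 761, 11))) (.leaf (4, 59, 1))))))))) (.node (.node (.node (.node (.node (.node (.node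 (.node (.leaf (0, 4, 4)) (.leaf (4, 101, 4))) (.node (.leaf (3, 39, 3)) (.leaf (2, 785, 4)))) (.node (.node (.leaf (4, 117, 8)) (.leaf (2, 2, 1))) (.node (.leaf (2, 113, 6)) (.leaf (4, 697, 4))))) (.node (.node (.node (.leaf (1, 146, 4)) (.leaf (4, 679, 6))) (.node (.leaf (3, 142, 2)) (.leaf (3, 535, 2)))) (.node (.node (.leaf (2, 661, 1)) (.leaf (2, 386, 8))) (.leaf (2, 742, 2))))) (.node (.node (.node (.node (.leaf (1, 3, 4)) (.leaf (4, 298, 0))) (.node (.leaf (0, 405, 2)) (.leaf (3, 90, 3)))) (.node (.node (.leaf (0, 132, 4)) (.leaf (2, 205, 7))) (.node (.leaf (2, 330, 9)) (.leaf (4, 910, 8))))) (.node (.node (.node (.leaf (3, 3, 3)) (.leaf (0, 409, 2))) (.node (.leaf (4, 517, 5)) (.leaf (4, 321, 2)))) (.node (.node (.leaf (0, 112, 3)) (.leaf (2, 571, 5))) (.leaf (3, 194, 3)))))) (.node (.node (.node (.node (.node (.leaf (0, 41, 4)) (.leaf (4, 207, 3))) (.node (.leaf (4, 282, 1)) (.leaf (2, 888, 6)))) (.node (.node (.leaf (4, 436, 4)) (.leaf (2, 130,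 8))) (.node (.leaf (2, 267, 8)) (.leaf (4, 789, 0))))) (.node (.node (.node (.leaf (2, 52, 8)) (.leaf (4, 820, 0))) (.node (.leaf (4, 291, 8)) (.leaf (4, 125, 7)))) (.node (.node (.leaf (4, 119, 4)) (.leaf (2, 459, 5))) (.leaf (3, 67, 4))))) (.node (.node (.node (.node (.leaf (1, 42, 4)) (.leaf (4, 534, 0))) (.node (.leaf (2, 345, 8)) (.leaf (3, 341, 4)))) (.node (.node (.leaf (2, 47, 8)) (.leaf (2, 305, 8))) (.node (.leaf (2, 533, 5)) (.leaf (1, 783, 2))))) (.node (.node (.node (.leaf (4, 11, 7)) (.leaf (1, 243, 3))) (.node (.leaf (0, 195, 2)) (.leaf (4, 566, 8)))) (.node (.node (.leaf (1, 383, 2)) (.leaf (2, 677, 9))) (.leaf (3, 434, 3))))))) (.node (.node (.node (.node (.node (.node (.leaf (0, 22, 4)) (.leaf (4, 154, 1))) (.node (.leaf (3, 387, 4)) (.leaf (2, 839, 1)))) (.node (.node (.leaf (4, 253, 8)) (.leaf (2, 95, 4))) (.node (.leaf (2, 207, 1)) (.leaf (4, 751, 1))))) (.node (.node (.node (.leaf (2, 17, 8)) (.leaf (4, 764, 0))) (.node (.leaf (4,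 77, 4)) (.leaf (3, 609, 4)))) (.node (.node (.leaf (3, 173, 2)) (.leaf (2, 432, 1))) (.leaf (3, 14, 4))))) (.node (.node (.node (.node (.leaf (1, 21, 4)) (.leaf (4, 427, 0))) (.node (.leaf (2, 75, 5)) (.leaf (3, 175, 3)))) (.node (.node (.leaf (1, 135, 2)) (.leaf (2, 244, 8))) (.node (.leaf (2, 452, 4)) (.leaf (0, 460, 1))))) (.node (.node (.node (.leaf (3, 15, 3)) (.leaf (1, 191, 3))) (.node (.leaf (4, 815, 9)) (.leaf (4, 426, 9)))) (.node (.node (.leaf (1, 77, 3)) (.leaf (2, 620, 8))) (.leaf (3, 311, 4)))))) (.node (.node (.node (.node (.node (.leaf (0, 100, 4)) (.leaf (4, 240, 8))) (.node (.leaf (4, 562, 9)) (.leaf (2, 935, 11)))) (.node (.node (.leaf (4, 572, 9)) (.leaf (2, 169, 7))) (.node (.leaf (2, 290, 2)) (.leaf (4, 840, 0))))) (.node (.node (.node (.leaf (2, 97, 8)) (.leaf (0, 169, 2))) (.node (.leaf (4, 339, 1)) (.leaf (4, 209, 7)))) (.node (.node (.leaf (4, 323, 6)) (.leaf (2, 520, 11))) (.leaf (3, 141, 1))))) (.node (.node (.node (.node (.leaf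 (1, 79, 4)) (.leaf (4, 585, 8))) (.node (.leaf (3, 53, 2)) (.leaf (3, 400, 4)))) (.node (.node (.leaf (2, 168, 8)) (.leaf (2, 343, 9))) (.node (.leaf (2, 650, 10)) (.leaf (2, 462, 9))))) (.node (.node (.node (.leaf (4, 63, 8)) (.leaf (1, 408, 1))) (.node (.leaf (1, 137, 2)) (.leaf (4, 638, 5)))) (.node (.node (.leaf (2, 100, 8)) (.leaf (2, 743, 10))) (.leaf (4, 47, 5)))))))) (.node (.node (.node (.node (.node (.node (.node (.leaf (0, 12, 4)) (.leaf (4, 141, 7))) (.node (.leaf (3, 122, 3)) (.leaf (2, 798, 6)))) (.node (.node (.leaf (4, 146, 7)) (.leaf (2, 68, 8))) (.node (.leaf (2, 173, 5)) (.leaf (4, 721, 1))))) (.node (.node (.node (.leaf (2, 5, 8)) (.leaf (4, 735, 2))) (.node (.leaf (3, 266, 2)) (.leaf (3, 555, 2)))) (.node (.node (.leaf (3, 54, 3)) (.leaf (2, 407, 8))) (.leaf (2, 873, 1))))) (.node (.node (.node (.node (.leaf (1, 11, 4)) (.leaf (4, 395, 8))) (.node (.leaf (1, 182, 0)) (.leaf (3, 119, 3)))) (.node (.node (.leaf (1, 60, 3)) (.leaf (2,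 229, 3))) (.node (.leaf (2, 406, 7)) (.leaf (4, 958, 9))))) (.node (.node (.node (.leaf (3, 8, 3)) (.leaf (1, 113, 3))) (.node (.leaf (4, 704, 8)) (.leaf (4, 391, 8)))) (.node (.node (.leaf (0, 303, 3)) (.leaf (2, 598, 10))) (.leaf (3, 239, 3)))))) (.node (.node (.node (.node (.node (.leaf (0, 70, 4)) (.leaf (4, 227, 2))) (.node (.leaf (4, 457, 0)) (.leaf (2, 905, 11)))) (.node (.node (.leaf (4, 514, 8)) (.leaf (2, 147, 0))) (.node (.leaf (2, 278, 6)) (.leaf (4, 831, 4))))) (.node (.node (.node (.leaf (2, 73, 8)) (.leaf (4, 883, 6))) (.node (.leaf (4, 306, 5)) (.leaf (4, 182, 7)))) (.node (.node (.leaf (4, 196, 8)) (.leaf (2, 480, 1))) (.leaf (3, 101, 1))))) (.node (.node (.node (.node (.leaf (1, 61, 4)) (.leaf (4, 545, 8))) (.node (.leaf (2, 509, 8)) (.leaf (3, 380, 1)))) (.node (.node (.leaf (2, 104, 8)) (.leaf (2, 332, 9))) (.node (.leaf (2, 583, 4)) (.leaf (2, 296, 9))))) (.node (.node (.node (.leaf (4, 38, 4)) (.leaf (1, 339, 2))) (.node (.leaf (1,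 40, 2)) (.leaf (4, 614, 6)))) (.node (.node (.leaf (2, 43, 8)) (.leaf (2, 713, 11))) (.leaf (4, 17, 5))))))) (.node (.node (.node (.node (.node (.node (.leaf (0, 31, 4)) (.leaf (4, 180, 5))) (.node (.leaf (4, 84, 4)) (.leaf (2, 865, 4)))) (.node (.node (.leaf (4, 334, 8)) (.leaf (2, 114, 1))) (.node (.leaf (2, 243, 4)) (.leaf (4, 771, 7))))) (.node (.node (.node (.leaf (2, 32, 8)) (.leaf (4, 793, 8))) (.node (.leaf (4, 161, 8)) (.leaf (4, 16, 4)))) (.node (.node (.leaf (4, 13, 4)) (.leaf (2, 444, 7))) (.leaf (3, 36, 3))))) (.node (.node (.node (.node (.leaf (1, 32, 4)) (.leaf (4, 455, 0))) (.node (.leaf (2, 260, 5)) (.leaf (3, 247, 4)))) (.node (.node (.leaf (2, 19, 7)) (.leaf (2, 285, 3))) (.node (.leaf (2, 490, 2)) (.leaf (1, 362, 1))))) (.node (.node (.node (.leaf (3, 21, 3)) (.leaf (1, 224, 2))) (.node (.leaf (4, 874, 7)) (.leaf (4, 541, 4)))) (.node (.node (.leaf (1, 213, 4)) (.leaf (2, 634, 3))) (.leaf (3, 384, 2)))))) (.node (.node (.node (.node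 (.node (.leaf (0, 140, 4)) (.leaf (4, 274, 3))) (.node (.leaf (0, 93, 3)) (.leaf (3, 65, 3)))) (.node (.node (.leaf (4, 726, 9)) (.leaf (2, 195, 8))) (.node (.leaf (2, 310, 1)) (.leaf (4, 865, 4))))) (.node (.node (.node (.leaf (2, 182, 8)) (.leaf (0, 263, 3))) (.node (.leaf (4, 434, 0)) (.leaf (4, 251, 7)))) (.node (.node (.leaf (4, 631, 1)) (.leaf (2, 535, 7))) (.leaf (3, 172, 1))))) (.node (.node (.node (.node (.leaf (1, 95, 4)) (.leaf (4, 624, 8))) (.node (.leaf (3, 95, 2)) (.leaf (3, 477, 4)))) (.node (.node (.leaf (2, 226, 8)) (.leaf (2, 365, 3))) (.node (.leaf (2, 693, 2)) (.leaf (2, 549, 8))))) (.node (.node (.node (.leaf (4, 87, 7)) (.leaf (1, 483, 1))) (.node (.leaf (1, 280, 3)) (.leaf (4, 659, 5)))) (.node (.node (.leaf (2, 268, 7)) (.leaf (2, 766, 6))) (.leaf (4, 76, 5)))))))))) (.node (.node (.node (.node (.node (.node (.node (.node (.node (.leaf (0, 2, 4)) (.leaf (4, 99, 7))) (.node (.leaf (3, 17, 4)) (.leaf (2, 779, 11)))) (.node (.node (.leaf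 (4, 107, 7)) (.leaf (1, 551, 3))) (.node (.leaf (2, 54, 3)) (.leaf (4, 695, 5))))) (.node (.node (.node (.leaf (1, 133, 4)) (.leaf (4, 668, 8))) (.node (.leaf (3, 113, 1)) (.leaf (3, 526, 1)))) (.node (.node (.leaf (2, 445, 9)) (.leaf (2, 381, 3))) (.leaf (2, 722, 2))))) (.node (.node (.node (.node (.leaf (1, 1, 4)) (.leaf (4, 286, 1))) (.node (.leaf (0, 345, 3)) (.leaf (3, 86, 4)))) (.node (.node (.leaf (0, 78, 4)) (.leaf (2, 203, 6))) (.node (.leaf (2, 328, 7)) (.leaf (4, 908, 7))))) (.node (.node (.node (.leaf (3, 2, 3)) (.leaf (0, 402, 1))) (.node (.leaf (4, 491, 7)) (.leaf (4, 308, 2)))) (.node (.node (.leaf (0, 62, 3)) (.leaf (2, 553, 6))) (.leaf (3, 191, 1)))))) (.node (.node (.node (.node (.node (.leaf (0, 39, 4)) (.leaf (4, 203, 5))) (.node (.leaf (4, 158, 5)) (.leaf (2, 881, 0)))) (.node (.node (.leaf (4, 399, 8)) (.leaf (2, 123, 9))) (.node (.leaf (2, 262, 6)) (.leaf (4, 782, 8))))) (.node (.node (.node (.leaf (2, 48, 8)) (.leaf (4, 813, 9)))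 (.node (.leaf (4, 246, 7)) (.leaf (4, 124, 7)))) (.node (.node (.leaf (4, 85, 8)) (.leaf (2, 456, 5))) (.leaf (3, 64, 3))))) (.node (.node (.node (.node (.leaf (1, 38, 4)) (.leaf (4, 513, 7))) (.node (.leaf (2, 340, 1)) (.leaf (3, 339, 2)))) (.node (.node (.leaf (2, 42, 7)) (.leaf (2, 298, 2))) (.node (.leaf (2, 508, 7)) (.leaf (1, 678, 3))))) (.node (.node (.node (.leaf (3, 42, 2)) (.leaf (1, 233, 2))) (.node (.leaf (0, 192, 3)) (.leaf (4, 560, 9)))) (.node (.node (.leaf (1, 311, 2)) (.leaf (2, 670, 11))) (.leaf (3, 420, 1))))))) (.node (.node (.node (.node (.node (.node (.leaf (0, 18, 4)) (.leaf (4, 152, 7))) (.node (.leaf (3, 285, 2)) (.leaf (2, 830, 8)))) (.node (.node (.leaf (4, 219, 3)) (.leaf (2, 94, 4))) (.node (.leaf (2, 192, 7)) (.leaf (4, 750, 7))))) (.node (.node (.node (.leaf (2, 13, 8)) (.leaf (4, 760, 4))) (.node (.leaf (4, 69, 7)) (.leaf (3, 598, 4)))) (.node (.node (.leaf (3, 148, 3)) (.leaf (2, 428, 6))) (.leaf (2, 957, 1))))) (.node (.node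 (.node (.node (.leaf (1, 19, 4)) (.leaf (4, 420, 4))) (.node (.leaf (1, 450, 2)) (.leaf (3, 171, 3)))) (.node (.node (.leaf (1, 127, 2)) (.leaf (2, 239, 5))) (.node (.leaf (2, 434, 7)) (.leaf (0, 234, 3))))) (.node (.node (.node (.leaf (3, 13, 3)) (.leaf (1, 189, 3))) (.node (.leaf (4, 766, 9)) (.leaf (4, 412, 8)))) (.node (.node (.leaf (1, 56, 3)) (.leaf (2, 619, 10))) (.leaf (3, 280, 1)))))) (.node (.node (.node (.node (.node (.leaf (0, 91, 4)) (.leaf (4, 238, 7))) (.node (.leaf (4, 505, 7)) (.leaf (2, 927, 6)))) (.node (.node (.leaf (4, 567, 8)) (.leaf (2, 152, 8))) (.node (.leaf (2, 289, 8)) (.leaf (4, 837, 5))))) (.node (.node (.node (.leaf (2, 89, 8)) (.leaf (0, 120, 2))) (.node (.leaf (4, 318, 0)) (.leaf (4, 206, 0)))) (.node (.node (.leaf (4, 301, 1)) (.leaf (2, 519, 2))) (.leaf (3, 133, 1))))) (.node (.node (.node (.node (.leaf (1, 67, 4)) (.leaf (4, 578, 0))) (.node (.leaf (2, 894, 9)) (.leaf (3, 397, 1)))) (.node (.node (.leaf (2, 143, 7)) (.leaf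 (2, 342, 8))) (.node (.leaf (2, 649, 4)) (.leaf (2, 402, 1))))) (.node (.node (.node (.leaf (4, 58, 7)) (.leaf (1, 352, 2))) (.node (.leaf (1, 129, 4)) (.leaf (4, 637, 5)))) (.node (.node (.leaf (2, 72, 8)) (.leaf (2, 741, 4))) (.leaf (4, 45, 4)))))))) (.node (.node (.node (.node (.node (.node (.node (.leaf (0, 10, 4)) (.leaf (4, 132, 2))) (.node (.leaf (3, 114, 2)) (.leaf (2, 796, 11)))) (.node (.node (.leaf (4, 144, 7)) (.leaf (2, 65, 7))) (.node (.leaf (2, 166, 6)) (.leaf (4, 720, 2))))) (.node (.node (.node (.leaf (2, 3, 6)) (.leaf (4, 716, 9))) (.node (.leaf (3, 259, 2)) (.leaf (3, 545, 1)))) (.node (.node (.leaf (3, 31, 4)) (.leaf (2, 404, 8))) (.leaf (2, 860, 4))))) (.node (.node (.node (.node (.leaf (1, 9, 4)) (.leaf (4, 365, 2))) (.node (.leaf (1, 180, 4)) (.leaf (3, 116, 4)))) (.node (.node (.leaf (1, 44, 2)) (.leaf (2, 223, 0))) (.node (.leaf (2, 387, 7)) (.leaf (4, 937, 9))))) (.node (.node (.node (.leaf (3, 6, 3)) (.leaf (1, 99, 4))) (.node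 (.leaf (4, 664, 2)) (.leaf (4, 380, 2)))) (.node (.node (.leaf (0, 260, 3)) (.leaf (2, 597, 2))) (.leaf (3, 230, 1)))))) (.node (.node (.node (.node (.node (.leaf (0, 68, 4)) (.leaf (4, 224, 1))) (.node (.leaf (4, 368, 7)) (.leaf (2, 897, 4)))) (.node (.node (.leaf (4, 506, 8)) (.leaf (2, 146, 6))) (.node (.leaf (2, 274, 0)) (.leaf (4, 797, 0))))) (.node (.node (.node (.leaf (2, 69, 8)) (.leaf (4, 876, 9))) (.node (.leaf (4, 302, 7)) (.leaf (4, 151, 4)))) (.node (.node (.leaf (4, 194, 6)) (.leaf (2, 479, 5))) (.leaf (3, 91, 3))))) (.node (.node (.node (.node (.leaf (1, 58, 4)) (.leaf (4, 543, 0))) (.node (.leaf (2, 476, 1)) (.leaf (3, 360, 3)))) (.node (.node (.leaf (2, 90, 7)) (.leaf (2, 329, 0))) (.node (.leaf (2, 580, 8)) (.leaf (2, 284, 8))))) (.node (.node (.node (.leaf (4, 27, 7)) (.leaf (1, 313, 2))) (.node (.leaf (0, 501, 4)) (.leaf (4, 610, 8)))) (.node (.node (.leaf (2, 38, 2)) (.leaf (2, 697, 4))) (.leaf (4, 14, 7))))))) (.node (.node (.node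 (.node (.node (.node (.leaf (0, 28, 4)) (.leaf (4, 177, 5))) (.node (.leaf (4, 31, 4)) (.leaf (2, 863, 2)))) (.node (.node (.leaf (4, 325, 7)) (.leaf (2, 108, 2))) (.node (.leaf (2, 238, 11)) (.leaf (4, 770, 8))))) (.node (.node (.node (.leaf (2, 29, 8)) (.leaf (4, 776, 8))) (.node (.leaf (4, 134, 0)) (.leaf (3, 793, 4)))) (.node (.node (.leaf (3, 287, 3)) (.leaf (2, 441, 8))) (.leaf (3, 35, 3))))) (.node (.node (.node (.node (.leaf (1, 29, 4)) (.leaf (4, 444, 4))) (.node (.leaf (2, 157, 8)) (.leaf (3, 223, 2)))) (.node (.node (.leaf (2, 11, 7)) (.leaf (2, 271, 4))) (.node (.leaf (2, 488, 4)) (.leaf (1, 356, 2))))) (.node (.node (.node (.leaf (3, 19, 3)) (.leaf (1, 222, 4))) (.node (.leaf (4, 866, 9)) (.leaf (4, 530, 4)))) (.node (.node (.leaf (1, 178, 2)) (.leaf (2, 628, 11))) (.leaf (3, 358, 1)))))) (.node (.node (.node (.node (.node (.leaf (0, 124, 4)) (.leaf (4, 264, 4))) (.node (.leaf (0, 35, 3)) (.leaf (3, 32, 2)))) (.node (.node (.leaf (4, 678, 8))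 (.leaf (2, 189, 7))) (.node (.leaf (2, 303, 5)) (.leaf (4, 862, 2))))) (.node (.node (.node (.leaf (2, 178, 8)) (.leaf (0, 247, 4))) (.node (.leaf (4, 417, 8)) (.leaf (4, 242, 7)))) (.node (.node (.leaf (4, 493, 6)) (.leaf (2, 534, 1))) (.leaf (3, 168, 3))))) (.node (.node (.node (.node (.leaf (1, 92, 4)) (.leaf (4, 616, 2))) (.node (.leaf (3, 88, 2)) (.leaf (3, 475, 2)))) (.node (.node (.leaf (2, 208, 8)) (.leaf (2, 358, 8))) (.node (.leaf (2, 680, 7)) (.leaf (2, 526, 5))))) (.node (.node (.node (.leaf (4, 83, 4)) (.leaf (1, 446, 4))) (.node (.leaf (1, 211, 1)) (.leaf (4, 655, 4)))) (.node (.node (.leaf (2, 219, 2)) (.leaf (2, 764, 2))) (.leaf (4, 61, 5))))))))) (.node (.node (.node (.node (.node (.node (.node (.node (.leaf (0, 6, 4)) (.leaf (4, 109, 4))) (.node (.leaf (3, 61, 4)) (.leaf (2, 786, 11)))) (.node (.node (.leaf (4, 133, 7)) (.leaf (2, 55, 9))) (.node (.leaf (2, 135, 10)) (.leaf (4, 703, 8))))) (.node (.node (.node (.leaf (1, 199, 4)) (.leaf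 (4, 689, 8))) (.node (.leaf (3, 157, 3)) (.leaf (3, 537, 4)))) (.node (.node (.leaf (2, 831, 4)) (.leaf (2, 389, 9))) (.leaf (2, 768, 11))))) (.node (.node (.node (.node (.leaf (1, 5, 4)) (.leaf (4, 319, 4))) (.node (.leaf (1, 162, 2)) (.leaf (3, 96, 2)))) (.node (.node (.leaf (0, 227, 4)) (.leaf (2, 214, 1))) (.node (.leaf (2, 341, 10)) (.leaf (4, 911, 0))))) (.node (.node (.node (.leaf (3, 4, 3)) (.leaf (0, 424, 4))) (.node (.leaf (4, 518, 4)) (.leaf (4, 361, 4)))) (.node (.node (.leaf (0, 165, 3)) (.leaf (2, 588, 7))) (.leaf (3, 196, 2)))))) (.node (.node (.node (.node (.node (.leaf (0, 43, 4)) (.leaf (4, 210, 0))) (.node (.leaf (4, 313, 3)) (.leaf (2, 892, 8)))) (.node (.node (.leaf (4, 470, 8)) (.leaf (2, 131, 8))) (.node (.leaf (2, 270, 10)) (.leaf (4, 794, 1))))) (.node (.node (.node (.leaf (2, 60, 8)) (.leaf (4, 833, 8))) (.node (.leaf (4, 292, 0)) (.leaf (4, 136, 2)))) (.node (.node (.leaf (4, 178, 4)) (.leaf (2, 467, 2))) (.leaf (3, 72, 3)))))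 (.node (.node (.node (.node (.leaf (1, 50, 4)) (.leaf (4, 537, 8))) (.node (.leaf (2, 405, 5)) (.leaf (3, 343, 3)))) (.node (.node (.leaf (2, 71, 7)) (.leaf (2, 322, 7))) (.node (.leaf (2, 555, 5)) (.leaf (2, 79, 7))))) (.node (.node (.node (.leaf (4, 19, 7)) (.leaf (1, 273, 4))) (.node (.leaf (0, 281, 3)) (.leaf (4, 583, 2)))) (.node (.node (.leaf (2, 10, 7)) (.leaf (2, 683, 9))) (.leaf (3, 500, 2))))))) (.node (.node (.node (.node (.node (.node (.leaf (0, 24, 4)) (.leaf (4, 162, 4))) (.node (.leaf (4, 4, 4)) (.leaf (2, 851, 7)))) (.node (.node (.leaf (4, 257, 4)) (.leaf (2, 96, 0))) (.node (.leaf (2, 213, 9)) (.leaf (4, 754, 8))))) (.node (.node (.node (.leaf (2, 21, 8)) (.leaf (4, 765, 8))) (.node (.leaf (4, 89, 1)) (.leaf (3, 668, 4)))) (.node (.node (.leaf (3, 198, 3)) (.leaf (2, 433, 8))) (.leaf (3, 25, 2))))) (.node (.node (.node (.node (.leaf (1, 23, 4)) (.leaf (4, 430, 4))) (.node (.leaf (2, 102, 7)) (.leaf (3, 209, 3)))) (.node (.node (.leaf (1,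 141, 3)) (.leaf (2, 247, 8))) (.node (.leaf (2, 453, 7)) (.leaf (1, 174, 4))))) (.node (.node (.node (.leaf (3, 16, 3)) (.leaf (1, 203, 4))) (.node (.leaf (4, 853, 5)) (.leaf (4, 524, 6)))) (.node (.node (.leaf (1, 85, 3)) (.leaf (2, 626, 4))) (.leaf (3, 320, 3)))))) (.node (.node (.node (.node (.node (.leaf (0, 114, 4)) (.leaf (4, 254, 0))) (.node (.leaf (4, 646, 8)) (.leaf (2, 940, 11)))) (.node (.node (.leaf (4, 588, 8)) (.leaf (2, 184, 7))) (.node (.leaf (2, 295, 4)) (.leaf (4, 849, 8))))) (.node (.node (.node (.leaf (2, 101, 8)) (.leaf (0, 202, 1))) (.node (.leaf (4, 406, 0)) (.leaf (4, 221, 7)))) (.node (.node (.leaf (4, 360, 6)) (.leaf (2, 522, 6))) (.leaf (3, 145, 3))))) (.node (.node (.node (.node (.leaf (1, 83, 4)) (.leaf (4, 604, 1))) (.node (.leaf (3, 71, 2)) (.leaf (3, 412, 1)))) (.node (.node (.leaf (2, 181, 8)) (.leaf (2, 344, 4))) (.node (.leaf (2, 666, 10)) (.leaf (2, 472, 9))))) (.node (.node (.node (.leaf (4, 67, 4)) (.leaf (1, 414, 1)))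 (.node (.leaf (1, 185, 2)) (.leaf (4, 639, 8)))) (.node (.node (.leaf (2, 153, 8)) (.leaf (2, 745, 7))) (.leaf (4, 53, 1)))))))) (.node (.node (.node (.node (.node (.node (.node (.leaf (0, 14, 4)) (.leaf (4, 142, 1))) (.node (.leaf (3, 137, 4)) (.leaf (2, 818, 9)))) (.node (.node (.leaf (4, 160, 8)) (.leaf (2, 78, 2))) (.node (.leaf (2, 175, 8)) (.leaf (4, 722, 4))))) (.node (.node (.node (.leaf (2, 7, 6)) (.leaf (4, 740, 8))) (.node (.leaf (3, 268, 2)) (.leaf (3, 573, 2)))) (.node (.node (.leaf (3, 63, 3)) (.leaf (2, 411, 0))) (.leaf (2, 874, 3))))) (.node (.node (.node (.node (.leaf (1, 13, 4)) (.leaf (4, 400, 0))) (.node (.leaf (1, 255, 2)) (.leaf (3, 131, 2)))) (.node (.node (.leaf (1, 73, 2)) (.leaf (2, 231, 3))) (.node (.leaf (2, 414, 10)) (.leaf (4, 959, 2))))) (.node (.node (.node (.leaf (3, 10, 3)) (.leaf (1, 125, 4))) (.node (.leaf (4, 723, 7)) (.leaf (4, 397, 7)))) (.node (.node (.leaf (1, 25, 3)) (.leaf (2, 611, 6))) (.leaf (3, 255, 1))))))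 (.node (.node (.node (.node (.node (.leaf (0, 72, 4)) (.leaf (4, 231, 3))) (.node (.leaf (4, 463, 8)) (.leaf (2, 912, 11)))) (.node (.node (.leaf (4, 519, 9)) (.leaf (2, 149, 4))) (.node (.leaf (2, 281, 7)) (.leaf (4, 832, 8))))) (.node (.node (.node (.leaf (2, 77, 8)) (.leaf (4, 906, 4))) (.node (.leaf (4, 312, 2)) (.leaf (4, 186, 4)))) (.node (.node (.leaf (4, 228, 7)) (.leaf (2, 491, 9))) (.leaf (3, 117, 3))))) (.node (.node (.node (.node (.leaf (1, 63, 4)) (.leaf (4, 549, 5))) (.node (.leaf (2, 685, 11)) (.leaf (3, 383, 1)))) (.node (.node (.leaf (2, 115, 8)) (.leaf (2, 338, 9))) (.node (.leaf (2, 622, 11)) (.leaf (2, 350, 9))))) (.node (.node (.node (.leaf (4, 50, 7)) (.leaf (1, 347, 1))) (.node (.leaf (1, 52, 2)) (.leaf (4, 621, 4)))) (.node (.node (.leaf (2, 62, 7)) (.leaf (2, 739, 1))) (.leaf (4, 34, 6))))))) (.node (.node (.node (.node (.node (.node (.leaf (0, 33, 4)) (.leaf (4, 181, 7))) (.node (.leaf (4, 105, 4)) (.leaf (2, 867, 10)))) (.node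 (.node (.leaf (4, 340, 9)) (.leaf (2, 118, 10))) (.node (.leaf (2, 245, 8)) (.leaf (4, 773, 5))))) (.node (.node (.node (.leaf (2, 40, 8)) (.leaf (4, 798, 9))) (.node (.leaf (4, 187, 2)) (.leaf (4, 64, 1)))) (.node (.node (.leaf (4, 21, 4)) (.leaf (2, 449, 6))) (.leaf (3, 47, 3))))) (.node (.node (.node (.node (.leaf (1, 34, 4)) (.leaf (4, 456, 8))) (.node (.leaf (2, 280, 8)) (.leaf (3, 254, 2)))) (.node (.node (.leaf (2, 27, 7)) (.leaf (2, 291, 6))) (.node (.leaf (2, 492, 3)) (.leaf (1, 517, 2))))) (.node (.node (.node (.leaf (3, 27, 2)) (.leaf (1, 229, 2))) (.node (.leaf (0, 148, 3)) (.leaf (4, 546, 0)))) (.node (.node (.leaf (1, 264, 3)) (.leaf (2, 640, 11))) (.leaf (3, 404, 1)))))) (.node (.node (.node (.node (.node (.leaf (0, 153, 4)) (.leaf (4, 276, 4))) (.node (.leaf (0, 118, 0)) (.leaf (3, 68, 1)))) (.node (.node (.leaf (0, 49, 4)) (.leaf (2, 199, 1))) (.node (.leaf (2, 314, 9)) (.leaf (4, 900, 9))))) (.node (.node (.node (.leaf (3, 0, 3)) (.leaf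 (0, 343, 2))) (.node (.leaf (4, 449, 0)) (.leaf (4, 256, 0)))) (.node (.node (.leaf (4, 769, 9)) (.leaf (2, 537, 8))) (.leaf (3, 174, 1))))) (.node (.node (.node (.node (.leaf (1, 117, 4)) (.leaf (4, 627, 4))) (.node (.leaf (3, 104, 3)) (.leaf (3, 511, 3)))) (.node (.node (.leaf (2, 237, 7)) (.leaf (2, 368, 4))) (.node (.leaf (2, 715, 1)) (.leaf (2, 578, 5))))) (.node (.node (.node (.leaf (4, 90, 7)) (.leaf (1, 503, 4))) (.node (.leaf (1, 283, 2)) (.leaf (4, 674, 0)))) (.node (.node (.leaf (2, 753, 8)) (.leaf (2, 771, 0))) (.leaf (4, 80, 0))))))))))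

/-- data -/
def pot3 : Trie (Vec) := .node (.node (.node (.node (.node (.node (.node (.node (.node (.node (.leaf ([])) (.leaf ([26, (-66)]))) (.node (.leaf ([22, (-62)])) (.leaf ([28, (-76)])))) (.node (.node (.leaf ([20, (-52)])) (.leaf ([32, (-64)]))) (.node (.leaf ([28, (-60)])) (.leaf ([34, (-74)]))))) (.node (.node (.node (.leaf ([20, (-36)])) (.leaf ([26, (-66)]))) (.node (.leaf ([24, (-56)])) (.leaf ([36, (-68)])))) (.node (.node (.leaf ([18, (-58)])) (.leaf ([30, (-70)]))) (.leaf ([30, (-54)]))))) (.node (.node (.node (.node (.leaf ([18, (-26)])) (.leaf ([26, (-66)]))) (.node (.leaf ([26, (-50)])) (.leaf ([30, (-70)])))) (.node (.node (.leaf ([22, (-46)])) (.leaf ([28, (-76)]))) (.node (.leaf ([30, (-54)])) (.leaf ([30, (-86)]))))) (.node (.node (.node (.leaf ([18, (-42)])) (.leaf ([30, (-70)]))) (.node (.leaf ([22, (-62)])) (.leaf ([32, (-80)])))) (.node (.node (.leaf ([26, (-50)])) (.leaf ([26, (-82)]))) (.leaf ([30, (-54)])))))) (.node (.node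 (.node (.node (.node (.leaf ([14, (-22)])) (.leaf ([28, (-60)]))) (.node (.leaf ([26, (-50)])) (.leaf ([28, (-76)])))) (.node (.node (.leaf ([24, (-40)])) (.leaf ([32, (-64)]))) (.node (.leaf ([28, (-60)])) (.leaf ([32, (-80)]))))) (.node (.node (.node (.leaf ([18, (-42)])) (.leaf ([32, (-64)]))) (.node (.leaf ([22, (-62)])) (.leaf ([36, (-68)])))) (.node (.node (.leaf ([20, (-52)])) (.leaf ([28, (-76)]))) (.leaf ([26, (-66)]))))) (.node (.node (.node (.node (.leaf ([16, (-32)])) (.leaf ([28, (-60)]))) (.node (.leaf ([22, (-62)])) (.leaf ([30, (-70)])))) (.node (.node (.leaf ([22, (-46)])) (.leaf ([34, (-58)]))) (.node (.leaf ([26, (-66)])) (.leaf ([40, (-72)]))))) (.node (.node (.node (.leaf ([16, (-48)])) (.leaf ([32, (-64)]))) (.node (.leaf ([22, (-62)])) (.leaf ([30, (-86)])))) (.node (.node (.leaf ([28, (-44)])) (.leaf ([28, (-76)]))) (.leaf ([26, (-66)]))))))) (.node (.node (.node (.node (.node (.node (.leaf ([10, (-18)])) (.leaf ([26, (-66)]))) (.node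 (.leaf ([26, (-50)])) (.leaf ([28, (-76)])))) (.node (.node (.leaf ([20, (-52)])) (.leaf ([30, (-70)]))) (.node (.leaf ([30, (-54)])) (.leaf ([30, (-86)]))))) (.node (.node (.node (.leaf ([18, (-42)])) (.leaf ([24, (-72)]))) (.node (.leaf ([24, (-56)])) (.leaf ([34, (-74)])))) (.node (.node (.leaf ([20, (-52)])) (.leaf ([30, (-70)]))) (.leaf ([30, (-54)]))))) (.node (.node (.node (.node (.leaf ([16, (-32)])) (.leaf ([26, (-66)]))) (.node (.leaf ([24, (-56)])) (.leaf ([28, (-76)])))) (.node (.node (.leaf ([20, (-52)])) (.leaf ([32, (-64)]))) (.node (.leaf ([26, (-66)])) (.leaf ([30, (-86)]))))) (.node (.node (.node (.leaf ([18, (-42)])) (.leaf ([30, (-70)]))) (.node (.leaf ([24, (-56)])) (.leaf ([36, (-68)])))) (.node (.node (.leaf ([26, (-50)])) (.leaf ([28, (-76)]))) (.leaf ([26, (-66)])))))) (.node (.node (.node (.node (.node (.leaf ([12, (-28)])) (.leaf ([24, (-72)]))) (.node (.leaf ([24, (-56)])) (.leaf ([28, (-76)])))) (.node (.node (.leaf ([22, (-46)]))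 (.leaf ([30, (-70)]))) (.node (.leaf ([30, (-54)])) (.leaf ([32, (-80)]))))) (.node (.node (.node (.leaf ([16, (-48)])) (.leaf ([32, (-64)]))) (.node (.leaf ([26, (-50)])) (.leaf ([34, (-74)])))) (.node (.node (.leaf ([18, (-58)])) (.leaf ([30, (-70)]))) (.leaf ([26, (-66)]))))) (.node (.node (.node (.node (.leaf ([14, (-38)])) (.leaf ([24, (-72)]))) (.node (.leaf ([22, (-62)])) (.leaf ([38, (-62)])))) (.node (.node (.leaf ([22, (-46)])) (.leaf ([34, (-58)]))) (.node (.leaf ([26, (-66)])) (.leaf ([40, (-72)]))))) (.node (.node (.node (.leaf ([22, (-46)])) (.leaf ([28, (-76)]))) (.node (.leaf ([34, (-42)])) (.leaf ([32, (-80)])))) (.node (.node (.leaf ([24, (-56)])) (.leaf ([32, (-64)]))) (.leaf ([24, (-72)])))))))) (.node (.node (.node (.node (.node (.node (.node (.leaf ([6, (-14)])) (.leaf ([26, (-66)]))) (.node (.leaf ([22, (-62)])) (.leaf ([32, (-64)])))) (.node (.node (.leaf ([22, (-46)])) (.leaf ([34, (-58)]))) (.node (.leaf ([30, (-54)])) (.leaf ([34,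 (-74)]))))) (.node (.node (.node (.leaf ([20, (-36)])) (.leaf ([24, (-72)]))) (.node (.leaf ([24, (-56)])) (.leaf ([38, (-62)])))) (.node (.node (.leaf ([22, (-46)])) (.leaf ([28, (-76)]))) (.leaf ([32, (-48)]))))) (.node (.node (.node (.node (.leaf ([16, (-32)])) (.leaf ([24, (-72)]))) (.node (.leaf ([22, (-62)])) (.leaf ([28, (-76)])))) (.node (.node (.leaf ([22, (-46)])) (.leaf ([28, (-76)]))) (.node (.leaf ([30, (-54)])) (.leaf ([30, (-86)]))))) (.node (.node (.node (.leaf ([16, (-48)])) (.leaf ([32, (-64)]))) (.node (.leaf ([22, (-62)])) (.leaf ([34, (-74)])))) (.node (.node (.leaf ([28, (-44)])) (.leaf ([32, (-64)]))) (.leaf ([24, (-72)])))))) (.node (.node (.node (.node (.node (.leaf ([12, (-28)])) (.leaf ([26, (-66)]))) (.node (.leaf ([26, (-50)])) (.leaf ([30, (-70)])))) (.node (.node (.leaf ([20, (-52)])) (.leaf ([32, (-64)]))) (.node (.leaf ([28, (-60)])) (.leaf ([34, (-74)]))))) (.node (.node (.node (.leaf ([18, (-42)])) (.leaf ([34, (-58)])))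 (.node (.leaf ([26, (-50)])) (.leaf ([32, (-80)])))) (.node (.node (.leaf ([18, (-58)])) (.leaf ([30, (-70)]))) (.leaf ([28, (-60)]))))) (.node (.node (.node (.node (.leaf ([14, (-38)])) (.leaf ([24, (-72)]))) (.node (.leaf ([24, (-56)])) (.leaf ([34, (-74)])))) (.node (.node (.leaf ([24, (-40)])) (.leaf ([28, (-76)]))) (.node (.leaf ([24, (-72)])) (.leaf ([34, (-90)]))))) (.node (.node (.node (.leaf ([14, (-54)])) (.leaf ([32, (-64)]))) (.node (.leaf ([20, (-68)])) (.leaf ([32, (-80)])))) (.node (.node (.leaf ([26, (-50)])) (.leaf ([32, (-64)]))) (.leaf ([26, (-66)]))))))) (.node (.node (.node (.node (.node (.node (.leaf ([8, (-24)])) (.leaf ([28, (-60)]))) (.node (.leaf ([26, (-50)])) (.leaf ([26, (-82)])))) (.node (.node (.leaf ([20, (-52)])) (.leaf ([30, (-70)]))) (.node (.leaf ([32, (-48)])) (.leaf ([32, (-80)]))))) (.node (.node (.node (.leaf ([20, (-36)])) (.leaf ([36, (-52)]))) (.node (.leaf ([24, (-56)])) (.leaf ([36, (-68)])))) (.node (.node (.leaf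 ([18, (-58)])) (.leaf ([32, (-64)]))) (.leaf ([26, (-66)]))))) (.node (.node (.node (.node (.leaf ([14, (-38)])) (.leaf ([26, (-66)]))) (.node (.leaf ([22, (-62)])) (.leaf ([26, (-82)])))) (.node (.node (.leaf ([22, (-46)])) (.leaf ([30, (-70)]))) (.node (.leaf ([30, (-54)])) (.leaf ([38, (-78)]))))) (.node (.node (.node (.leaf ([16, (-48)])) (.leaf ([32, (-64)]))) (.node (.leaf ([20, (-68)])) (.leaf ([36, (-68)])))) (.node (.node (.leaf ([24, (-56)])) (.leaf ([30, (-70)]))) (.leaf ([24, (-72)])))))) (.node (.node (.node (.node (.node (.leaf ([10, (-34)])) (.leaf ([26, (-66)]))) (.node (.leaf ([24, (-56)])) (.leaf ([28, (-76)])))) (.node (.node (.leaf ([24, (-40)])) (.leaf ([32, (-64)]))) (.node (.leaf ([30, (-54)])) (.leaf ([36, (-68)]))))) (.node (.node (.node (.leaf ([20, (-36)])) (.leaf ([34, (-58)]))) (.node (.leaf ([20, (-68)])) (.leaf ([36, (-68)])))) (.node (.node (.leaf ([28, (-44)])) (.leaf ([26, (-82)]))) (.leaf ([30, (-54)]))))) (.node (.node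 (.node (.node (.leaf ([12, (-44)])) (.leaf ([28, (-60)]))) (.node (.leaf ([24, (-56)])) (.leaf ([32, (-80)])))) (.node (.node (.leaf ([20, (-52)])) (.leaf ([32, (-64)]))) (.node (.leaf ([24, (-72)])) (.leaf ([34, (-90)]))))) (.node (.node (.node (.leaf ([22, (-46)])) (.leaf ([30, (-70)]))) (.node (.leaf ([28, (-60)])) (.leaf ([34, (-74)])))) (.node (.node (.leaf ([26, (-50)])) (.leaf ([28, (-76)]))) (.leaf ([28, (-60)]))))))))) (.node (.node (.node (.node (.node (.node (.node (.node (.leaf ([2, (-10)])) (.leaf ([30, (-54)]))) (.node (.leaf ([24, (-56)])) (.leaf ([30, (-70)])))) (.node (.node (.leaf ([24, (-40)])) (.leaf ([32, (-64)]))) (.node (.leaf ([28, (-60)])) (.leaf ([32, (-80)]))))) (.node (.node (.node (.leaf ([18, (-42)])) (.leaf ([22, (-78)]))) (.node (.leaf ([22, (-62)])) (.leaf ([34, (-74)])))) (.node (.node (.leaf ([22, (-46)])) (.leaf ([30, (-70)]))) (.leaf ([28, (-60)]))))) (.node (.node (.node (.node (.leaf ([18, (-26)])) (.leaf ([24, (-72)])))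 (.node (.leaf ([22, (-62)])) (.leaf ([26, (-82)])))) (.node (.node (.leaf ([20, (-52)])) (.leaf ([28, (-76)]))) (.node (.leaf ([28, (-60)])) (.leaf ([36, (-68)]))))) (.node (.node (.node (.leaf ([16, (-48)])) (.leaf ([34, (-58)]))) (.node (.leaf ([24, (-56)])) (.leaf ([36, (-68)])))) (.node (.node (.leaf ([28, (-44)])) (.leaf ([34, (-58)]))) (.leaf ([28, (-60)])))))) (.node (.node (.node (.node (.node (.leaf ([12, (-28)])) (.leaf ([28, (-60)]))) (.node (.leaf ([24, (-56)])) (.leaf ([28, (-76)])))) (.node (.node (.leaf ([24, (-40)])) (.leaf ([34, (-58)]))) (.node (.leaf ([26, (-66)])) (.leaf ([32, (-80)]))))) (.node (.node (.node (.leaf ([16, (-48)])) (.leaf ([34, (-58)]))) (.node (.leaf ([22, (-62)])) (.leaf ([34, (-74)])))) (.node (.node (.leaf ([18, (-58)])) (.leaf ([32, (-64)]))) (.leaf ([26, (-66)]))))) (.node (.node (.node (.node (.leaf ([16, (-32)])) (.leaf ([28, (-60)]))) (.node (.leaf ([26, (-50)])) (.leaf ([26, (-82)])))) (.node (.node (.leaf ([20,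 (-52)])) (.leaf ([32, (-64)]))) (.node (.leaf ([26, (-66)])) (.leaf ([36, (-84)]))))) (.node (.node (.node (.leaf ([14, (-54)])) (.leaf ([30, (-70)]))) (.node (.leaf ([22, (-62)])) (.leaf ([38, (-62)])))) (.node (.node (.leaf ([24, (-56)])) (.leaf ([32, (-64)]))) (.leaf ([28, (-60)]))))))) (.node (.node (.node (.node (.node (.node (.leaf ([8, (-24)])) (.leaf ([24, (-72)]))) (.node (.leaf ([28, (-44)])) (.leaf ([30, (-70)])))) (.node (.node (.leaf ([22, (-46)])) (.leaf ([32, (-64)]))) (.node (.leaf ([28, (-60)])) (.leaf ([34, (-74)]))))) (.node (.node (.node (.leaf ([16, (-48)])) (.leaf ([24, (-72)]))) (.node (.leaf ([22, (-62)])) (.leaf ([34, (-74)])))) (.node (.node (.leaf ([18, (-58)])) (.leaf ([30, (-70)]))) (.leaf ([26, (-66)]))))) (.node (.node (.node (.node (.leaf ([16, (-32)])) (.leaf ([24, (-72)]))) (.node (.leaf ([22, (-62)])) (.leaf ([26, (-82)])))) (.node (.node (.leaf ([24, (-40)])) (.leaf ([32, (-64)]))) (.node (.leaf ([30, (-54)])) (.leaf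 ([42, (-66)]))))) (.node (.node (.node (.leaf ([16, (-48)])) (.leaf ([32, (-64)]))) (.node (.leaf ([24, (-56)])) (.leaf ([34, (-74)])))) (.node (.node (.leaf ([24, (-56)])) (.leaf ([32, (-64)]))) (.leaf ([24, (-72)])))))) (.node (.node (.node (.node (.node (.leaf ([10, (-34)])) (.leaf ([26, (-66)]))) (.node (.leaf ([22, (-62)])) (.leaf ([28, (-76)])))) (.node (.node (.leaf ([20, (-52)])) (.leaf ([30, (-70)]))) (.node (.leaf ([32, (-48)])) (.leaf ([34, (-74)]))))) (.node (.node (.node (.leaf ([20, (-36)])) (.leaf ([30, (-70)]))) (.node (.leaf ([24, (-56)])) (.leaf ([34, (-74)])))) (.node (.node (.leaf ([16, (-64)])) (.leaf ([26, (-82)]))) (.leaf ([26, (-66)]))))) (.node (.node (.node (.node (.leaf ([14, (-38)])) (.leaf ([26, (-66)]))) (.node (.leaf ([26, (-50)])) (.leaf ([36, (-68)])))) (.node (.node (.leaf ([18, (-58)])) (.leaf ([30, (-70)]))) (.node (.leaf ([26, (-66)])) (.leaf ([36, (-84)]))))) (.node (.node (.node (.leaf ([24, (-40)])) (.leaf ([32, (-64)])))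 (.node (.leaf ([30, (-54)])) (.leaf ([34, (-74)])))) (.node (.node (.leaf ([28, (-44)])) (.leaf ([30, (-70)]))) (.leaf ([30, (-54)])))))))) (.node (.node (.node (.node (.node (.node (.node (.leaf ([4, (-20)])) (.leaf ([26, (-66)]))) (.node (.leaf ([28, (-44)])) (.leaf ([30, (-70)])))) (.node (.node (.leaf ([22, (-46)])) (.leaf ([34, (-58)]))) (.node (.leaf ([32, (-48)])) (.leaf ([30, (-86)]))))) (.node (.node (.node (.leaf ([18, (-42)])) (.leaf ([26, (-66)]))) (.node (.leaf ([22, (-62)])) (.leaf ([38, (-62)])))) (.node (.node (.leaf ([18, (-58)])) (.leaf ([28, (-76)]))) (.leaf ([30, (-54)]))))) (.node (.node (.node (.node (.leaf ([18, (-26)])) (.leaf ([26, (-66)]))) (.node (.leaf ([20, (-68)])) (.leaf ([30, (-70)])))) (.node (.node (.leaf ([20, (-52)])) (.leaf ([34, (-58)]))) (.node (.leaf ([26, (-66)])) (.leaf ([32, (-80)]))))) (.node (.node (.node (.leaf ([14, (-54)])) (.leaf ([32, (-64)]))) (.node (.leaf ([22, (-62)])) (.leaf ([34, (-74)])))) (.node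 (.node (.leaf ([24, (-56)])) (.leaf ([30, (-70)]))) (.leaf ([24, (-72)])))))) (.node (.node (.node (.node (.node (.leaf ([10, (-34)])) (.leaf ([24, (-72)]))) (.node (.leaf ([24, (-56)])) (.leaf ([28, (-76)])))) (.node (.node (.leaf ([22, (-46)])) (.leaf ([32, (-64)]))) (.node (.leaf ([26, (-66)])) (.leaf ([32, (-80)]))))) (.node (.node (.node (.leaf ([16, (-48)])) (.leaf ([32, (-64)]))) (.node (.leaf ([24, (-56)])) (.leaf ([36, (-68)])))) (.node (.node (.leaf ([16, (-64)])) (.leaf ([32, (-64)]))) (.leaf ([28, (-60)]))))) (.node (.node (.node (.node (.leaf ([16, (-32)])) (.leaf ([26, (-66)]))) (.node (.leaf ([24, (-56)])) (.leaf ([34, (-74)])))) (.node (.node (.leaf ([22, (-46)])) (.leaf ([32, (-64)]))) (.node (.leaf ([28, (-60)])) (.leaf ([36, (-84)]))))) (.node (.node (.node (.leaf ([24, (-40)])) (.leaf ([30, (-70)]))) (.node (.leaf ([20, (-68)])) (.leaf ([32, (-80)])))) (.node (.node (.leaf ([26, (-50)])) (.leaf ([30, (-70)]))) (.leaf ([24, (-72)])))))))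 (.node (.node (.node (.node (.node (.node (.leaf ([6, (-30)])) (.leaf ([26, (-66)]))) (.node (.leaf ([24, (-56)])) (.leaf ([26, (-82)])))) (.node (.node (.leaf ([20, (-52)])) (.leaf ([30, (-70)]))) (.node (.leaf ([30, (-54)])) (.leaf ([32, (-80)]))))) (.node (.node (.node (.leaf ([18, (-42)])) (.leaf ([34, (-58)]))) (.node (.leaf ([24, (-56)])) (.leaf ([36, (-68)])))) (.node (.node (.leaf ([16, (-64)])) (.leaf ([30, (-70)]))) (.leaf ([28, (-60)]))))) (.node (.node (.node (.node (.leaf ([18, (-26)])) (.leaf ([24, (-72)]))) (.node (.leaf ([24, (-56)])) (.leaf ([30, (-70)])))) (.node (.node (.leaf ([24, (-40)])) (.leaf ([32, (-64)]))) (.node (.leaf ([30, (-54)])) (.leaf ([36, (-84)]))))) (.node (.node (.node (.leaf ([14, (-54)])) (.leaf ([32, (-64)]))) (.node (.leaf ([22, (-62)])) (.leaf ([34, (-74)])))) (.node (.node (.leaf ([28, (-44)])) (.leaf ([30, (-70)]))) (.leaf ([26, (-66)])))))) (.node (.node (.node (.node (.node (.leaf ([8, (-40)])) (.leaf ([26,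 (-66)]))) (.node (.leaf ([24, (-56)])) (.leaf ([30, (-70)])))) (.node (.node (.leaf ([22, (-46)])) (.leaf ([32, (-64)]))) (.node (.leaf ([28, (-60)])) (.leaf ([32, (-80)]))))) (.node (.node (.node (.leaf ([16, (-48)])) (.leaf ([32, (-64)]))) (.node (.leaf ([24, (-56)])) (.leaf ([34, (-74)])))) (.node (.node (.leaf ([28, (-44)])) (.leaf ([28, (-76)]))) (.leaf ([28, (-60)]))))) (.node (.node (.node (.node (.leaf ([20, (-36)])) (.leaf ([26, (-66)]))) (.node (.leaf ([24, (-56)])) (.leaf ([34, (-74)])))) (.node (.node (.leaf ([18, (-58)])) (.leaf ([32, (-64)]))) (.node (.leaf ([30, (-54)])) (.leaf ([40, (-88)]))))) (.node (.node (.node (.leaf ([22, (-46)])) (.leaf ([32, (-64)]))) (.node (.leaf ([30, (-54)])) (.leaf ([36, (-68)])))) (.node (.node (.leaf ([24, (-56)])) (.leaf ([30, (-70)]))) (.leaf ([28, (-60)])))))))))) (.node (.node (.node (.node (.node (.node (.node (.node (.node (.leaf ([4, (-4)])) (.leaf ([30, (-54)]))) (.node (.leaf ([26, (-50)])) (.leaf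 ([32, (-64)])))) (.node (.node (.leaf ([26, (-34)])) (.leaf ([30, (-70)]))) (.node (.leaf ([30, (-54)])) (.leaf ([32, (-80)]))))) (.node (.node (.node (.leaf ([20, (-36)])) (.leaf ([24, (-72)]))) (.node (.leaf ([22, (-62)])) (.leaf ([38, (-62)])))) (.node (.node (.leaf ([18, (-58)])) (.leaf ([28, (-76)]))) (.leaf ([28, (-60)]))))) (.node (.node (.node (.node (.leaf ([16, (-32)])) (.leaf ([26, (-66)]))) (.node (.leaf ([24, (-56)])) (.leaf ([28, (-76)])))) (.node (.node (.leaf ([20, (-52)])) (.leaf ([32, (-64)]))) (.node (.leaf ([30, (-54)])) (.leaf ([32, (-80)]))))) (.node (.node (.node (.leaf ([18, (-42)])) (.leaf ([34, (-58)]))) (.node (.leaf ([20, (-68)])) (.leaf ([32, (-80)])))) (.node (.node (.leaf ([30, (-38)])) (.leaf ([32, (-64)]))) (.leaf ([28, (-60)])))))) (.node (.node (.node (.node (.node (.leaf ([14, (-22)])) (.leaf ([24, (-72)]))) (.node (.leaf ([26, (-50)])) (.leaf ([30, (-70)])))) (.node (.node (.leaf ([22, (-46)])) (.leaf ([32, (-64)])))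 (.node (.leaf ([28, (-60)])) (.leaf ([34, (-74)]))))) (.node (.node (.node (.leaf ([18, (-42)])) (.leaf ([30, (-70)]))) (.node (.leaf ([24, (-56)])) (.leaf ([34, (-74)])))) (.node (.node (.leaf ([20, (-52)])) (.leaf ([28, (-76)]))) (.leaf ([28, (-60)]))))) (.node (.node (.node (.node (.leaf ([14, (-38)])) (.leaf ([26, (-66)]))) (.node (.leaf ([20, (-68)])) (.leaf ([28, (-76)])))) (.node (.node (.leaf ([20, (-52)])) (.leaf ([30, (-70)]))) (.node (.leaf ([28, (-60)])) (.leaf ([38, (-78)]))))) (.node (.node (.node (.leaf ([16, (-48)])) (.leaf ([30, (-70)]))) (.node (.leaf ([18, (-74)])) (.leaf ([36, (-68)])))) (.node (.node (.leaf ([26, (-50)])) (.leaf ([32, (-64)]))) (.leaf ([24, (-72)]))))))) (.node (.node (.node (.node (.node (.node (.leaf ([10, (-18)])) (.leaf ([26, (-66)]))) (.node (.leaf ([24, (-56)])) (.leaf ([28, (-76)])))) (.node (.node (.leaf ([24, (-40)])) (.leaf ([34, (-58)]))) (.node (.leaf ([28, (-60)])) (.leaf ([36, (-68)]))))) (.node (.node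 (.node (.leaf ([18, (-42)])) (.leaf ([26, (-66)]))) (.node (.leaf ([22, (-62)])) (.leaf ([36, (-68)])))) (.node (.node (.leaf ([20, (-52)])) (.leaf ([32, (-64)]))) (.leaf ([28, (-60)]))))) (.node (.node (.node (.node (.leaf ([14, (-38)])) (.leaf ([26, (-66)]))) (.node (.leaf ([24, (-56)])) (.leaf ([30, (-70)])))) (.node (.node (.leaf ([18, (-58)])) (.leaf ([30, (-70)]))) (.node (.leaf ([26, (-66)])) (.leaf ([38, (-78)]))))) (.node (.node (.node (.leaf ([18, (-42)])) (.leaf ([34, (-58)]))) (.node (.leaf ([22, (-62)])) (.leaf ([36, (-68)])))) (.node (.node (.leaf ([26, (-50)])) (.leaf ([28, (-76)]))) (.leaf ([26, (-66)])))))) (.node (.node (.node (.node (.node (.leaf ([12, (-28)])) (.leaf ([28, (-60)]))) (.node (.leaf ([22, (-62)])) (.leaf ([30, (-70)])))) (.node (.node (.leaf ([20, (-52)])) (.leaf ([28, (-76)]))) (.node (.leaf ([28, (-60)])) (.leaf ([36, (-68)]))))) (.node (.node (.node (.leaf ([16, (-48)])) (.leaf ([32, (-64)]))) (.node (.leaf ([24, (-56)]))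 (.leaf ([38, (-62)])))) (.node (.node (.leaf ([18, (-58)])) (.leaf ([32, (-64)]))) (.leaf ([28, (-60)]))))) (.node (.node (.node (.node (.leaf ([12, (-44)])) (.leaf ([24, (-72)]))) (.node (.leaf ([28, (-44)])) (.leaf ([34, (-74)])))) (.node (.node (.leaf ([20, (-52)])) (.leaf ([28, (-76)]))) (.node (.leaf ([28, (-60)])) (.leaf ([36, (-84)]))))) (.node (.node (.node (.leaf ([26, (-34)])) (.leaf ([32, (-64)]))) (.node (.leaf ([32, (-48)])) (.leaf ([32, (-80)])))) (.node (.node (.leaf ([22, (-62)])) (.leaf ([32, (-64)]))) (.leaf ([30, (-54)])))))))) (.node (.node (.node (.node (.node (.node (.node (.leaf ([6, (-14)])) (.leaf ([30, (-54)]))) (.node (.leaf ([22, (-62)])) (.leaf ([26, (-82)])))) (.node (.node (.leaf ([24, (-40)])) (.leaf ([32, (-64)]))) (.node (.leaf ([28, (-60)])) (.leaf ([32, (-80)]))))) (.node (.node (.node (.leaf ([20, (-36)])) (.leaf ([22, (-78)]))) (.node (.leaf ([26, (-50)])) (.leaf ([36, (-68)])))) (.node (.node (.leaf ([20, (-52)]))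 (.leaf ([30, (-70)]))) (.leaf ([30, (-54)]))))) (.node (.node (.node (.node (.leaf ([14, (-38)])) (.leaf ([28, (-60)]))) (.node (.leaf ([22, (-62)])) (.leaf ([28, (-76)])))) (.node (.node (.leaf ([20, (-52)])) (.leaf ([34, (-58)]))) (.node (.leaf ([28, (-60)])) (.leaf ([34, (-74)]))))) (.node (.node (.node (.leaf ([16, (-48)])) (.leaf ([30, (-70)]))) (.node (.leaf ([20, (-68)])) (.leaf ([32, (-80)])))) (.node (.node (.leaf ([26, (-50)])) (.leaf ([28, (-76)]))) (.leaf ([30, (-54)])))))) (.node (.node (.node (.node (.node (.leaf ([12, (-28)])) (.leaf ([26, (-66)]))) (.node (.leaf ([24, (-56)])) (.leaf ([28, (-76)])))) (.node (.node (.leaf ([24, (-40)])) (.leaf ([34, (-58)]))) (.node (.leaf ([26, (-66)])) (.leaf ([36, (-68)]))))) (.node (.node (.node (.leaf ([18, (-42)])) (.leaf ([32, (-64)]))) (.node (.leaf ([24, (-56)])) (.leaf ([34, (-74)])))) (.node (.node (.leaf ([18, (-58)])) (.leaf ([28, (-76)]))) (.leaf ([26, (-66)]))))) (.node (.node (.node (.node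 (.leaf ([12, (-44)])) (.leaf ([28, (-60)]))) (.node (.leaf ([26, (-50)])) (.leaf ([36, (-68)])))) (.node (.node (.leaf ([22, (-46)])) (.leaf ([32, (-64)]))) (.node (.leaf ([30, (-54)])) (.leaf ([38, (-78)]))))) (.node (.node (.node (.leaf ([26, (-34)])) (.leaf ([32, (-64)]))) (.node (.leaf ([22, (-62)])) (.leaf ([34, (-74)])))) (.node (.node (.leaf ([24, (-56)])) (.leaf ([30, (-70)]))) (.leaf ([26, (-66)]))))))) (.node (.node (.node (.node (.node (.node (.leaf ([8, (-24)])) (.leaf ([28, (-60)]))) (.node (.leaf ([24, (-56)])) (.leaf ([30, (-70)])))) (.node (.node (.leaf ([22, (-46)])) (.leaf ([32, (-64)]))) (.node (.leaf ([30, (-54)])) (.leaf ([32, (-80)]))))) (.node (.node (.node (.leaf ([20, (-36)])) (.leaf ([32, (-64)]))) (.node (.leaf ([22, (-62)])) (.leaf ([38, (-62)])))) (.node (.node (.leaf ([18, (-58)])) (.leaf ([30, (-70)]))) (.leaf ([30, (-54)]))))) (.node (.node (.node (.node (.leaf ([12, (-44)])) (.leaf ([26, (-66)]))) (.node (.leaf ([22, (-62)]))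 (.leaf ([26, (-82)])))) (.node (.node (.leaf ([20, (-52)])) (.leaf ([34, (-58)]))) (.node (.leaf ([28, (-60)])) (.leaf ([38, (-78)]))))) (.node (.node (.node (.leaf ([16, (-48)])) (.leaf ([34, (-58)]))) (.node (.leaf ([24, (-56)])) (.leaf ([34, (-74)])))) (.node (.node (.leaf ([24, (-56)])) (.leaf ([28, (-76)]))) (.leaf ([28, (-60)])))))) (.node (.node (.node (.node (.node (.leaf ([10, (-34)])) (.leaf ([24, (-72)]))) (.node (.leaf ([26, (-50)])) (.leaf ([26, (-82)])))) (.node (.node (.leaf ([22, (-46)])) (.leaf ([30, (-70)]))) (.node (.leaf ([28, (-60)])) (.leaf ([34, (-74)]))))) (.node (.node (.node (.leaf ([18, (-42)])) (.leaf ([34, (-58)]))) (.node (.leaf ([26, (-50)])) (.leaf ([36, (-68)])))) (.node (.node (.leaf ([26, (-50)])) (.leaf ([30, (-70)]))) (.leaf ([28, (-60)]))))) (.node (.node (.node (.node (.leaf ([22, (-30)])) (.leaf ([26, (-66)]))) (.node (.leaf ([26, (-50)])) (.leaf ([36, (-68)])))) (.node (.node (.leaf ([20, (-52)])) (.leaf ([30, (-70)])))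 (.node (.leaf ([30, (-54)])) (.leaf ([40, (-72)]))))) (.node (.node (.node (.leaf ([24, (-40)])) (.leaf ([36, (-52)]))) (.node (.leaf ([32, (-48)])) (.leaf ([32, (-80)])))) (.node (.node (.leaf ([26, (-50)])) (.leaf ([30, (-70)]))) (.leaf ([26, (-66)]))))))))) (.node (.node (.node (.node (.node (.node (.node (.node (.leaf ([8, (-8)])) (.leaf ([28, (-60)]))) (.node (.leaf ([24, (-56)])) (.leaf ([28, (-76)])))) (.node (.node (.leaf ([24, (-40)])) (.leaf ([30, (-70)]))) (.node (.leaf ([32, (-48)])) (.leaf ([32, (-80)]))))) (.node (.node (.node (.leaf ([22, (-30)])) (.leaf ([26, (-66)]))) (.node (.leaf ([26, (-50)])) (.leaf ([34, (-74)])))) (.node (.node (.leaf ([20, (-52)])) (.leaf ([30, (-70)]))) (.leaf ([26, (-66)]))))) (.node (.node (.node (.node (.leaf ([16, (-32)])) (.leaf ([26, (-66)]))) (.node (.leaf ([24, (-56)])) (.leaf ([28, (-76)])))) (.node (.node (.leaf ([18, (-58)])) (.leaf ([30, (-70)]))) (.node (.leaf ([28, (-60)])) (.leaf ([32, (-80)])))))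 (.node (.node (.node (.leaf ([18, (-42)])) (.leaf ([34, (-58)]))) (.node (.leaf ([22, (-62)])) (.leaf ([32, (-80)])))) (.node (.node (.leaf ([26, (-50)])) (.leaf ([34, (-58)]))) (.leaf ([26, (-66)])))))) (.node (.node (.node (.node (.node (.leaf ([14, (-22)])) (.leaf ([26, (-66)]))) (.node (.leaf ([24, (-56)])) (.leaf ([32, (-64)])))) (.node (.node (.leaf ([22, (-46)])) (.leaf ([32, (-64)]))) (.node (.leaf ([28, (-60)])) (.leaf ([30, (-86)]))))) (.node (.node (.node (.leaf ([20, (-36)])) (.leaf ([34, (-58)]))) (.node (.leaf ([22, (-62)])) (.leaf ([36, (-68)])))) (.node (.node (.leaf ([20, (-52)])) (.leaf ([30, (-70)]))) (.leaf ([30, (-54)]))))) (.node (.node (.node (.node (.leaf ([14, (-38)])) (.leaf ([24, (-72)]))) (.node (.leaf ([26, (-50)])) (.leaf ([40, (-56)])))) (.node (.node (.leaf ([18, (-58)])) (.leaf ([30, (-70)]))) (.node (.leaf ([26, (-66)])) (.leaf ([38, (-78)]))))) (.node (.node (.node (.leaf ([16, (-48)])) (.leaf ([28, (-76)]))) (.node (.leaf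 ([22, (-62)])) (.leaf ([36, (-68)])))) (.node (.node (.leaf ([28, (-44)])) (.leaf ([30, (-70)]))) (.leaf ([24, (-72)]))))))) (.node (.node (.node (.node (.node (.node (.leaf ([10, (-18)])) (.leaf ([30, (-54)]))) (.node (.leaf ([26, (-50)])) (.leaf ([28, (-76)])))) (.node (.node (.leaf ([22, (-46)])) (.leaf ([30, (-70)]))) (.node (.leaf ([26, (-66)])) (.leaf ([34, (-74)]))))) (.node (.node (.node (.leaf ([22, (-30)])) (.leaf ([22, (-78)]))) (.node (.leaf ([26, (-50)])) (.leaf ([34, (-74)])))) (.node (.node (.leaf ([20, (-52)])) (.leaf ([28, (-76)]))) (.leaf ([28, (-60)]))))) (.node (.node (.node (.node (.leaf ([14, (-38)])) (.leaf ([28, (-60)]))) (.node (.leaf ([24, (-56)])) (.leaf ([30, (-70)])))) (.node (.node (.leaf ([22, (-46)])) (.leaf ([30, (-70)]))) (.node (.leaf ([28, (-60)])) (.leaf ([40, (-72)]))))) (.node (.node (.node (.leaf ([18, (-42)])) (.leaf ([34, (-58)]))) (.node (.leaf ([22, (-62)])) (.leaf ([34, (-74)])))) (.node (.node (.leaf ([26, (-50)]))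 (.leaf ([34, (-58)]))) (.leaf ([26, (-66)])))))) (.node (.node (.node (.node (.node (.leaf ([12, (-28)])) (.leaf ([28, (-60)]))) (.node (.leaf ([26, (-50)])) (.leaf ([26, (-82)])))) (.node (.node (.leaf ([18, (-58)])) (.leaf ([28, (-76)]))) (.node (.leaf ([30, (-54)])) (.leaf ([32, (-80)]))))) (.node (.node (.node (.leaf ([18, (-42)])) (.leaf ([36, (-52)]))) (.node (.leaf ([22, (-62)])) (.leaf ([34, (-74)])))) (.node (.node (.leaf ([30, (-38)])) (.leaf ([28, (-76)]))) (.leaf ([26, (-66)]))))) (.node (.node (.node (.node (.leaf ([12, (-44)])) (.leaf ([24, (-72)]))) (.node (.leaf ([26, (-50)])) (.leaf ([34, (-74)])))) (.node (.node (.leaf ([22, (-46)])) (.leaf ([28, (-76)]))) (.node (.leaf ([26, (-66)])) (.leaf ([34, (-90)]))))) (.node (.node (.node (.leaf ([24, (-40)])) (.leaf ([32, (-64)]))) (.node (.leaf ([30, (-54)])) (.leaf ([34, (-74)])))) (.node (.node (.leaf ([26, (-50)])) (.leaf ([32, (-64)]))) (.leaf ([30, (-54)])))))))) (.node (.node (.node (.node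 (.node (.node (.node (.leaf ([12, (-12)])) (.leaf ([28, (-60)]))) (.node (.leaf ([26, (-50)])) (.leaf ([28, (-76)])))) (.node (.node (.leaf ([22, (-46)])) (.leaf ([30, (-70)]))) (.node (.leaf ([30, (-54)])) (.leaf ([34, (-74)]))))) (.node (.node (.node (.leaf ([20, (-36)])) (.leaf ([24, (-72)]))) (.node (.leaf ([24, (-56)])) (.leaf ([38, (-62)])))) (.node (.node (.leaf ([22, (-46)])) (.leaf ([32, (-64)]))) (.leaf ([28, (-60)]))))) (.node (.node (.node (.node (.leaf ([16, (-32)])) (.leaf ([28, (-60)]))) (.node (.leaf ([26, (-50)])) (.leaf ([28, (-76)])))) (.node (.node (.leaf ([18, (-58)])) (.leaf ([34, (-58)]))) (.node (.leaf ([28, (-60)])) (.leaf ([32, (-80)]))))) (.node (.node (.node (.leaf ([20, (-36)])) (.leaf ([30, (-70)]))) (.node (.leaf ([20, (-68)])) (.leaf ([34, (-74)])))) (.node (.node (.leaf ([28, (-44)])) (.leaf ([30, (-70)]))) (.leaf ([28, (-60)])))))) (.node (.node (.node (.node (.node (.leaf ([14, (-22)])) (.leaf ([26, (-66)]))) (.node (.leaf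 ([22, (-62)])) (.leaf ([30, (-70)])))) (.node (.node (.leaf ([20, (-52)])) (.leaf ([30, (-70)]))) (.node (.leaf ([30, (-54)])) (.leaf ([32, (-80)]))))) (.node (.node (.node (.leaf ([18, (-42)])) (.leaf ([30, (-70)]))) (.node (.leaf ([22, (-62)])) (.leaf ([34, (-74)])))) (.node (.node (.leaf ([20, (-52)])) (.leaf ([30, (-70)]))) (.leaf ([26, (-66)]))))) (.node (.node (.node (.node (.leaf ([14, (-38)])) (.leaf ([26, (-66)]))) (.node (.leaf ([24, (-56)])) (.leaf ([38, (-62)])))) (.node (.node (.leaf ([20, (-52)])) (.leaf ([30, (-70)]))) (.node (.leaf ([28, (-60)])) (.leaf ([38, (-78)]))))) (.node (.node (.node (.leaf ([24, (-40)])) (.leaf ([30, (-70)]))) (.node (.leaf ([18, (-74)])) (.leaf ([34, (-74)])))) (.node (.node (.leaf ([24, (-56)])) (.leaf ([28, (-76)]))) (.leaf ([26, (-66)]))))))) (.node (.node (.node (.node (.node (.node (.leaf ([16, (-16)])) (.leaf ([30, (-54)]))) (.node (.leaf ([22, (-62)])) (.leaf ([32, (-64)])))) (.node (.node (.leaf ([20, (-52)]))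 (.leaf ([30, (-70)]))) (.node (.leaf ([30, (-54)])) (.leaf ([30, (-86)]))))) (.node (.node (.node (.leaf ([20, (-36)])) (.leaf ([32, (-64)]))) (.node (.leaf ([22, (-62)])) (.leaf ([36, (-68)])))) (.node (.node (.leaf ([22, (-46)])) (.leaf ([28, (-76)]))) (.leaf ([30, (-54)]))))) (.node (.node (.node (.node (.leaf ([16, (-32)])) (.leaf ([24, (-72)]))) (.node (.leaf ([22, (-62)])) (.leaf ([28, (-76)])))) (.node (.node (.leaf ([22, (-46)])) (.leaf ([30, (-70)]))) (.node (.leaf ([28, (-60)])) (.leaf ([38, (-78)]))))) (.node (.node (.node (.leaf ([18, (-42)])) (.leaf ([30, (-70)]))) (.node (.leaf ([20, (-68)])) (.leaf ([32, (-80)])))) (.node (.node (.leaf ([26, (-50)])) (.leaf ([28, (-76)]))) (.leaf ([28, (-60)])))))) (.node (.node (.node (.node (.node (.leaf ([18, (-26)])) (.leaf ([24, (-72)]))) (.node (.leaf ([22, (-62)])) (.leaf ([28, (-76)])))) (.node (.node (.leaf ([20, (-52)])) (.leaf ([30, (-70)]))) (.node (.leaf ([26, (-66)])) (.leaf ([32, (-80)])))))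 (.node (.node (.node (.leaf ([20, (-36)])) (.leaf ([32, (-64)]))) (.node (.leaf ([24, (-56)])) (.leaf ([38, (-62)])))) (.node (.node (.leaf ([26, (-50)])) (.leaf ([28, (-76)]))) (.leaf ([26, (-66)]))))) (.node (.node (.node (.node (.leaf ([22, (-30)])) (.leaf ([28, (-60)]))) (.node (.leaf ([22, (-62)])) (.leaf ([40, (-56)])))) (.node (.node (.leaf ([20, (-52)])) (.leaf ([28, (-76)]))) (.node (.leaf ([28, (-60)])) (.leaf ([38, (-94)]))))) (.node (.node (.node (.leaf ([22, (-46)])) (.leaf ([34, (-58)]))) (.node (.leaf ([30, (-54)])) (.leaf ([30, (-86)])))) (.node (.node (.leaf ([24, (-56)])) (.leaf ([28, (-76)]))) (.leaf ([26, (-66)]))))))))))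

/-- the table -/
def table3 : Table where
  size := 960
  ngen := 2
  next g x := next3.getK (2 * g + x)
  prev g x := prev3.getK (2 * g + x)
  lab g x := lab3.getK (2 * g + x)
  val g x := val3.getK (2 * g + x)
  rank g x := rank3.getK (2 * g + x)
  tree g := tree3.getK g
  cert j := cert3.getK j
  nded := 961
  rels := [⟨[(0, true), (0, true), (0, true), (0, true), (0, true)], [], [1]⟩,
    ⟨[(1, true), (1, true), (1, true), (1, true), (1, true)], [], [0, 1]⟩,
    ⟨[(0, false), (1, false), (0, true), (1, true), (1, true), (0, true), (0, true), (1, true), (0, false), (1, false), (1, false), (0, false)], [], [0, 0, 1]⟩,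
    ⟨[(0, true), (1, false), (0, true), (1, false), (0, true), (1, false)], [], [0, 0, 0, 1]⟩,
    ⟨[(0, false), (0, false), (1, false), (0, true), (1, true), (0, false), (1, true), (0, true), (1, false), (0, false)], [], [0, 0, 0, 0, 1]⟩]
  pot g := pot3.getK g
  innerSize := 1
  innerGen := 0

/-- the table with its checks -/
def level3 : CfsgLib.Sporadic.ChainLevel where
  table := table3
  gexp := [[4, (-4)], [2, (-10)]]
  perm := [984521730453278261370445809380306037241632193422549176673153880844214797872763402400838847418487524875945243002876691642891745491852955949170843396621058255663260526796300119455207829366229131742735057871046064519633276010043292866562177411350672230321603672533761560328895396609997117547732034159616, 942747644981349160088238172619770853240006902803466148497776050304372496521625696631779273972999534520457616678736981995340697965941140179957334707761885619289921405369086356602564402941717504531698532336801097539618743781538806617472626178596756516859498290119877314153687411054148570644240012429312]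
  pinv := [911345662375334859199048635373059307537528743819837340900776124750433480248016749247600056883231813610216916984288609041848996824062459158541833481980628960963947594431778977574372476140273688173531533639630741229654297514550706255627186042784378775508209871896445772311678729253787442304545378542592, 984419673003172735959136762179415821181871640077616218763380995231022008809925423565642242410489641085191062312281162209506849128800712206221285449009646594650725792348255743918451786406228948501051377578828398444075432411479067545877302655610196993345652605224398739539192304896636086275770892197888]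
  defs := []
  eqs := [(0, 82, [0, 0, (-4)])]
  pts := [1, 2]

end CfsgLib.Sporadic.MultHs
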